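import Cfsg.Agent.Lib.OrthFix.Subspaces
import Cfsg.Agent.Helper57Levi

/-!
An involution of `Ω⁺` in characteristic two all of whose invariant non-degenerate subspaces are of plus type.
-/

set_option autoImplicit false
set_option linter.unusedSectionVars false

namespace CfsgLib.OrthFix57

open Matrix QuadraticMap CfsgLib.Orth CfsgLib.OrthFix

variable {F : Type*} [Field F] {ι : Type} [Fintype ι] [DecidableEq ι]

theorem exists_sub_finrank {V : Type*} [AddCommGroup V] [Module F V] [FiniteDimensional F V]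
    (W : Submodule F V) {j : ℕ} (hj : j ≤ Module.finrank F W) :
    ∃ U ≤ W, Module.finrank F U = j := by
  let b := Module.finBasis F W
  let f : Fin j → V := fun i => (b (Fin.castLE hj i) : V)
  have hf : LinearIndependent F f :=
    (b.linearIndependent.map' W.subtype (Submodule.ker_subtype W)).comp _ (Fin.castLE_injective hj)
  refine ⟨Submodule.span F (Set.range f), Submodule.span_le.2 ?_, ?_⟩
  · rintro _ ⟨i, rfl⟩
    exact (b _).2
  · rw [finrank_span_eq_card hf, Fintype.card_fin]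

/-- Moved vectors lie in a totally singular subspace which is of codimension at most one among fixed ones. -/
theorem isPlusTypeOn_invariant {Q : (ι → F) → F} {X : Matrix ι ι F} {L : Submodule F (ι → F)}
    (hL : Cfsg.Geo.IsTotallySingularQuad Q L) (hmov : ∀ v, X *ᵥ v - v ∈ L) (f : (ι → F) →ₗ[F] F)
    (hfix : ∀ v, X *ᵥ v = v → f v = 0 → v ∈ L) {W : Submodule F (ι → F)} (hW : Inv X W) {j : ℕ}
    (hj : Module.finrank F W = 2 * j) : Cfsg.Geo.IsPlusTypeOn Q W := by
  let g : W →ₗ[F] (ι → F) := (Matrix.toLin' X - LinearMap.id).comp W.subtype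
  have hg : ∀ w : W, g w = X *ᵥ (w : ι → F) - w := fun w => by simp [g]
  have hR : LinearMap.range g ≤ W ⊓ L := by
    rintro _ ⟨w, rfl⟩
    rw [hg]
    exact ⟨W.sub_mem (apply_invariant hW w.2) w.2, hmov _⟩
  let K : Submodule F (ι → F) := (LinearMap.ker g).map W.subtype
  have hK : Module.finrank F K = Module.finrank F (LinearMap.ker g) := Submodule.finrank_map_subtype_eq W _
  let φ : K →ₗ[F] F := f.comp K.subtype
  have hker : Module.finrank F (LinearMap.ker φ) ≤ Module.finrank F (W ⊓ L : Submodule F (ι → F)) := by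
    rw [← Submodule.finrank_map_subtype_eq K (LinearMap.ker φ)]
    refine Submodule.finrank_mono ?_
    rintro _ ⟨⟨u, hu⟩, hu0, rfl⟩
    obtain ⟨w, hw, rfl⟩ := hu
    exact ⟨w.2, hfix _ (sub_eq_zero.1 ((hg w).symm.trans hw)) hu0⟩
  have h1 := LinearMap.finrank_range_add_finrank_ker g
  have h2 := LinearMap.finrank_range_add_finrank_ker φ
  have h3 : Module.finrank F (LinearMap.range φ) ≤ 1 :=
    (Submodule.finrank_le _).trans (le_of_eq (Module.finrank_self F))
  have h4 := Submodule.finrank_mono hR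
  obtain ⟨U, hU, hUd⟩ := exists_sub_finrank (W ⊓ L) (j := j) (by omega)
  exact ⟨U, hU.trans inf_le_left, fun u hu => hL u (hU hu).2, by omega⟩

variable [Fintype F]

/-- The pairing matrix. -/
def pairMat (F : Type*) [Field F] (d : ℕ) : Matrix (Fin d) (Fin d) F :=
  fun i j => (if j = i then 1 else 0) + if i.1 % 2 = 0 ∧ j.1 = i.1 + 1 then 1 else 0

theorem pairMat_mulVec (d : ℕ) (v : Fin d → F) (i : Fin d) :
    (pairMat F d *ᵥ v) i = v i + if h : i.1 % 2 = 0 ∧ i.1 + 1 < d then v ⟨i.1 + 1, h.2⟩ else 0 := by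
  simp only [mulVec, dotProduct, pairMat, add_mul, ite_mul, one_mul, zero_mul, Finset.sum_add_distrib,
    Finset.sum_ite_eq', Finset.mem_univ, if_true]
  congr 1
  split_ifs with h
  · rw [Finset.sum_eq_single ⟨i.1 + 1, h.2⟩]
    · rw [if_pos ⟨h.1, rfl⟩]
    · intro b _ hb
      rw [if_neg]
      rintro ⟨-, e⟩
      exact hb (Fin.ext e)
    · simp
  · exact Finset.sum_eq_zero fun b _ => if_neg fun (e : i.1 % 2 = 0 ∧ b.1 = i.1 + 1) => h ⟨e.1, e.2 ▸ b.2⟩

theorem pairMat_vecMul (d : ℕ) (v : Fin d → F) (i : Fin d) :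
    ((pairMat F d)ᵀ *ᵥ v) i = v i + if h : i.1 % 2 = 1 then v ⟨i.1 - 1, by omega⟩ else 0 := by
  simp only [mulVec, dotProduct, transpose_apply, pairMat, add_mul, ite_mul, one_mul, zero_mul,
    Finset.sum_add_distrib, Finset.sum_ite_eq, Finset.mem_univ, if_true]
  congr 1
  split_ifs with h
  · rw [Finset.sum_eq_single ⟨i.1 - 1, by omega⟩]
    · rw [if_pos ⟨show (i.1 - 1) % 2 = 0 by omega, show i.1 = i.1 - 1 + 1 by omega⟩]
    · intro b _ hb
      rw [if_neg fun e => hb (Fin.ext (show b.1 = i.1 - 1 by omega))]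
    · simp
  · exact Finset.sum_eq_zero fun b _ => if_neg fun e => h (by omega)

theorem exists_invol_plus_only [CharP F 2] {d : ℕ} (hd : 3 ≤ d) :
    ∃ x : GL (Fin d ⊕ Fin d) F, x ∈ Cfsg.Geo.omegaGL (Cfsg.quadFormPlus d F) ∧ x ^ 2 = 1 ∧
      (∀ z : F, (x : Matrix (Fin d ⊕ Fin d) (Fin d ⊕ Fin d) F) ≠ z • 1) ∧
      ∀ W : Submodule F (Fin d ⊕ Fin d → F), Inv (x : Matrix (Fin d ⊕ Fin d) (Fin d ⊕ Fin d) F) W →
        ∀ j, Module.finrank F W = 2 * j → Cfsg.Geo.IsPlusTypeOn (Cfsg.quadFormPlus d F) W := by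
  have h2 : (2 : F) = 0 := CharTwo.two_eq_zero
  have hAA : pairMat F d * pairMat F d = 1 := Matrix.ext_of_mulVec_single fun i => by
    funext a
    rw [← mulVec_mulVec, one_mulVec, pairMat_mulVec, pairMat_mulVec]
    by_cases h : a.1 % 2 = 0 ∧ a.1 + 1 < d
    · rw [dif_pos h, dif_pos h, pairMat_mulVec, dif_neg fun e => by have := e.1; dsimp only at this; omega]
      rw [add_zero, add_assoc, CharTwo.add_self_eq_zero, add_zero]
    · rw [dif_neg h, dif_neg h, add_zero, add_zero]
  let A : GL (Fin d) F := ⟨pairMat F d, pairMat F d, hAA, hAA⟩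
  have hdet : GeneralLinearGroup.det A = 1 := Units.ext (by
    show (pairMat F d).det = 1
    have hd2 : (pairMat F d).det * (pairMat F d).det = 1 := by rw [← det_mul, hAA, det_one]
    rcases mul_self_eq_one_iff.1 hd2 with h | h
    · exact h
    · rw [h, neg_eq_iff_add_eq_zero]; exact CharTwo.add_self_eq_zero 1)
  set x := Cfsg.Agent.Levi57.leviGL d F A
  have hx : ∀ u, (x : Matrix (Fin d ⊕ Fin d) (Fin d ⊕ Fin d) F) *ᵥ u =
      Sum.elim (pairMat F d *ᵥ (u ∘ Sum.inl)) ((pairMat F d)ᵀ *ᵥ (u ∘ Sum.inr)) := fun u => by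
    show fromBlocks (pairMat F d) 0 0 (pairMat F d)ᵀ *ᵥ u = _
    rw [fromBlocks_mulVec]
    simp
  refine ⟨x, ?_, ?_, ?_, ?_⟩
  · rw [← CfsgLib.Orth.plusQ_coe]
    exact ⟨Cfsg.Agent.Levi57.levi d F A,
      Cfsg.Agent.Levi57.levi_mem_of_det_one (F := F) (m := d) (Or.inr (by omega)) hdet, rfl⟩
  · rw [pow_two, show x * x = Cfsg.Agent.Levi57.leviGL d F (A * A) from (map_mul _ _ _).symm,
      show A * A = 1 from Units.ext hAA, map_one]
  · intro z hz
    have := congrFun (congrFun hz (Sum.inl ⟨0, by omega⟩)) (Sum.inl ⟨1, by omega⟩)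
    simp [x, Cfsg.Agent.Levi57.leviGL, A, pairMat, Matrix.one_apply] at this
  · intro W hW j hj
    let L : Submodule F (Fin d ⊕ Fin d → F) :=
      { carrier := {u | ∀ i : Fin d, (i.1 % 2 = 1 → u (.inl i) = 0) ∧ (i.1 % 2 = 0 → u (.inr i) = 0)}
        add_mem' := fun {u w} hu hw i => ⟨fun h => by simp [(hu i).1 h, (hw i).1 h],
          fun h => by simp [(hu i).2 h, (hw i).2 h]⟩
        zero_mem' := fun i => ⟨fun _ => rfl, fun _ => rfl⟩
        smul_mem' := fun t u hu i => ⟨fun h => by simp [(hu i).1 h], fun h => by simp [(hu i).2 h]⟩ }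
    refine isPlusTypeOn_invariant (L := L) (fun u hu => ?_) (fun u i => ?_)
      (LinearMap.proj (Sum.inr (⟨d - 1, by omega⟩ : Fin d))) (fun u hfx hu i => ?_) hW hj
    · show Cfsg.quadFormPlus d F u = 0
      refine Finset.sum_eq_zero fun i _ => ?_
      rcases Nat.mod_two_eq_zero_or_one i.1 with h | h
      · rw [(hu i).2 h, mul_zero]
      · rw [(hu i).1 h, zero_mul]
    · rw [hx]
      simp only [Pi.sub_apply, Sum.elim_inl, Sum.elim_inr, pairMat_mulVec, pairMat_vecMul,
        Function.comp_apply]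
      refine ⟨fun h => ?_, fun h => ?_⟩
      · rw [dif_neg (by omega), add_zero, sub_self]
      · rw [dif_neg (by omega), add_zero, sub_self]
    · have e1 := congrFun hfx
      refine ⟨fun h => ?_, fun h => ?_⟩
      · have := e1 (Sum.inl ⟨i.1 - 1, by omega⟩)
        rw [hx, Sum.elim_inl, pairMat_mulVec, dif_pos ⟨show (i.1 - 1) % 2 = 0 by omega,
          show i.1 - 1 + 1 < d by omega⟩] at this
        simp only [Function.comp_apply, add_eq_left] at this
        convert this using 3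
        exact Fin.ext (show i.1 = i.1 - 1 + 1 by omega)
      · by_cases hi : i.1 + 1 < d
        · have := e1 (Sum.inr ⟨i.1 + 1, hi⟩)
          rw [hx, Sum.elim_inr, pairMat_vecMul, dif_pos (show (i.1 + 1) % 2 = 1 by omega)] at this
          simp only [Function.comp_apply, add_eq_left] at this
          convert this using 3
          exact Fin.ext (show i.1 = i.1 + 1 - 1 by omega)
        · rw [show i = ⟨d - 1, by omega⟩ from Fin.ext (show i.1 = d - 1 by omega)]
          exact hu

end CfsgLib.OrthFix57
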