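import Cfsg.Agent.Lib.OrthFix.Subspaces

/-!
Images of smaller forms; minus-type subspaces of hyperbolic spaces in every characteristic; squares.
-/

set_option autoImplicit false
set_option linter.unusedSectionVars false

namespace CfsgLib.OrthFix57

open Matrix QuadraticMap CfsgLib.OrthFix CfsgLib.QuadType CfsgLib.PrimeClasses

variable {F : Type*} [Field F] [Fintype F] {ι κ : Type} [Fintype ι] [DecidableEq ι] [Fintype κ] [DecidableEq κ]

/-- The image of a non-degenerate form under an isometric map. -/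
theorem range_of_isometric {Q : QuadraticForm F (ι → F)} {G : QuadraticForm F (κ → F)}
    (hG : G.polarBilin.Nondegenerate) (Φ : (κ → F) →ₗ[F] (ι → F)) (hΦ : ∀ v, Q (Φ v) = G v) :
    Module.finrank F (LinearMap.range Φ) = Fintype.card κ ∧
      Cfsg.Geo.IsNondegenerateOn (polar ⇑Q) (LinearMap.range Φ) ∧
      ∀ k, Fintype.card κ = 2 * k → (Cfsg.Geo.IsPlusTypeOn (⇑Q) (LinearMap.range Φ) ↔ IsPlus (⇑G) k) := by
  have hp : ∀ u v, polar ⇑Q (Φ u) (Φ v) = polar ⇑G u v := fun u v => by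
    simp only [QuadraticMap.polar, ← map_add, hΦ]
  have hinj : Function.Injective Φ := by
    rw [← LinearMap.ker_eq_bot, Submodule.eq_bot_iff]
    intro u hu
    refine hG.1 u fun v => ?_
    rw [polarBilin_apply_apply, ← hp, LinearMap.mem_ker.1 hu, QuadraticMap.polar_zero_left]
  refine ⟨by rw [LinearMap.finrank_range_of_inj hinj, Module.finrank_fintype_fun_eq_card], ?_, fun k hk =>
    isPlusTypeOn_iff_of_coords (LinearEquiv.ofInjective Φ hinj) hΦ hk⟩
  rintro _ ⟨u, rfl⟩ hu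
  obtain ⟨v, hv⟩ : ∃ v, polar ⇑G u v ≠ 0 := by
    by_contra hno
    push Not at hno
    exact hu (by rw [hG.1 u hno, map_zero])
  exact ⟨⟨_, ⟨v, rfl⟩, by rwa [QuadraticMap.polar_comm, hp]⟩, ⟨_, ⟨v, rfl⟩, by rwa [hp]⟩⟩

theorem exists_minus_in_plus {d k : ℕ} (hk : 1 ≤ k) (hkd : k + 1 ≤ d) :
    ∃ W : Submodule F (Fin d ⊕ Fin d → F), Module.finrank F W = 2 * k ∧
      Cfsg.Geo.IsNondegenerateOn (polar ⇑(CfsgLib.Orth.plusQ d F)) W ∧
      ¬ Cfsg.Geo.IsPlusTypeOn (⇑(CfsgLib.Orth.plusQ d F)) W := by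
  obtain ⟨j, rfl⟩ := Nat.exists_eq_add_of_le hk
  obtain ⟨D, rfl⟩ := Nat.exists_eq_add_of_le hkd
  obtain ⟨a, b, hab⟩ := exists_anisotropic_binary (F := F)
  set n := 1 + j + 1 + D
  have hn : n = 1 + j + 1 + D := rfl
  let xv : ((Fin j ⊕ Fin j) ⊕ Fin 2 → F) → Fin n → F := fun v i =>
    if i.1 = 0 then v (.inr 0) else if i.1 = 1 then v (.inr 1)
      else if h : i.1 - 2 < j then v (.inl (.inl ⟨i.1 - 2, h⟩)) else 0
  let yv : ((Fin j ⊕ Fin j) ⊕ Fin 2 → F) → Fin n → F := fun v i =>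
    if i.1 = 0 then v (.inr 0) + a * v (.inr 1) else if i.1 = 1 then b * v (.inr 1)
      else if h : i.1 - 2 < j then v (.inl (.inr ⟨i.1 - 2, h⟩)) else 0
  let Φ : ((Fin j ⊕ Fin j) ⊕ Fin 2 → F) →ₗ[F] (Fin n ⊕ Fin n → F) :=
    { toFun := fun v => Sum.elim (xv v) (yv v)
      map_add' := fun u v => by
        funext i
        rcases i with i | i <;> simp only [Sum.elim_inl, Sum.elim_inr, Pi.add_apply, xv, yv] <;>
          split_ifs <;> ring
      map_smul' := fun t v => by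
        funext i
        rcases i with i | i <;> simp only [Sum.elim_inl, Sum.elim_inr, Pi.smul_apply, RingHom.id_apply,
          smul_eq_mul, xv, yv] <;> split_ifs <;> ring }
  have hΦ : ∀ v, CfsgLib.Orth.plusQ n F (Φ v) = CfsgLib.Orth.minusQ j F a b v := fun v => by
    rw [CfsgLib.Orth.plusQ_coe, CfsgLib.Orth.minusQ_coe]
    show ∑ i : Fin n, xv v i * yv v i = _
    let g : ℕ → F := fun i => if i = 0 then v (.inr 0) * (v (.inr 0) + a * v (.inr 1))
      else if i = 1 then v (.inr 1) * (b * v (.inr 1))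
      else if h : i - 2 < j then v (.inl (.inl ⟨i - 2, h⟩)) * v (.inl (.inr ⟨i - 2, h⟩)) else 0
    rw [Finset.sum_congr rfl (fun i _ => show xv v i * yv v i = g i.1 by
      simp only [xv, yv, g]; split_ifs <;> ring), Fin.sum_univ_eq_sum_range g n,
      show n = (2 + j) + D by omega, Finset.sum_range_add, Finset.sum_range_add]
    have h0 : ∑ i ∈ Finset.range D, g (2 + j + i) = 0 := Finset.sum_eq_zero fun i _ => by
      simp only [g]
      rw [if_neg (by omega), if_neg (by omega), dif_neg (by omega)]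
    have h1 : ∑ i ∈ Finset.range j, g (2 + i) = ∑ i : Fin j, v (.inl (.inl i)) * v (.inl (.inr i)) := by
      rw [← Fin.sum_univ_eq_sum_range (fun i => g (2 + i)) j]
      refine Finset.sum_congr rfl fun i _ => ?_
      simp only [g]
      rw [if_neg (by omega), if_neg (by omega), dif_pos (show 2 + i.1 - 2 < j by omega)]
      simp
    rw [h0, h1, Finset.sum_range_succ, Finset.sum_range_one]
    simp only [g, Cfsg.quadFormMinus, if_true, Nat.one_ne_zero, if_false]
    ring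
  obtain ⟨h1, h2, h3⟩ := range_of_isometric (CfsgLib.POmega.minusQ_nondegenerate_any hab) Φ hΦ
  refine ⟨_, by rw [h1]; simp; omega, h2, fun h => ?_⟩
  have h' := (h3 (1 + j) (by simp; omega)).1 h
  rw [CfsgLib.Orth.minusQ_coe] at h'
  exact not_isPlus_minusForm hab (by omega) h'

theorem isSquare_pow_iff {a : F} (ha : a ≠ 0) (k : ℕ) : IsSquare (a ^ k) ↔ (k % 2 = 0 ∨ IsSquare a) := by
  constructor
  · intro h
    rcases Nat.even_or_odd k with he | ⟨e, rfl⟩
    · exact Or.inl (Nat.even_iff.1 he)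
    · obtain ⟨s, hs⟩ := h
      refine Or.inr ⟨s / a ^ e, ?_⟩
      rw [div_mul_div_comm, ← hs, eq_div_iff (mul_ne_zero (pow_ne_zero _ ha) (pow_ne_zero _ ha))]
      ring
  · rintro (h | h)
    · obtain ⟨e, rfl⟩ := Nat.even_iff.2 h
      exact ⟨a ^ e, pow_add a e e⟩
    · exact h.pow k

/-- The sign conditions in terms of `q`. -/
theorem isSquare_signs (h2 : (2 : F) ≠ 0) {q : ℕ} (hq : Fintype.card F = q) (k : ℕ) :
    (IsSquare ((-1 : F) ^ k) ↔ (k % 2 = 0 ∨ q % 4 ≠ 3)) ∧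
      (IsSquare ((2 : F) ^ k) ↔ (k % 2 = 0 ∨ (q % 8 ≠ 3 ∧ q % 8 ≠ 5))) := by
  rw [isSquare_pow_iff (neg_ne_zero.2 one_ne_zero), isSquare_pow_iff h2, FiniteField.isSquare_neg_one_iff,
    FiniteField.isSquare_two_iff, hq]
  exact ⟨Iff.rfl, Iff.rfl⟩

theorem card_mod_two (h2 : (2 : F) ≠ 0) {q : ℕ} (hq : Fintype.card F = q) : q % 2 = 1 := by
  rw [← hq]
  rcases Nat.mod_two_eq_zero_or_one (Fintype.card F) with h | h
  · exact absurd (CfsgLib.POmega.two_eq_zero_of_even fun ho => by rw [Nat.odd_iff] at ho; omega) h2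
  · exact h

end CfsgLib.OrthFix57
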