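import Cfsg.Agent.Lib.OrthFix57.Unip
import Cfsg.Agent.Lib.OrthFix57.Embed
import Cfsg.Agent.Lib.QuadFin.Gram

/-!
In odd characteristic some element of order `p` fixes no member of a given class of subspaces of odd dimension.
-/

set_option autoImplicit false
set_option linter.unusedSectionVars false

namespace CfsgLib.OrthFix57

open Matrix QuadraticMap CfsgLib.Orth CfsgLib.OrthFix CfsgLib.PrimeClasses CfsgLib.QuadType
open Module (finrank)

variable {F : Type*} [Field F] [Fintype F] {ι : Type} [Fintype ι] [DecidableEq ι]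
  {Q : QuadraticForm F (ι → F)}

/-- Similarities of an even-dimensional space exist with every multiplier. -/
theorem exists_similarity (hQ : Q.polarBilin.Nondegenerate) {k : ℕ} (hk : Fintype.card ι = 2 * k)
    {c : F} (hc : c ≠ 0) : ∃ T : GL ι F, ∀ v, Q ((T : Matrix ι ι F) *ᵥ v) = c * Q v := by
  have hh : ∀ u v, (c • Q).polarBilin u v = c * Q.polarBilin u v := fun u v => by
    simp [QuadraticMap.polar, mul_sub]
  have hcQ : (c • Q).polarBilin.Nondegenerate :=
    ⟨fun u hu => hQ.1 u fun v => (mul_eq_zero.1 ((hh u v).symm.trans (hu v))).resolve_left hc,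
      fun u hu => hQ.2 u fun v => (mul_eq_zero.1 ((hh v u).symm.trans (hu v))).resolve_left hc⟩
  obtain ⟨T, hT⟩ := exists_isometry Q (c • Q) hQ hcQ hk (exists_congr fun U => and_congr_left fun _ =>
    forall_congr' fun w => forall_congr' fun _ => by
      rw [_root_.smul_apply, smul_eq_mul, mul_eq_zero, or_iff_right hc])
  exact ⟨T, fun v => by rw [hT]; rfl⟩

/-- A similarity of an odd-dimensional non-degenerate subspace onto itself has square multiplier. -/
theorem isSquare_multiplier (hQ : Q.polarBilin.Nondegenerate) {W : Submodule F (ι → F)}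
    (hW : Cfsg.Geo.IsNondegenerateOn (polar ⇑Q) W) {m : ℕ} (hm : finrank F W = m) (hmo : Odd m)
    {c : F} (hc : c ≠ 0) (e : W ≃ₗ[F] W) (he : ∀ w : W, Q (e w : ι → F) = c * Q (w : ι → F)) :
    IsSquare c := by
  obtain ⟨a, b, Q₁, Q₂, E, hE, rfl, ha, -⟩ := exists_splits hW
  obtain rfl : a = m := by omega
  let g : (Fin a → F) ≃ₗ[F] (Fin a → F) := (summandEquiv E).trans (e.trans (summandEquiv E).symm)
  have hg : (fun v => Q₁ (g v)) = fun v => c * Q₁ v := funext fun v => by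
    rw [← hE.apply_summand, ← hE.apply_summand v, ← he]
    simp [g]
  have hdet := CfsgLib.QuadFin.gram_det_comp Q₁ g
  rw [hg, CfsgLib.QuadFin.gram_det_smul, Fintype.card_fin] at hdet
  have hne := CfsgLib.QuadFin.gram_det_ne_zero Q₁ (hE.nondeg_left hQ)
  have h1 : c ^ a = LinearMap.det g.toLinearMap ^ 2 := mul_right_cancel₀ hne hdet
  exact ((isSquare_pow_iff hc a).1 ⟨_, h1.trans (pow_two _)⟩).resolve_left (by rw [Nat.odd_iff] at hmo; omega)

variable {p : ℕ} [hp' : Fact p.Prime] [CharP F p]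

/-- Some element of order `p` fixes no member of the class of `W₀`. -/
theorem not_projFix_char (hp : p ≠ 2) (hQ : Q.polarBilin.Nondegenerate) {d m : ℕ} (hd : 4 ≤ d)
    (hn : Fintype.card ι = 2 * d) (hm : Odd m) {W₀ : Submodule F (ι → F)} (hW₀d : finrank F W₀ = m)
    (hW₀ : Cfsg.Geo.IsNondegenerateOn (polar ⇑Q) W₀) :
    ¬ ProjFix p (⇑Q) fun W => finrank F W = m ∧ Cfsg.Geo.IsNondegenerateOn (polar ⇑Q) W ∧
      Cfsg.Geo.AreIsometricFor (⇑Q) W W₀ := by
  intro h
  obtain ⟨x, hx, hxp, hns, huniq⟩ := exists_one_class hp hQ hd hn hm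
  obtain ⟨c, hc⟩ := FiniteField.exists_nonsquare (F := F) (by rw [ringChar.eq F p]; exact hp)
  have hc0 : c ≠ 0 := by rintro rfl; exact hc IsSquare.zero
  obtain ⟨T, hT⟩ := exists_similarity hQ hn hc0
  obtain ⟨W, ⟨hWd, hW, hWc⟩, hWx⟩ := h x hx ⟨1, by rw [hxp, Units.val_one, one_smul]⟩ hns
  have hxQ : ∀ v, Q ((x : Matrix ι ι F) *ᵥ v) = Q v := fun v => isometry_of_mem_omegaGL hx v v
  set y := T⁻¹ * x * T with hy
  have hxT : ∀ v, (x : Matrix ι ι F) *ᵥ ((T : Matrix ι ι F) *ᵥ v) =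
      (T : Matrix ι ι F) *ᵥ ((y : Matrix ι ι F) *ᵥ v) := fun v => by
    rw [mulVec_mulVec, mulVec_mulVec, ← Units.val_mul, ← Units.val_mul, hy, ← mul_assoc, ← mul_assoc,
      mul_inv_cancel, one_mul]
  have hyp : y ^ p = 1 := by
    have : y ^ p = T⁻¹ * x ^ p * T := by
      rw [hy]; simpa using conj_pow (a := T⁻¹) (b := x) (i := p)
    rw [this, hxp, mul_one, inv_mul_cancel]
  have hyQ : y ∈ Cfsg.isometryGroup F (⇑Q) := fun u _ => by
    have h1 : c * Q ((y : Matrix ι ι F) *ᵥ u) = c * Q u := by rw [← hT, ← hxT, hxQ, hT]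
    exact mul_left_cancel₀ hc0 h1
  obtain ⟨W', ⟨hW'd, hW', e', he'⟩, hW'y⟩ := h y
    (mem_omegaGL_of_pow_odd hQ (Or.inl (by omega)) hyQ (hp'.out.odd_of_ne_two hp) hyp)
    ⟨1, by rw [hyp, Units.val_one, one_smul]⟩ (fun z hz => hns z (by
      have hx' : x = T * y * T⁻¹ := by rw [hy]; group
      rw [hx', Units.val_mul, Units.val_mul, hz, Matrix.mul_smul, mul_one, Matrix.smul_mul,
        ← Units.val_mul, mul_inv_cancel, Units.val_one]))
  -- the image under the similarity is fixed by `x`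
  let t : (ι → F) ≃ₗ[F] (ι → F) := Matrix.toLin'OfInv T.inv_mul T.mul_inv
  have htv : ∀ v, t v = (T : Matrix ι ι F) *ᵥ v := fun _ => rfl
  have htp : ∀ u v, polar ⇑Q (t u) (t v) = c * polar ⇑Q u v := fun u v => by
    simp only [QuadraticMap.polar, ← map_add]
    simp only [htv, hT, mul_sub]
  have hU : Cfsg.Geo.IsNondegenerateOn (polar ⇑Q) (W'.map t.toLinearMap) := by
    rintro _ ⟨u, hu, rfl⟩ hne
    obtain ⟨⟨v, hv, hv'⟩, ⟨v₂, hv₂, hv₂'⟩⟩ := hW' u hu fun e => hne (by rw [e, map_zero])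
    exact ⟨⟨t v, ⟨v, hv, rfl⟩, by rw [LinearEquiv.coe_toLinearMap, htp]; exact mul_ne_zero hc0 hv'⟩,
      ⟨t v₂, ⟨v₂, hv₂, rfl⟩, by rw [LinearEquiv.coe_toLinearMap, htp]; exact mul_ne_zero hc0 hv₂'⟩⟩
  have hUx : Inv (x : Matrix ι ι F) (W'.map t.toLinearMap) := by
    rintro _ ⟨_, ⟨u, hu, rfl⟩, rfl⟩
    exact ⟨_, apply_invariant hW'y hu, by
      rw [LinearEquiv.coe_toLinearMap, htv, Matrix.toLin'_apply, htv, hxT]⟩
  obtain ⟨eW, heW⟩ := hWc
  obtain ⟨eU, heU⟩ := huniq _ W (by rw [LinearEquiv.finrank_map_eq, hW'd]) hWd hU hW hUx hWx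
  refine hc (isSquare_multiplier hQ hW₀ hW₀d hm hc0
    (e'.symm.trans ((t.submoduleMap W').trans (eU.trans eW))) fun w => ?_)
  rw [LinearEquiv.trans_apply, LinearEquiv.trans_apply, LinearEquiv.trans_apply, heW, heU,
    LinearEquiv.submoduleMap_apply, htv, hT, ← he', LinearEquiv.apply_symm_apply]

end CfsgLib.OrthFix57
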