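import Cfsg.Agent.Lib.OrthFix.Subspaces

/-!
Restriction of an isometry to an invariant non-degenerate subspace, in coordinates.
-/

set_option autoImplicit false
set_option linter.unusedSectionVars false

namespace CfsgLib.OrthFix57

open Matrix QuadraticMap CfsgLib.OrthFix CfsgLib.PrimeClasses CfsgLib.QuadType

variable {F : Type*} [Field F] [Fintype F] {ι κ : Type} [Fintype ι] [DecidableEq ι] [Fintype κ] [DecidableEq κ]

/-- A non-degenerate invariant subspace as a space of its own. -/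
structure Sub (Q : QuadraticForm F (ι → F)) (X : Matrix ι ι F) (U : Submodule F (ι → F))
    (Q₁ : QuadraticForm F (κ → F)) (X₁ : Matrix κ κ F) (Φ : (κ → F) →ₗ[F] (ι → F)) : Prop where
  inj : Function.Injective Φ
  range_eq : LinearMap.range Φ = U
  form : ∀ v, Q (Φ v) = Q₁ v
  nondeg : Q₁.polarBilin.Nondegenerate
  comm : ∀ v, Φ (X₁ *ᵥ v) = X *ᵥ Φ v

theorem exists_sub {Q : QuadraticForm F (ι → F)} (hQ : Q.polarBilin.Nondegenerate) {X : Matrix ι ι F}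
    {U : Submodule F (ι → F)} (hU : Cfsg.Geo.IsNondegenerateOn (polar ⇑Q) U) (hUX : Inv X U) {n : ℕ}
    (hn : Module.finrank F U = n) :
    ∃ (Q₁ : QuadraticForm F (Fin n → F)) (X₁ : Matrix (Fin n) (Fin n) F) (Φ : (Fin n → F) →ₗ[F] (ι → F)),
      Sub Q X U Q₁ X₁ Φ := by
  obtain ⟨a, b, Q₁, Q₂, E, hE, rfl, ha, -⟩ := exists_splits hU
  obtain rfl : a = n := by omega
  let T : (Fin a → F) →ₗ[F] (Fin a → F) := (summandEquiv E).symm.toLinearMap.comp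
    (((Matrix.toLin' X).restrict (p := summand E) (q := summand E) fun w hw => by
      rw [Matrix.toLin'_apply]; exact apply_invariant hUX hw).comp (summandEquiv E).toLinearMap)
  refine ⟨Q₁, LinearMap.toMatrix' T, (summand E).subtype.comp (summandEquiv E).toLinearMap,
    ⟨Subtype.val_injective.comp (summandEquiv E).injective, ?_, hE.apply_summand, hE.nondeg_left hQ, fun v => ?_⟩⟩
  · rw [LinearMap.range_comp, LinearEquiv.range, Submodule.map_top, Submodule.range_subtype]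
  · rw [LinearMap.toMatrix'_mulVec]
    simp [T]

namespace Sub

variable {Q : QuadraticForm F (ι → F)} {X : Matrix ι ι F} {U : Submodule F (ι → F)}
  {Q₁ : QuadraticForm F (κ → F)} {X₁ : Matrix κ κ F} {Φ : (κ → F) →ₗ[F] (ι → F)}

theorem isometry (h : Sub Q X U Q₁ X₁ Φ) (hXQ : ∀ v, Q (X *ᵥ v) = Q v) (v : κ → F) : Q₁ (X₁ *ᵥ v) = Q₁ v := by
  rw [← h.form, h.comm, hXQ, h.form]

theorem comm_pow (h : Sub Q X U Q₁ X₁ Φ) (k : ℕ) : ∀ v, Φ ((X₁ ^ k) *ᵥ v) = (X ^ k) *ᵥ Φ v := by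
  induction k with
  | zero => intro v; simp
  | succ k ih => intro v; rw [pow_succ, pow_succ, ← mulVec_mulVec, ih, h.comm, mulVec_mulVec]

theorem pow_eq_one (h : Sub Q X U Q₁ X₁ Φ) {k : ℕ} (hX : X ^ k = 1) : X₁ ^ k = 1 :=
  Matrix.ext_of_mulVec_single fun j => h.inj (by rw [h.comm_pow, hX, one_mulVec, one_mulVec])

theorem finrank_map (h : Sub Q X U Q₁ X₁ Φ) (W : Submodule F (κ → F)) :
    Module.finrank F (W.map Φ) = Module.finrank F W :=
  (Submodule.equivMapOfInjective Φ h.inj W).finrank_eq.symm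

theorem map_le (h : Sub Q X U Q₁ X₁ Φ) (W : Submodule F (κ → F)) : W.map Φ ≤ U :=
  h.range_eq ▸ LinearMap.map_le_range

theorem map_inv (h : Sub Q X U Q₁ X₁ Φ) {W : Submodule F (κ → F)} (hW : Inv X₁ W) : Inv X (W.map Φ) := by
  rintro _ ⟨_, ⟨u, hu, rfl⟩, rfl⟩
  exact ⟨X₁ *ᵥ u, apply_invariant hW hu, by rw [h.comm, Matrix.toLin'_apply]⟩

theorem map_nondeg (h : Sub Q X U Q₁ X₁ Φ) {W : Submodule F (κ → F)}
    (hW : Cfsg.Geo.IsNondegenerateOn (polar ⇑Q₁) W) : Cfsg.Geo.IsNondegenerateOn (polar ⇑Q) (W.map Φ) := by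
  have hp : ∀ u v, polar ⇑Q (Φ u) (Φ v) = polar ⇑Q₁ u v := fun u v => by
    simp only [QuadraticMap.polar, ← map_add, h.form]
  rintro _ ⟨u, hu, rfl⟩ hne
  obtain ⟨⟨v, hv, hv'⟩, ⟨w, hw, hw'⟩⟩ := hW u hu fun e => hne (by rw [e, map_zero])
  exact ⟨⟨Φ v, ⟨v, hv, rfl⟩, by rwa [hp]⟩, ⟨Φ w, ⟨w, hw, rfl⟩, by rwa [hp]⟩⟩

theorem map_singular (h : Sub Q X U Q₁ X₁ Φ) {W : Submodule F (κ → F)}
    (hW : Cfsg.Geo.IsTotallySingularQuad (⇑Q₁) W) : Cfsg.Geo.IsTotallySingularQuad (⇑Q) (W.map Φ) := by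
  rintro _ ⟨u, hu, rfl⟩
  rw [h.form]
  exact hW u hu

theorem map_plus (h : Sub Q X U Q₁ X₁ Φ) {W : Submodule F (κ → F)}
    (hW : Cfsg.Geo.IsPlusTypeOn (⇑Q₁) W) : Cfsg.Geo.IsPlusTypeOn (⇑Q) (W.map Φ) := by
  obtain ⟨T, hTW, hT, hd⟩ := hW
  exact ⟨T.map Φ, Submodule.map_mono hTW, h.map_singular hT, by rw [h.finrank_map, h.finrank_map]; exact hd⟩

theorem isPlus_iff (h : Sub Q X U Q₁ X₁ Φ) {k : ℕ} (hk : Fintype.card κ = 2 * k) :
    Cfsg.Geo.IsPlusTypeOn (⇑Q) U ↔ IsPlus (⇑Q₁) k := by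
  have := h.range_eq
  subst this
  exact isPlusTypeOn_iff_of_coords (LinearEquiv.ofInjective Φ h.inj) h.form hk

end Sub

end CfsgLib.OrthFix57
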