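import Cfsg.Agent.Lib.OrthFix57.Unip
import Cfsg.Agent.Lib.OrthFix57.Restrict
import Cfsg.Agent.Lib.OrthFix57.CharTwo
import Cfsg.Agent.Lib.OrthFix.SqNegOne
import Cfsg.Agent.Lib.Sp.InvolutionClasses

/-!
Involutory isometries in characteristic two: invariant non-degenerate subspaces of plus type.
-/

set_option autoImplicit false
set_option linter.unusedSectionVars false

namespace CfsgLib.OrthFix57

open Matrix QuadraticMap CfsgLib.OrthFix CfsgLib.PrimeClasses CfsgLib.QuadType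
open Module (finrank)

variable {F : Type*} [Field F] [Fintype F] [CharP F 2] {ι : Type} [Fintype ι] [DecidableEq ι]
  {Q : QuadraticForm F (ι → F)} {X : Matrix ι ι F}

omit [Fintype F] in
/-- `P` is an invariant non-degenerate subspace. -/
def InvNd (Q : QuadraticForm F (ι → F)) (X : Matrix ι ι F) (P : Submodule F (ι → F)) : Prop :=
  Cfsg.Geo.IsNondegenerateOn (polar ⇑Q) P ∧ Inv X P

theorem polar_self_two (v : ι → F) : polar ⇑Q v v = 0 := by
  rw [QuadraticMap.polar_self, two_nsmul, CharTwo.add_self_eq_zero]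

theorem invNd_orthogonal (hQ : Q.polarBilin.Nondegenerate) (hX : X * X = 1) (hXQ : ∀ v, Q (X *ᵥ v) = Q v)
    {P : Submodule F (ι → F)} (hP : InvNd Q X P) :
    InvNd Q X (LinearMap.BilinForm.orthogonal Q.polarBilin P) :=
  ⟨(complement hQ hP.1).1, inv_orthogonal (x := ⟨X, X, hX, hX⟩) hXQ hP.2⟩

/-- A pair of vectors which pair with one another spans a non-degenerate plane. -/
theorem plane (hX : X * X = 1) {v w : ι → F} (h : polar ⇑Q v w ≠ 0)
    (hvw : (X *ᵥ v = v ∧ X *ᵥ w = w) ∨ X *ᵥ v = w) :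
    InvNd Q X (Submodule.span F (Set.range ![v, w])) ∧ finrank F (Submodule.span F (Set.range ![v, w])) = 2 := by
  have hv : ∀ a b : F, polar ⇑Q (a • v + b • w) w = a * polar ⇑Q v w := fun a b => by
    rw [polar_add_left, polar_smul_left, polar_smul_left, polar_self_two, smul_eq_mul, smul_zero, add_zero]
  have hw : ∀ a b : F, polar ⇑Q (a • v + b • w) v = b * polar ⇑Q v w := fun a b => by
    rw [polar_add_left, polar_smul_left, polar_smul_left, polar_self_two, smul_eq_mul, smul_eq_mul, mul_zero,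
      zero_add, QuadraticMap.polar_comm]
  have hind : LinearIndependent F ![v, w] := LinearIndependent.pair_iff.2 fun a b hab => by
    have e1 := hv a b
    have e2 := hw a b
    rw [hab, polar_zero_left] at e1 e2
    exact ⟨(mul_eq_zero.1 e1.symm).resolve_right h, (mul_eq_zero.1 e2.symm).resolve_right h⟩
  have hmem : ∀ u, u ∈ Submodule.span F (Set.range ![v, w]) ↔ ∃ a b : F, a • v + b • w = u := fun u => by
    rw [Matrix.range_cons, Matrix.range_cons, Matrix.range_empty, Set.union_empty,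
      Set.singleton_union, Submodule.mem_span_pair]
  refine ⟨⟨fun u hu hu0 => ?_, ?_⟩, by rw [finrank_span_eq_card hind, Fintype.card_fin]⟩
  · obtain ⟨a, b, rfl⟩ := (hmem u).1 hu
    obtain ⟨x, hx, hne⟩ : ∃ x ∈ Submodule.span F (Set.range ![v, w]), polar ⇑Q (a • v + b • w) x ≠ 0 := by
      by_cases ha : a = 0
      · refine ⟨v, (hmem v).2 ⟨1, 0, by simp⟩, ?_⟩
        rw [hw]
        refine mul_ne_zero (fun hb => hu0 (by rw [ha, hb]; simp)) h
      · exact ⟨w, (hmem w).2 ⟨0, 1, by simp⟩, by rw [hv]; exact mul_ne_zero ha h⟩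
    exact ⟨⟨x, hx, by rwa [QuadraticMap.polar_comm]⟩, ⟨x, hx, hne⟩⟩
  · rintro _ ⟨u, hu, rfl⟩
    obtain ⟨a, b, rfl⟩ := (hmem u).1 hu
    rw [Matrix.toLin'_apply, mulVec_add, mulVec_smul, mulVec_smul, hmem]
    rcases hvw with ⟨h1, h2⟩ | h1
    · exact ⟨a, b, by rw [h1, h2]⟩
    · exact ⟨b, a, by rw [h1, ← h1, mulVec_mulVec, hX, one_mulVec, add_comm]⟩

/-- A moved pair gives a four-dimensional subspace of plus type. -/
theorem quad (hX : X * X = 1) (hXQ : ∀ v, Q (X *ᵥ v) = Q v) (halt : ∀ v, polar ⇑Q v (X *ᵥ v) = 0)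
    (hfix : ∀ u w, X *ᵥ u = u → X *ᵥ w = w → polar ⇑Q u w = 0) {u v : ι → F}
    (h : polar ⇑Q (X *ᵥ u + u) v ≠ 0) :
    ∃ P, InvNd Q X P ∧ finrank F P = 4 ∧ Cfsg.Geo.IsPlusTypeOn (⇑Q) P := by
  have hXX : ∀ z, X *ᵥ (X *ᵥ z) = z := fun z => by rw [mulVec_mulVec, hX, one_mulVec]
  have hN : ∀ z, X *ᵥ (X *ᵥ z + z) = X *ᵥ z + z := fun z => by rw [mulVec_add, hXX, add_comm]
  have hNN : ∀ y z, polar ⇑Q (X *ᵥ y + y) (X *ᵥ z + z) = 0 := fun y z => hfix _ _ (hN y) (hN z)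
  have hpX : ∀ y z, polar ⇑Q (X *ᵥ y) (X *ᵥ z) = polar ⇑Q y z := fun y z => by
    simp only [QuadraticMap.polar, ← mulVec_add, hXQ]
  have hadj : ∀ y z, polar ⇑Q y (X *ᵥ z + z) = polar ⇑Q (X *ᵥ y + y) z := fun y z => by
    rw [polar_add_right, polar_add_left, ← hpX (X *ᵥ y) z, hXX]
  have hzero : ∀ z, polar ⇑Q z (X *ᵥ z + z) = 0 := fun z => by
    rw [polar_add_right, halt, polar_self_two, add_zero]
  have hQN : ∀ z, Q (X *ᵥ z + z) = 0 := fun z => by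
    rw [QuadraticMap.map_add (f := ⇑Q), hXQ, CharTwo.add_self_eq_zero, zero_add, QuadraticMap.polar_comm, halt]
  set nu := X *ᵥ u + u with hnu
  set nv := X *ᵥ v + v with hnv
  set g : Fin 4 → ι → F := ![u, v, nu, nv] with hg
  set P := Submodule.span F (Set.range g) with hPdef
  have key : ∀ c : Fin 4 → F, (∀ j, polar ⇑Q (∑ i, c i • g i) (g j) = 0) → c = 0 := by
    intro c hc
    have huv : polar ⇑Q u nv = polar ⇑Q nu v := hadj u v
    have hvu : polar ⇑Q v nu = polar ⇑Q nu v := QuadraticMap.polar_comm _ _ _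
    have h3 := hc 3
    have h2 := hc 2
    have h1 := hc 1
    have h0 := hc 0
    simp only [hg, Fin.sum_univ_four, Matrix.cons_val, polar_add_left, polar_smul_left, smul_eq_mul] at h0 h1 h2 h3
    rw [hzero v, huv, hNN, hNN] at h3
    rw [hzero u, hvu, hNN, hNN] at h2
    have e0 : c 0 = 0 := (mul_eq_zero.1 (by linear_combination h3 : c 0 * polar ⇑Q nu v = 0)).resolve_right h
    have e1 : c 1 = 0 := (mul_eq_zero.1 (by linear_combination h2 : c 1 * polar ⇑Q nu v = 0)).resolve_right h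
    rw [e0, e1, show polar ⇑Q nv v = 0 by rw [QuadraticMap.polar_comm]; exact hzero v] at h1
    rw [e0, e1, show polar ⇑Q nu u = 0 by rw [QuadraticMap.polar_comm]; exact hzero u,
      QuadraticMap.polar_comm (f := ⇑Q) nv u, huv] at h0
    have e2 : c 2 = 0 := (mul_eq_zero.1 (by linear_combination h1 : c 2 * polar ⇑Q nu v = 0)).resolve_right h
    have e3 : c 3 = 0 := (mul_eq_zero.1 (by linear_combination h0 : c 3 * polar ⇑Q nu v = 0)).resolve_right h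
    funext i
    fin_cases i <;> assumption
  have hind : LinearIndependent F g := Fintype.linearIndependent_iff.2 fun c hc => congrFun (key c fun j => by
    rw [hc, polar_zero_left])
  refine ⟨P, ⟨fun x hx hx0 => ?_, ?_⟩, by rw [hPdef, finrank_span_eq_card hind, Fintype.card_fin],
    Submodule.span F (Set.range ![nu, nv]), ?_, ?_, ?_⟩
  · obtain ⟨c, rfl⟩ := (Submodule.mem_span_range_iff_exists_fun F).1 hx
    obtain ⟨j, hj⟩ : ∃ j, polar ⇑Q (∑ i, c i • g i) (g j) ≠ 0 := by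
      by_contra hno
      push Not at hno
      exact hx0 (by simp [key c hno])
    exact ⟨⟨g j, Submodule.subset_span ⟨j, rfl⟩, by rwa [QuadraticMap.polar_comm]⟩,
      ⟨g j, Submodule.subset_span ⟨j, rfl⟩, hj⟩⟩
  · have hg' : ∀ j, X *ᵥ g j ∈ P := by
      have e : ∀ z, X *ᵥ z = (X *ᵥ z + z) + z := fun z => by
        rw [add_assoc, show z + z = 0 from funext fun i => CharTwo.add_self_eq_zero _, add_zero]
      intro j
      fin_cases j
      · show X *ᵥ u ∈ P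
        rw [e]
        exact P.add_mem (Submodule.subset_span ⟨2, rfl⟩) (Submodule.subset_span ⟨0, rfl⟩)
      · show X *ᵥ v ∈ P
        rw [e]
        exact P.add_mem (Submodule.subset_span ⟨3, rfl⟩) (Submodule.subset_span ⟨1, rfl⟩)
      · show X *ᵥ nu ∈ P
        rw [hnu, hN]
        exact Submodule.subset_span ⟨2, rfl⟩
      · show X *ᵥ nv ∈ P
        rw [hnv, hN]
        exact Submodule.subset_span ⟨3, rfl⟩
    rw [CfsgLib.OrthFix.Inv, hPdef, Submodule.map_span, Submodule.span_le]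
    rintro _ ⟨_, ⟨j, rfl⟩, rfl⟩
    rw [Matrix.toLin'_apply]
    exact hg' j
  · rw [Submodule.span_le]
    rintro _ ⟨j, rfl⟩
    fin_cases j
    · exact Submodule.subset_span ⟨2, rfl⟩
    · exact Submodule.subset_span ⟨3, rfl⟩
  · intro x hx
    obtain ⟨c, rfl⟩ := (Submodule.mem_span_range_iff_exists_fun F).1 hx
    simp only [Fin.sum_univ_two, Matrix.cons_val]
    rw [QuadraticMap.map_add (f := ⇑Q), QuadraticMap.map_smul, QuadraticMap.map_smul, polar_smul_left,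
      polar_smul_right, hNN, hQN, hQN]
    simp
  · have hind2 : LinearIndependent F ![nu, nv] := by
      have : ![nu, nv] = g ∘ ![(2 : Fin 4), 3] := by funext i; fin_cases i <;> rfl
      rw [this]
      exact hind.comp _ (by decide)
    rw [hPdef, finrank_span_eq_card hind, finrank_span_eq_card hind2, Fintype.card_fin, Fintype.card_fin]

/-- A smallest piece. -/
theorem exists_small (hQ : Q.polarBilin.Nondegenerate) (hX : X * X = 1) (hXQ : ∀ v, Q (X *ᵥ v) = Q v)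
    (hn : 0 < Fintype.card ι) :
    ∃ P, InvNd Q X P ∧ (finrank F P = 2 ∨ (finrank F P = 4 ∧ Cfsg.Geo.IsPlusTypeOn (⇑Q) P)) := by
  by_cases h1 : ∃ v, polar ⇑Q v (X *ᵥ v) ≠ 0
  · obtain ⟨v, hv⟩ := h1
    exact ⟨_, (plane hX hv (Or.inr rfl)).1, Or.inl (plane hX hv (Or.inr rfl)).2⟩
  by_cases h2 : ∃ u w, X *ᵥ u = u ∧ X *ᵥ w = w ∧ polar ⇑Q u w ≠ 0
  · obtain ⟨u, w, hu, hw, huw⟩ := h2
    exact ⟨_, (plane hX huw (Or.inl ⟨hu, hw⟩)).1, Or.inl (plane hX huw (Or.inl ⟨hu, hw⟩)).2⟩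
  push Not at h1 h2
  obtain ⟨u, hu⟩ : ∃ u, X *ᵥ u + u ≠ 0 := by
    by_contra hno
    push Not at hno
    have hfix : ∀ z, X *ᵥ z = z := fun z => funext fun i => CharTwo.add_eq_zero.1 (congrFun (hno z) i)
    have : Nonempty ι := Fintype.card_pos_iff.1 hn
    exact one_ne_zero (congrFun (hQ.1 (1 : ι → F) fun w => h2 1 w (hfix _) (hfix _)) (Classical.arbitrary ι))
  obtain ⟨v, hv⟩ : ∃ v, polar ⇑Q (X *ᵥ u + u) v ≠ 0 := by
    by_contra hno
    push Not at hno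
    exact hu (hQ.1 _ hno)
  obtain ⟨P, hP, hd, hpl⟩ := quad hX hXQ h1 h2 hv
  exact ⟨P, hP, Or.inr ⟨hd, hpl⟩⟩

omit [CharP F 2] in
/-- Invariant non-degenerate orthogonal subspaces add. -/
theorem invNd_sup {P R : Submodule F (ι → F)} (hP : InvNd Q X P) (hR : InvNd Q X R)
    (ho : ∀ u ∈ P, ∀ w ∈ R, polar ⇑Q u w = 0) :
    InvNd Q X (P ⊔ R) ∧ finrank F (P ⊔ R : Submodule F (ι → F)) = finrank F P + finrank F R := by
  obtain ⟨hdis, hnd⟩ := nondegOn_sup hP.1 hR.1 ho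
  refine ⟨⟨hnd, by rw [CfsgLib.OrthFix.Inv, Submodule.map_sup]; exact sup_le_sup hP.2 hR.2⟩, ?_⟩
  have := Submodule.finrank_sup_add_finrank_inf_eq P R
  rwa [hdis.eq_bot, finrank_bot, add_zero] at this

omit [CharP F 2] in
theorem plus_sup {P R : Submodule F (ι → F)} (hP : InvNd Q X P) (hR : InvNd Q X R)
    (ho : ∀ u ∈ P, ∀ w ∈ R, polar ⇑Q u w = 0) (hp : Cfsg.Geo.IsPlusTypeOn (⇑Q) P)
    (hr : Cfsg.Geo.IsPlusTypeOn (⇑Q) R) : Cfsg.Geo.IsPlusTypeOn (⇑Q) (P ⊔ R) := by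
  obtain ⟨S, hS, hSs, hSd⟩ := hp
  obtain ⟨T, hT, hTs, hTd⟩ := hr
  refine ⟨S ⊔ T, sup_le_sup hS hT, fun x hx => ?_, ?_⟩
  · obtain ⟨s, hs, t, ht, rfl⟩ := Submodule.mem_sup.1 hx
    rw [QuadraticMap.map_add (f := ⇑Q), hSs s hs, hTs t ht, ho s (hS hs) t (hT ht)]
    simp
  · have hdis : Disjoint S T := (nondegOn_sup hP.1 hR.1 ho).1.mono hS hT
    have := Submodule.finrank_sup_add_finrank_inf_eq S T
    rw [hdis.eq_bot, finrank_bot, add_zero] at this
    rw [(invNd_sup hP hR ho).2, this]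
    omega

/-- Two orthogonal planes of the same type make a space of plus type. -/
theorem plus_pair (hQ : Q.polarBilin.Nondegenerate) {P R : Submodule F (ι → F)} (hP : InvNd Q X P)
    (hR : InvNd Q X R) (ho : ∀ u ∈ P, ∀ w ∈ R, polar ⇑Q u w = 0) (hPd : finrank F P = 2) (hRd : finrank F R = 2)
    (ht : Cfsg.Geo.IsPlusTypeOn (⇑Q) P ↔ Cfsg.Geo.IsPlusTypeOn (⇑Q) R) :
    Cfsg.Geo.IsPlusTypeOn (⇑Q) (P ⊔ R) := by
  obtain ⟨-, e, he⟩ := (inClass_iff_type hQ hP.1 (k := 1) hPd R).2 ⟨hRd, hR.1, ht.symm⟩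
  let f : P →ₗ[F] (ι → F) := P.subtype + R.subtype.comp e.toLinearMap
  have hf : ∀ w : P, f w = (w : ι → F) + (e w : ι → F) := fun _ => rfl
  have hfi : Function.Injective f := by
    rw [← LinearMap.ker_eq_bot, Submodule.eq_bot_iff]
    intro w hw
    rw [LinearMap.mem_ker, hf, add_eq_zero_iff_eq_neg] at hw
    exact Subtype.ext (Submodule.disjoint_def.1 (nondegOn_sup hP.1 hR.1 ho).1 (w : ι → F) w.2
      (by rw [hw]; exact R.neg_mem (e w).2))
  refine ⟨LinearMap.range f, ?_, ?_, ?_⟩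
  · rintro _ ⟨w, rfl⟩
    rw [hf]
    exact Submodule.add_mem_sup w.2 (e w).2
  · rintro _ ⟨w, rfl⟩
    rw [hf, QuadraticMap.map_add (f := ⇑Q), he, ho _ w.2 _ (e w).2, add_zero, CharTwo.add_self_eq_zero]
  · rw [LinearMap.finrank_range_of_inj hfi, (invNd_sup hP hR ho).2, hPd, hRd]

/-- A small piece in the complement. -/
theorem exists_small_orth (hQ : Q.polarBilin.Nondegenerate) (hX : X * X = 1) (hXQ : ∀ v, Q (X *ᵥ v) = Q v)
    {K : Submodule F (ι → F)} (hK : InvNd Q X K) (hlt : finrank F K < Fintype.card ι) :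
    ∃ P, InvNd Q X P ∧ (∀ u ∈ K, ∀ w ∈ P, polar ⇑Q u w = 0) ∧
      (finrank F P = 2 ∨ (finrank F P = 4 ∧ Cfsg.Geo.IsPlusTypeOn (⇑Q) P)) := by
  have hR := invNd_orthogonal hQ hX hXQ hK
  obtain ⟨-, hdim, -⟩ := complement hQ hK.1
  obtain ⟨Q₁, X₁, Φ, hs⟩ := exists_sub hQ hR.1 hR.2 rfl
  obtain ⟨P, ⟨hPn, hPi⟩, hP⟩ := exists_small hs.nondeg (by rw [← pow_two]; exact hs.pow_eq_one (by rw [pow_two, hX]))
    (hs.isometry hXQ) (by rw [Fintype.card_fin]; omega)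
  refine ⟨P.map Φ, ⟨hs.map_nondeg hPn, hs.map_inv hPi⟩, fun u hu w hw => hs.map_le P hw u hu, ?_⟩
  rw [hs.finrank_map]
  exact hP.imp_right fun h => ⟨h.1, hs.map_plus h.2⟩

/-- A four-dimensional invariant subspace of plus type. -/
theorem exists_block (hQ : Q.polarBilin.Nondegenerate) (hX : X * X = 1) (hXQ : ∀ v, Q (X *ᵥ v) = Q v)
    (hn : 6 ≤ Fintype.card ι) :
    ∃ P, InvNd Q X P ∧ finrank F P = 4 ∧ Cfsg.Geo.IsPlusTypeOn (⇑Q) P := by
  obtain ⟨P₁, h1, hd1 | hd1⟩ := exists_small hQ hX hXQ (by omega)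
  swap; · exact ⟨P₁, h1, hd1⟩
  obtain ⟨P₂, h2, ho12, hd2 | hd2⟩ := exists_small_orth hQ hX hXQ h1 (by omega)
  swap; · exact ⟨P₂, h2, hd2⟩
  obtain ⟨hK, hKd⟩ := invNd_sup h1 h2 ho12
  obtain ⟨P₃, h3, ho, hd3 | hd3⟩ := exists_small_orth hQ hX hXQ hK (by omega)
  swap; · exact ⟨P₃, h3, hd3⟩
  have ho13 : ∀ u ∈ P₁, ∀ w ∈ P₃, polar ⇑Q u w = 0 := fun u hu => ho u (Submodule.mem_sup_left hu)
  have ho23 : ∀ u ∈ P₂, ∀ w ∈ P₃, polar ⇑Q u w = 0 := fun u hu => ho u (Submodule.mem_sup_right hu)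
  by_cases t12 : Cfsg.Geo.IsPlusTypeOn (⇑Q) P₁ ↔ Cfsg.Geo.IsPlusTypeOn (⇑Q) P₂
  · exact ⟨_, hK, by omega, plus_pair hQ h1 h2 ho12 hd1 hd2 t12⟩
  by_cases t13 : Cfsg.Geo.IsPlusTypeOn (⇑Q) P₁ ↔ Cfsg.Geo.IsPlusTypeOn (⇑Q) P₃
  · exact ⟨_, (invNd_sup h1 h3 ho13).1, by rw [(invNd_sup h1 h3 ho13).2]; omega,
      plus_pair hQ h1 h3 ho13 hd1 hd3 t13⟩
  · exact ⟨_, (invNd_sup h2 h3 ho23).1, by rw [(invNd_sup h2 h3 ho23).2]; omega,
      plus_pair hQ h2 h3 ho23 hd2 hd3 (by tauto)⟩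

/-- Invariant plus-type subspaces of dimension divisible by four. -/
theorem exists_plus_four (e : ℕ) : ∀ {n : ℕ} {Q : QuadraticForm F (Fin n → F)} {X : Matrix (Fin n) (Fin n) F},
    Q.polarBilin.Nondegenerate → X * X = 1 → (∀ v, Q (X *ᵥ v) = Q v) → 4 * e + 2 ≤ n →
      ∃ W, InvNd Q X W ∧ finrank F W = 4 * e ∧ Cfsg.Geo.IsPlusTypeOn (⇑Q) W := by
  induction e with
  | zero =>
    intro n Q X _ _ _ _
    exact ⟨⊥, ⟨fun w hw h0 => absurd ((Submodule.mem_bot F).1 hw) h0, by rw [CfsgLib.OrthFix.Inv, Submodule.map_bot]⟩,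
      finrank_bot F _, ⊥, le_rfl, fun u hu => by rw [(Submodule.mem_bot F).1 hu, map_zero], by rw [finrank_bot]⟩
  | succ e ih =>
    intro n Q X hQ hX hXQ hn
    obtain ⟨B, hB, hBd, hBp⟩ := exists_block hQ hX hXQ (by rw [Fintype.card_fin]; omega)
    have hR := invNd_orthogonal hQ hX hXQ hB
    obtain ⟨-, hdim, -⟩ := complement hQ hB.1
    rw [Fintype.card_fin, hBd] at hdim
    obtain ⟨Q₁, X₁, Φ, hs⟩ := exists_sub hQ hR.1 hR.2 (n := n - 4) (by omega)
    obtain ⟨W, ⟨hWn, hWi⟩, hWd, hWp⟩ := ih hs.nondeg (by rw [← pow_two]; exact hs.pow_eq_one (by rw [pow_two, hX]))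
      (hs.isometry hXQ) (by omega)
    have hW : InvNd Q X (W.map Φ) := ⟨hs.map_nondeg hWn, hs.map_inv hWi⟩
    have ho : ∀ u ∈ B, ∀ w ∈ W.map Φ, polar ⇑Q u w = 0 := fun u hu w hw => hs.map_le W hw u hu
    exact ⟨_, (invNd_sup hB hW ho).1, by rw [(invNd_sup hB hW ho).2, hs.finrank_map]; omega,
      plus_sup hB hW ho hBp (hs.map_plus hWp)⟩

/-- An invariant plane of plus type. -/
theorem exists_plus_plane (e : ℕ) : ∀ {n : ℕ} {Q : QuadraticForm F (Fin n → F)} {X : Matrix (Fin n) (Fin n) F},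
    Q.polarBilin.Nondegenerate → X * X = 1 → (∀ v, Q (X *ᵥ v) = Q v) → n = 2 * e → (IsPlus (⇑Q) e ↔ Odd e) →
      ∃ W, InvNd Q X W ∧ finrank F W = 2 ∧ Cfsg.Geo.IsPlusTypeOn (⇑Q) W := by
  induction e using Nat.strong_induction_on with
  | _ e ih =>
    intro n Q X hQ hX hXQ hn ht
    have he : 0 < e := by
      by_contra h0
      obtain rfl : e = 0 := by omega
      exact absurd (ht.1 (isPlus_zero _ (map_zero Q))) (by simp)
    obtain ⟨P, hP, hPd⟩ := exists_small hQ hX hXQ (by rw [Fintype.card_fin]; omega)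
    by_cases hgood : finrank F P = 2 ∧ Cfsg.Geo.IsPlusTypeOn (⇑Q) P
    · exact ⟨P, hP, hgood⟩
    obtain ⟨j, hj, hjt⟩ : ∃ j, (j = 1 ∨ j = 2) ∧ finrank F P = 2 * j ∧ (Cfsg.Geo.IsPlusTypeOn (⇑Q) P ↔ j = 2) := by
      rcases hPd with h | ⟨h, hp⟩
      · exact ⟨1, Or.inl rfl, h, iff_of_false (fun hp => hgood ⟨h, hp⟩) (by omega)⟩
      · exact ⟨2, Or.inr rfl, h, iff_of_true hp rfl⟩
    have hR := invNd_orthogonal hQ hX hXQ hP
    obtain ⟨-, hdim, htype⟩ := complement hQ hP.1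
    rw [Fintype.card_fin, hjt.1] at hdim
    obtain ⟨Q₁, X₁, Φ, hs⟩ := exists_sub hQ hR.1 hR.2 (n := 2 * (e - j)) (by omega)
    have hlink := htype j (e - j) hjt.1 (by omega)
    rw [show j + (e - j) = e by omega, ht, hjt.2, hs.isPlus_iff (k := e - j) (by rw [Fintype.card_fin])] at hlink
    obtain ⟨W, ⟨hWn, hWi⟩, hWd, hWp⟩ := ih (e - j) (by omega) hs.nondeg
      (by rw [← pow_two]; exact hs.pow_eq_one (by rw [pow_two, hX])) (hs.isometry hXQ) rfl (by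
        rcases hj with rfl | rfl
        · have e1 : Odd (e - 1) ↔ ¬ Odd e := by rw [Nat.odd_iff, Nat.odd_iff]; omega
          rw [e1, hlink]
          tauto
        · have e1 : Odd (e - 2) ↔ Odd e := by rw [Nat.odd_iff, Nat.odd_iff]; omega
          rw [e1, hlink]
          tauto)
    exact ⟨W.map Φ, ⟨hs.map_nondeg hWn, hs.map_inv hWi⟩, by rw [hs.finrank_map, hWd], hs.map_plus hWp⟩

/-- Every involutory isometry fixes a subspace of plus type of dimension `2 j`. -/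
theorem exists_plus_invariant {n d j : ℕ} {Q : QuadraticForm F (Fin n → F)} {X : Matrix (Fin n) (Fin n) F}
    (hQ : Q.polarBilin.Nondegenerate) (hX : X * X = 1) (hXQ : ∀ v, Q (X *ᵥ v) = Q v) (hn : n = 2 * d)
    (hpl : IsPlus (⇑Q) d) (hjd : j + 1 ≤ d) (h : Even j ∨ Odd d) :
    ∃ W, InvNd Q X W ∧ finrank F W = 2 * j ∧ Cfsg.Geo.IsPlusTypeOn (⇑Q) W := by
  rcases Nat.even_or_odd' j with ⟨e, rfl | rfl⟩
  · obtain ⟨W, hW, hd, hp⟩ := exists_plus_four e hQ hX hXQ (by omega)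
    exact ⟨W, hW, by omega, hp⟩
  · have hodd : Odd d := h.resolve_left (by rw [Nat.even_iff]; omega)
    obtain ⟨P, hP, hPd, hPp⟩ := exists_plus_plane d hQ hX hXQ hn (iff_of_true hpl hodd)
    have hR := invNd_orthogonal hQ hX hXQ hP
    obtain ⟨-, hdim, -⟩ := complement hQ hP.1
    rw [Fintype.card_fin, hPd] at hdim
    obtain ⟨Q₁, X₁, Φ, hs⟩ := exists_sub hQ hR.1 hR.2 (n := n - 2) (by omega)
    rw [Nat.odd_iff] at hodd
    obtain ⟨W, ⟨hWn, hWi⟩, hWd, hWp⟩ := exists_plus_four e hs.nondeg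
      (by rw [← pow_two]; exact hs.pow_eq_one (by rw [pow_two, hX])) (hs.isometry hXQ) (by omega)
    have hW : InvNd Q X (W.map Φ) := ⟨hs.map_nondeg hWn, hs.map_inv hWi⟩
    have ho : ∀ u ∈ P, ∀ w ∈ W.map Φ, polar ⇑Q u w = 0 := fun u hu w hw => hs.map_le W hw u hu
    exact ⟨_, (invNd_sup hP hW ho).1, by rw [(invNd_sup hP hW ho).2, hs.finrank_map]; omega,
      plus_sup hP hW ho hPp (hs.map_plus hWp)⟩

end CfsgLib.OrthFix57
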