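import Cfsg.Agent.Lib.OrthFix.Subspaces
import Cfsg.Agent.Lib.Maximal99.OrthUnipotent
import Cfsg.Agent.Helper57Spinor

/-!
Isometries squaring to `-1` in odd characteristic: planes, type, membership in `Ω`, invariant subspaces,
and the involution criterion for classes of non-degenerate subspaces in the projective group.
-/

set_option autoImplicit false
set_option linter.unusedSectionVars false

namespace CfsgLib.OrthFix57

open Matrix QuadraticMap CfsgLib.Orth CfsgLib.OrthFix CfsgLib.PrimeClasses CfsgLib.QuadType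
open Cfsg.Agent.Spinor57 (sqSign sqSign_mul sqSign_eq_one_iff sqSign_one chiPair_refl')

variable {F : Type*} [Field F] {ι : Type} [Fintype ι] [DecidableEq ι] {k : ℕ}
  {Q : QuadraticForm F (ι → F)}

/-- The sum of `k` circles. -/
noncomputable def circ (k : ℕ) (c : Fin k → F) : QuadraticForm F (Fin k ⊕ Fin k → F) :=
  QuadraticMap.weightedSumSquares F (Sum.elim c c)

theorem circ_apply (c : Fin k → F) (u : Fin k ⊕ Fin k → F) :
    circ k c u = ∑ i, c i * (u (.inl i) * u (.inl i) + u (.inr i) * u (.inr i)) := by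
  simp [circ, Fintype.sum_sum_type, ← Finset.sum_add_distrib, mul_add]

theorem circ_coe (c : Fin k → F) :
    ⇑(circ k c) = fun u : Fin k ⊕ Fin k → F => ∑ i, Sum.elim c c i * u i ^ 2 := by
  funext u; simp [circ, pow_two]

theorem wss_nondeg (h2 : (2 : F) ≠ 0) {κ : Type} [Fintype κ] [DecidableEq κ] (w : κ → F)
    (hw : ∀ i, w i ≠ 0) : (QuadraticMap.weightedSumSquares F w).polarBilin.Nondegenerate := by
  have key : ∀ x, (∀ y, polar ⇑(QuadraticMap.weightedSumSquares F w) x y = 0) → x = 0 :=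
    fun x hx => funext fun i => by
      have h' := hx (Pi.single i 1)
      simp only [QuadraticMap.polar, QuadraticMap.weightedSumSquares_apply, Pi.add_apply,
        ← Finset.sum_sub_distrib, smul_eq_mul] at h'
      rw [Finset.sum_eq_single i (fun k _ hk => by simp [hk]) (by simp)] at h'
      simp only [Pi.single_eq_same, mul_one] at h'
      have h'' : w i * 2 * x i = 0 := by linear_combination h'
      exact (mul_eq_zero.1 h'').resolve_left (mul_ne_zero (hw i) h2)
  exact ⟨key, fun x hx => key x fun y => by rw [QuadraticMap.polar_comm]; exact hx y⟩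

/-- A quarter turn in every plane. -/
def rot (u : Fin k ⊕ Fin k → F) : Fin k ⊕ Fin k → F := Sum.elim (fun i => -u (.inr i)) fun i => u (.inl i)

/-- `k` mutually orthogonal anisotropic planes turned by `X`. -/
structure Fr (Q : QuadraticForm F (ι → F)) (X : Matrix ι ι F) {k : ℕ} (v : Fin k → ι → F) : Prop where
  aniso : ∀ i, Q (v i) ≠ 0
  perp : ∀ i j, i ≠ j → polar Q (v i) (v j) = 0
  perpX : ∀ i j, i ≠ j → polar Q (v i) (X *ᵥ v j) = 0

/-- The linear map of a frame. -/
noncomputable def comb (X : Matrix ι ι F) (v : Fin k → ι → F) : (Fin k ⊕ Fin k → F) →ₗ[F] (ι → F) :=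
  Fintype.linearCombination F (Sum.elim v fun i => X *ᵥ v i)

theorem comb_apply (X : Matrix ι ι F) (v : Fin k → ι → F) (u : Fin k ⊕ Fin k → F) :
    comb X v u = ∑ i, (u (.inl i) • v i + u (.inr i) • (X *ᵥ v i)) := by
  simp [comb, Fintype.linearCombination_apply, Fintype.sum_sum_type, Finset.sum_add_distrib]

theorem map_sum_orth {κ : Type*} (s : Finset κ) (f : κ → ι → F)
    (h : ∀ i ∈ s, ∀ j ∈ s, i ≠ j → polar Q (f i) (f j) = 0) :
    Q (∑ i ∈ s, f i) = ∑ i ∈ s, Q (f i) := by
  classical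
  induction s using Finset.induction_on with
  | empty => simp
  | insert a s ha ih =>
    rw [Finset.sum_insert ha, Finset.sum_insert ha, QuadraticMap.map_add (f := ⇑Q),
      ih fun i hi j hj => h i (Finset.mem_insert_of_mem hi) j (Finset.mem_insert_of_mem hj)]
    have h0 : polar Q (f a) (∑ i ∈ s, f i) = 0 := by
      rw [← polarBilin_apply_apply, map_sum]
      exact Finset.sum_eq_zero fun i hi => h a (Finset.mem_insert_self _ _) i (Finset.mem_insert_of_mem hi)
        fun e => ha (e ▸ hi)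
    rw [h0, add_zero]

section

variable {X : Matrix ι ι F} (hX : X * X = -1) (hXQ : ∀ u, Q (X *ᵥ u) = Q u)
include hX hXQ

omit hXQ in
theorem X_X (u : ι → F) : X *ᵥ (X *ᵥ u) = -u := by rw [mulVec_mulVec, hX, neg_mulVec, one_mulVec]

theorem polar_X (u w : ι → F) : polar Q (X *ᵥ u) (X *ᵥ w) = polar Q u w := by
  simp only [QuadraticMap.polar, ← mulVec_add, hXQ]

theorem polar_self_X (h2 : (2 : F) ≠ 0) (u : ι → F) : polar Q u (X *ᵥ u) = 0 := by
  have h := polar_X hX hXQ u (X *ᵥ u)
  rw [X_X hX, QuadraticMap.polar_neg_right, QuadraticMap.polar_comm] at h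
  have : (2 : F) * polar Q u (X *ᵥ u) = 0 := by linear_combination -h
  exact (mul_eq_zero.1 this).resolve_left h2

theorem polar_X_left (u w : ι → F) : polar Q (X *ᵥ u) w = -polar Q u (X *ᵥ w) := by
  have h := polar_X hX hXQ u (X *ᵥ w)
  rw [X_X hX, QuadraticMap.polar_neg_right] at h
  linear_combination -h

omit hXQ in
theorem X_comb (v : Fin k → ι → F) (u : Fin k ⊕ Fin k → F) :
    X *ᵥ comb X v u = comb X v (rot u) := by
  simp only [comb_apply, mulVec_sum, mulVec_add, mulVec_smul, X_X hX, rot, Sum.elim_inl, Sum.elim_inr]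
  refine Finset.sum_congr rfl fun i _ => ?_
  module

variable (h2 : (2 : F) ≠ 0) {v : Fin k → ι → F} (hv : Fr Q X v)
include h2 hv

theorem Q_comb (u : Fin k ⊕ Fin k → F) : Q (comb X v u) = circ k (fun i => Q (v i)) u := by
  rw [comb_apply, map_sum_orth, circ_apply]
  · refine Finset.sum_congr rfl fun i _ => ?_
    rw [QuadraticMap.map_add (f := ⇑Q), QuadraticMap.map_smul, QuadraticMap.map_smul, hXQ, polar_smul_left,
      polar_smul_right, polar_self_X hX hXQ h2, smul_eq_mul, smul_eq_mul]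
    ring
  · intro i _ j _ hij
    simp only [polar_add_left, polar_add_right, polar_smul_left, polar_smul_right, smul_eq_mul,
      polar_X hX hXQ, hv.perp i j hij, hv.perpX i j hij, polar_X_left hX hXQ (v i) (v j)]
    ring

theorem polar_comb (u w : Fin k ⊕ Fin k → F) :
    polar Q (comb X v u) (comb X v w) = polar ⇑(circ k fun i => Q (v i)) u w := by
  simp only [QuadraticMap.polar, ← map_add, Q_comb hX hXQ h2 hv]

theorem comb_injective : Function.Injective (comb X v) := by
  rw [← LinearMap.ker_eq_bot, Submodule.eq_bot_iff]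
  intro u hu
  refine (wss_nondeg h2 (Sum.elim (fun i => Q (v i)) fun i => Q (v i)) (by rintro (i | i) <;> exact hv.aniso i)).1
    u fun w => ?_
  have h := polar_comb hX hXQ h2 hv u w
  rw [LinearMap.mem_ker.1 hu, QuadraticMap.polar_zero_left] at h
  exact h.symm

theorem two_mul_le : 2 * k ≤ Fintype.card ι := by
  have h := LinearMap.finrank_le_finrank_of_injective (comb_injective hX hXQ h2 hv)
  simp at h
  omega

theorem range_nondeg : Cfsg.Geo.IsNondegenerateOn (polar ⇑Q) (LinearMap.range (comb X v)) := by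
  rintro _ ⟨u, rfl⟩ hu
  obtain ⟨w, hw⟩ : ∃ w, polar ⇑(circ k fun i => Q (v i)) u w ≠ 0 := by
    by_contra hno
    push Not at hno
    refine hu ?_
    rw [(wss_nondeg h2 (Sum.elim (fun i => Q (v i)) fun i => Q (v i))
      (by rintro (i | i) <;> exact hv.aniso i)).1 u hno, map_zero]
  exact ⟨⟨_, ⟨w, rfl⟩, by rwa [QuadraticMap.polar_comm, polar_comb hX hXQ h2 hv]⟩,
    ⟨_, ⟨w, rfl⟩, by rwa [polar_comb hX hXQ h2 hv]⟩⟩

theorem extend [Fintype F] (hQ : Q.polarBilin.Nondegenerate) (hlt : 2 * k < Fintype.card ι) :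
    ∃ v' : Fin (k + 1) → ι → F, Fr Q X v' := by
  obtain ⟨a, b, Q₁, Q₂, E, hE, hsE, ha, -⟩ := exists_splits (range_nondeg hX hXQ h2 hv)
  rw [LinearMap.finrank_range_of_inj (comb_injective hX hXQ h2 hv)] at ha
  have hab : a + b = Fintype.card ι := by simpa using E.finrank_eq
  simp at ha
  obtain ⟨w₀, hw₀⟩ := exists_value_ne_zero (hE.nondeg_right hQ) (by simp; omega)
  set w := E (Sum.elim 0 w₀) with hw
  have hQw : Q w ≠ 0 := by rw [hw, hE]; simpa [qSum] using hw₀
  have horth : ∀ u, polar Q (comb X v u) w = 0 := fun u => by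
    have hu : comb X v u ∈ summand E := hsE ▸ ⟨u, rfl⟩
    rw [mem_summand] at hu
    rw [← E.apply_symm_apply (comb X v u), hw, hE.polar_apply, hu]
    simp [QuadraticMap.polar_zero_right, QuadraticMap.polar_zero_left]
  have h1 : ∀ j, polar Q (v j) w = 0 := fun j => by
    have := horth (Pi.single (.inl j) 1)
    simpa [comb] using this
  have h3 : ∀ j, polar Q (X *ᵥ v j) w = 0 := fun j => by
    have := horth (Pi.single (.inr j) 1)
    simpa [comb] using this
  have h4 : ∀ j, polar Q (v j) (X *ᵥ w) = 0 := fun j => by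
    have := h3 j
    rwa [polar_X_left hX hXQ, neg_eq_zero] at this
  refine ⟨Fin.snoc v w, ⟨?_, ?_, ?_⟩⟩
  · intro i
    refine Fin.lastCases ?_ (fun j => ?_) i
    · simpa using hQw
    · simpa using hv.aniso j
  · intro i j
    refine Fin.lastCases ?_ (fun i => ?_) i <;> refine Fin.lastCases ?_ (fun j => ?_) j <;> intro hij
    · exact absurd rfl hij
    · simp [QuadraticMap.polar_comm (f := ⇑Q) w, h1]
    · simp [h1]
    · simpa using hv.perp i j fun e => hij (e ▸ rfl)
  · intro i j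
    refine Fin.lastCases ?_ (fun i => ?_) i <;> refine Fin.lastCases ?_ (fun j => ?_) j <;> intro hij
    · exact absurd rfl hij
    · simp [QuadraticMap.polar_comm (f := ⇑Q) w, h3]
    · simp [h4]
    · simpa using hv.perpX i j fun e => hij (e ▸ rfl)

end

variable [Fintype F]

theorem exists_frame (h2 : (2 : F) ≠ 0) (hQ : Q.polarBilin.Nondegenerate) {X : Matrix ι ι F}
    (hX : X * X = -1) (hXQ : ∀ u, Q (X *ᵥ u) = Q u) :
    ∃ (k : ℕ) (v : Fin k → ι → F), Fintype.card ι = 2 * k ∧ Fr Q X v := by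
  have grow : ∀ k, (∃ v : Fin k → ι → F, Fr Q X v) ∨ ∃ k', ∃ v : Fin k' → ι → F, Fintype.card ι = 2 * k' ∧ Fr Q X v := by
    intro k
    induction k with
    | zero => exact Or.inl ⟨Fin.elim0, ⟨fun i => i.elim0, fun i => i.elim0, fun i => i.elim0⟩⟩
    | succ k ih =>
      rcases ih with ⟨v, hv⟩ | h
      · rcases (two_mul_le hX hXQ h2 hv).lt_or_eq with h | h
        · exact Or.inl (extend hX hXQ h2 hv hQ h)
        · exact Or.inr ⟨k, v, h.symm, hv⟩
      · exact Or.inr h
  rcases grow (Fintype.card ι + 1) with ⟨v, hv⟩ | h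
  · have := two_mul_le hX hXQ h2 hv
    omega
  · exact h

theorem isSquare_neg_one_pow_iff (k : ℕ) : IsSquare ((-1 : F) ^ k) ↔ (Even k ∨ IsSquare (-1 : F)) := by
  rcases Nat.even_or_odd k with h | h
  · rw [h.neg_one_pow]
    exact iff_of_true IsSquare.one (Or.inl h)
  · rw [h.neg_one_pow]
    simp [Nat.not_even_iff_odd.2 h]

theorem circ_plus_iff (h2 : (2 : F) ≠ 0) {c : Fin k → F} (hc : ∀ i, c i ≠ 0) :
    IsPlus (⇑(circ k c)) k ↔ IsSquare ((-1 : F) ^ k) := by
  classical
  let D : QuadraticForm F (Fin k ⊕ Fin k → F) := QuadraticMap.weightedSumSquares F (Sum.elim c fun i => -c i)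
  have hDn : D.polarBilin.Nondegenerate := wss_nondeg h2 _ (by rintro (i | i) <;> simp [hc i])
  have hCn : (circ k c).polarBilin.Nondegenerate := wss_nondeg h2 _ (by rintro (i | i) <;> simp [hc i])
  have hDcoe : ⇑D = fun u : Fin k ⊕ Fin k → F => ∑ i, Sum.elim c (fun i => -c i) i * u i ^ 2 := by
    funext u; simp [D, pow_two]
  have hD : IsPlus (⇑D) k := by
    let f : (Fin k → F) →ₗ[F] (Fin k ⊕ Fin k → F) := LinearMap.funLeft F F (Sum.elim id id)
    refine ⟨LinearMap.range f, ?_, ?_⟩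
    · rintro _ ⟨a, rfl⟩
      simp [D, f, Fintype.sum_sum_type, LinearMap.funLeft_apply]
    · rw [LinearMap.finrank_range_of_inj (LinearMap.funLeft_injective_of_surjective F F _
        fun i => ⟨.inl i, rfl⟩)]
      simp
  have hdetC : (CfsgLib.QuadFin.gram ⇑(circ k c)).det = (∏ i, 2 * c i) * ∏ i, 2 * c i := by
    rw [circ_coe, CfsgLib.QuadFin.gram_diag, Matrix.det_diagonal, Fintype.prod_sum_type]
    rfl
  have hdetD : (CfsgLib.QuadFin.gram ⇑D).det = (-1) ^ k * ((∏ i, 2 * c i) * ∏ i, 2 * c i) := by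
    rw [hDcoe, CfsgLib.QuadFin.gram_diag, Matrix.det_diagonal, Fintype.prod_sum_type]
    simp only [Sum.elim_inl, Sum.elim_inr, mul_neg, Finset.prod_neg, Finset.card_univ, Fintype.card_fin]
    ring
  have hp0 : (∏ i, 2 * c i) ≠ 0 := Finset.prod_ne_zero_iff.2 fun i _ => mul_ne_zero h2 (hc i)
  constructor
  · intro h
    obtain ⟨a₀, c₀, hac⟩ := exists_anisotropic_binary (F := F)
    obtain ⟨e, he⟩ : QEquiv ⇑(circ k c) ⇑D :=
      ((qEquiv_standard _ hCn (by simp [two_mul]) hac).1 h).symm.trans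
        ((qEquiv_standard _ hDn (by simp [two_mul]) hac).1 hD)
    have hg := CfsgLib.QuadFin.gram_det_comp D e
    rw [show (fun u => D (e u)) = ⇑(circ k c) from funext he, hdetC, hdetD] at hg
    refine ⟨(LinearMap.det e.toLinearMap)⁻¹, ?_⟩
    have hdd : LinearMap.det e.toLinearMap ≠ 0 := e.isUnit_det'.ne_zero
    have h3 : (1 : F) = LinearMap.det e.toLinearMap ^ 2 * (-1) ^ k :=
      mul_right_cancel₀ (mul_ne_zero hp0 hp0) (by linear_combination hg)
    field_simp
    linear_combination -h3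
  · intro h
    obtain ⟨g, hg⟩ := CfsgLib.OrthUnipotent.exists_isometry h2 D (circ k c) hDn hCn (by
      rw [hdetC, hdetD]
      obtain ⟨s, hs⟩ := h
      exact ⟨s * ((∏ i, 2 * c i) * ∏ i, 2 * c i), by rw [hs]; ring⟩)
    exact (isPlus_congr (f := ⇑(circ k c)) ⟨g, hg⟩ k).2 hD

theorem qEquiv_frame (h2 : (2 : F) ≠ 0) {X : Matrix ι ι F} (hX : X * X = -1) (hXQ : ∀ u, Q (X *ᵥ u) = Q u)
    {v : Fin k → ι → F} (hk : Fintype.card ι = 2 * k) (hv : Fr Q X v) :
    QEquiv ⇑(circ k fun i => Q (v i)) ⇑Q :=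
  ⟨(comb X v).linearEquivOfInjective (comb_injective hX hXQ h2 hv) (by simp [hk, two_mul]),
    fun u => Q_comb hX hXQ h2 hv u⟩

/-- The type of a space with an isometry squaring to `-1`. -/
theorem even_and_isPlus_iff (h2 : (2 : F) ≠ 0) (hQ : Q.polarBilin.Nondegenerate) {X : Matrix ι ι F}
    (hX : X * X = -1) (hXQ : ∀ u, Q (X *ᵥ u) = Q u) :
    ∃ k, Fintype.card ι = 2 * k ∧ (IsPlus (⇑Q) k ↔ IsSquare ((-1 : F) ^ k)) := by
  obtain ⟨k, v, hk, hv⟩ := exists_frame h2 hQ hX hXQ
  refine ⟨k, hk, ?_⟩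
  rw [isPlus_congr (qEquiv_frame h2 hX hXQ hk hv), circ_plus_iff h2 hv.aniso]

theorem isSquare_of_sign {a b : F} (ha : a ≠ 0) (hb : b ≠ 0) : sqSign (a * (b * b)) = sqSign a := by
  rw [sqSign_mul ha (mul_ne_zero hb hb), (sqSign_eq_one_iff (b * b)).2 ⟨b, rfl⟩, mul_one]

/-- The spinor norm of an isometry squaring to `-1`. -/
theorem mem_omega_iff (h2 : (2 : F) ≠ 0) (hQ : Q.polarBilin.Nondegenerate) (x : O Q) {X : Matrix ι ι F}
    (hxX : ∀ u, app x u = X *ᵥ u) (hX : X * X = -1) (hk : Fintype.card ι = 2 * k) :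
    x ∈ Cfsg.Omega F ⇑Q ↔ IsSquare ((2 : F) ^ k) := by
  classical
  obtain ⟨d, hd⟩ := CfsgLib.OrthOmega.exists_not_square h2
  have hXQ : ∀ u, Q (X *ᵥ u) = Q u := fun u => by rw [← hxX, Q_app]
  obtain ⟨k', v, hk', hv⟩ := exists_frame h2 hQ hX hXQ
  obtain rfl : k = k' := by omega
  let P : Fin k → O Q := fun i => refl Q (v i + X *ᵥ v i) * refl Q (v i)
  have hQs : ∀ i, Q (v i + X *ᵥ v i) = 2 * Q (v i) := fun i => by
    rw [QuadraticMap.map_add (f := ⇑Q), hXQ, polar_self_X hX hXQ h2]; ring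
  have hs0 : ∀ i, Q (v i + X *ᵥ v i) ≠ 0 := fun i => by rw [hQs]; exact mul_ne_zero h2 (hv.aniso i)
  have hsq : ∀ u, polar Q u u = 2 * Q u := fun u => polar_self' u
  have key : ∀ l : List (Fin k), l.Nodup → ∀ j,
      app (l.map P).prod (v j) = (if j ∈ l then X *ᵥ v j else v j) ∧
      app (l.map P).prod (X *ᵥ v j) = (if j ∈ l then -v j else X *ᵥ v j) := by
    intro l
    induction l with
    | nil => simp
    | cons i l ih =>
      intro hnd j
      rw [List.nodup_cons] at hnd
      obtain ⟨e1, e2⟩ := ih hnd.2 j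
      simp only [List.map_cons, List.prod_cons, app_mul, e1, e2, List.mem_cons]
      have hfix : ∀ {a : Fin k}, a ≠ i → app (P i) (v a) = v a ∧ app (P i) (X *ᵥ v a) = X *ᵥ v a := by
        intro a ha
        have p1 : polar Q (v a) (v i) = 0 := hv.perp a i ha
        have p2 : polar Q (v a) (X *ᵥ v i) = 0 := hv.perpX a i ha
        have p3 : polar Q (X *ᵥ v a) (v i) = 0 := by rw [polar_X_left hX hXQ, p2, neg_zero]
        have p4 : polar Q (X *ᵥ v a) (X *ᵥ v i) = 0 := by rw [polar_X hX hXQ, p1]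
        constructor
        · simp only [P, app_mul]
          rw [app_refl_of_ortho p1, app_refl_of_ortho (by rw [polar_add_right, p1, p2, add_zero])]
        · simp only [P, app_mul]
          rw [app_refl_of_ortho p3, app_refl_of_ortho (by rw [polar_add_right, p3, p4, add_zero])]
      have hrot : app (P i) (v i) = X *ᵥ v i ∧ app (P i) (X *ᵥ v i) = -v i := by
        have q0 := hv.aniso i
        constructor
        · simp only [P, app_mul]
          rw [app_refl_self q0, app_refl, hQs, polar_neg_left, polar_add_right, hsq, polar_self_X hX hXQ h2,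
            add_zero, mul_neg, inv_mul_cancel₀ (mul_ne_zero h2 q0)]
          module
        · simp only [P, app_mul]
          have q1 : polar Q (X *ᵥ v i) (v i) = 0 := by
            rw [QuadraticMap.polar_comm]; exact polar_self_X hX hXQ h2 (v i)
          rw [app_refl_of_ortho q1,
            app_refl, hQs, polar_add_right, QuadraticMap.polar_comm (f := ⇑Q) (X *ᵥ v i) (v i),
            polar_self_X hX hXQ h2, hsq, hXQ, zero_add, inv_mul_cancel₀ (mul_ne_zero h2 q0)]
          module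
      by_cases hji : j = i
      · subst hji
        simp only [hnd.1, if_false, true_or, if_true]
        exact hrot
      · simp only [hji, false_or]
        split_ifs
        · exact ⟨(hfix hji).2, by rw [map_neg, (hfix hji).1]⟩
        · exact hfix hji
  have hx : x = ((List.finRange k).map P).prod := by
    refine ext_app fun u => ?_
    obtain ⟨w, rfl⟩ : ∃ w, comb X v w = u :=
      ((comb X v).linearEquivOfInjective (comb_injective hX hXQ h2 hv) (by simp [hk, two_mul])).surjective u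
    rw [hxX, comb_apply, mulVec_sum, map_sum]
    refine Finset.sum_congr rfl fun j _ => ?_
    obtain ⟨e1, e2⟩ := key _ (List.nodup_finRange k) j
    rw [mulVec_add, mulVec_smul, mulVec_smul, map_add, map_smul, map_smul, e1, e2,
      if_pos (List.mem_finRange j), if_pos (List.mem_finRange j), X_X hX]
  have hchi : ∀ i, chiPair Q d (P i) = (sqSign (2 : F), sqSign (2 : F)) := fun i => by
    rw [map_mul, chiPair_refl' h2 hd (hs0 i), chiPair_refl' h2 hd (hv.aniso i), hQs, Prod.mk_mul_mk,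
      neg_mul_neg, ← sqSign_mul (mul_ne_zero h2 (hv.aniso i)) (hv.aniso i), mul_assoc,
      isSquare_of_sign h2 (hv.aniso i)]
  have hpow : sqSign ((2 : F) ^ k) = sqSign (2 : F) ^ k := by
    clear hx hchi key hk hv v hk' P hQs hs0
    induction k with
    | zero => simp [sqSign_one]
    | succ k ih => rw [pow_succ, pow_succ, sqSign_mul (pow_ne_zero _ h2) h2, ih]
  rw [CfsgLib.OrthOmega.mem_omega_odd hQ h2 hd, hx, map_list_prod, List.map_map,
    show (⇑(chiPair Q d) ∘ P) = fun _ => (sqSign (2 : F), sqSign (2 : F)) from funext hchi,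
    List.map_const', List.prod_replicate, List.length_finRange, Prod.pow_mk, ← hpow,
    ← sqSign_eq_one_iff]
  simp [Prod.ext_iff]

/-- Isometries squaring to `-1` exist in every space of the right type. -/
theorem exists_sqNeg (h2 : (2 : F) ≠ 0) (hQ : Q.polarBilin.Nondegenerate) (hk : Fintype.card ι = 2 * k)
    (htype : IsPlus (⇑Q) k ↔ IsSquare ((-1 : F) ^ k)) :
    ∃ X : Matrix ι ι F, X * X = -1 ∧ ∀ u, Q (X *ᵥ u) = Q u := by
  classical
  obtain ⟨a₀, c₀, hac⟩ := exists_anisotropic_binary (F := F)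
  set G := circ k fun _ => (1 : F)
  have hG : G.polarBilin.Nondegenerate := wss_nondeg h2 _ (by rintro (i | i) <;> simp)
  have htG := circ_plus_iff h2 (c := fun _ : Fin k => (1 : F)) (fun _ => one_ne_zero)
  obtain ⟨e, he⟩ : QEquiv ⇑G ⇑Q := by
    by_cases h : IsSquare ((-1 : F) ^ k)
    · exact ((qEquiv_standard G hG (by simp [two_mul]) hac).1 (htG.2 h)).symm.trans
        ((qEquiv_standard Q hQ hk hac).1 (htype.2 h))
    · exact ((qEquiv_standard G hG (by simp [two_mul]) hac).2 (mt htG.1 h)).2.symm.trans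
        ((qEquiv_standard Q hQ hk hac).2 (mt htype.1 h)).2
  let J : (Fin k ⊕ Fin k → F) →ₗ[F] (Fin k ⊕ Fin k → F) :=
    { toFun := rot
      map_add' := fun u w => by funext i; rcases i with i | i <;> simp [rot]; ring
      map_smul' := fun t u => by funext i; rcases i with i | i <;> simp [rot] }
  refine ⟨LinearMap.toMatrix' (e.toLinearMap.comp (J.comp e.symm.toLinearMap)), ?_, fun u => ?_⟩
  · refine Matrix.ext_of_mulVec_single fun i => ?_
    rw [← mulVec_mulVec, neg_mulVec, one_mulVec]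
    simp only [LinearMap.toMatrix'_mulVec, LinearMap.comp_apply, LinearEquiv.coe_toLinearMap,
      LinearEquiv.symm_apply_apply]
    rw [show J (J (e.symm (Pi.single i 1))) = -(e.symm (Pi.single i 1)) from
      funext fun j => by rcases j with j | j <;> simp [J, rot], map_neg, LinearEquiv.apply_symm_apply]
  · rw [LinearMap.toMatrix'_mulVec]
    simp only [LinearMap.comp_apply, LinearEquiv.coe_toLinearMap]
    rw [he]
    conv_rhs => rw [← e.apply_symm_apply u, he]
    simp only [G, circ_apply, J, LinearMap.coe_mk, AddHom.coe_mk, rot, Sum.elim_inl, Sum.elim_inr]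
    exact Finset.sum_congr rfl fun i _ => by ring

/-- Invariant non-degenerate subspaces. -/
theorem invariant_type (h2 : (2 : F) ≠ 0) (hQ : Q.polarBilin.Nondegenerate) {X : Matrix ι ι F}
    (hX : X * X = -1) (hXQ : ∀ u, Q (X *ᵥ u) = Q u) {W : Submodule F (ι → F)}
    (hW : Cfsg.Geo.IsNondegenerateOn (polar ⇑Q) W) (hWX : Inv X W) :
    ∃ j, Module.finrank F W = 2 * j ∧ (Cfsg.Geo.IsPlusTypeOn (⇑Q) W ↔ IsSquare ((-1 : F) ^ j)) := by
  classical
  obtain ⟨a, b, Q₁, Q₂, E, hE, rfl, ha, -⟩ := exists_splits hW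
  have hmem : ∀ w, X *ᵥ (summandEquiv E w : ι → F) ∈ summand E := fun w => apply_invariant hWX (summandEquiv E w).2
  let L : (Fin a → F) →ₗ[F] (Fin a → F) :=
    (summandEquiv E).symm.toLinearMap.comp
      (((Matrix.toLin' X).comp ((summand E).subtype.comp (summandEquiv E).toLinearMap)).codRestrict (summand E)
        fun w => by simpa using hmem w)
  have hL : ∀ u, ((summandEquiv E (L u)) : ι → F) = X *ᵥ (summandEquiv E u : ι → F) := fun u => by
    simp [L]
  have hM : ∀ u, LinearMap.toMatrix' L *ᵥ u = L u := fun u => LinearMap.toMatrix'_mulVec L u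
  obtain ⟨j, hj, ht⟩ := even_and_isPlus_iff h2 (hE.nondeg_left hQ) (X := LinearMap.toMatrix' L)
    (Matrix.ext_of_mulVec_single fun i => by
      rw [← mulVec_mulVec, neg_mulVec, one_mulVec, hM, hM]
      apply (summandEquiv E).injective
      apply Subtype.ext
      rw [hL, hL, X_X hX, map_neg]
      rfl)
    (fun u => by rw [hM, ← hE.apply_summand, ← hE.apply_summand, hL, hXQ])
  simp at hj
  refine ⟨j, by omega, ?_⟩
  rw [hE.isPlusTypeOn_iff (k := j) (by simpa using hj), ht]

/-- All even dimensions occur. -/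
theorem exists_invariant (h2 : (2 : F) ≠ 0) (hQ : Q.polarBilin.Nondegenerate) {X : Matrix ι ι F}
    (hX : X * X = -1) (hXQ : ∀ u, Q (X *ᵥ u) = Q u) {j : ℕ} (hj : 2 * j ≤ Fintype.card ι) :
    ∃ W : Submodule F (ι → F), Module.finrank F W = 2 * j ∧ Cfsg.Geo.IsNondegenerateOn (polar ⇑Q) W ∧
      Inv X W := by
  obtain ⟨k, v, hk, hv⟩ := exists_frame h2 hQ hX hXQ
  have hjk : j ≤ k := by omega
  let w : Fin j → ι → F := fun i => v (Fin.castLE hjk i)
  have hw : Fr Q X w := ⟨fun i => hv.aniso _, fun i l h => hv.perp _ _ ((Fin.castLE_injective hjk).ne h),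
    fun i l h => hv.perpX _ _ ((Fin.castLE_injective hjk).ne h)⟩
  refine ⟨LinearMap.range (comb X w), ?_, range_nondeg hX hXQ h2 hw, ?_⟩
  · rw [LinearMap.finrank_range_of_inj (comb_injective hX hXQ h2 hw)]
    simp [two_mul]
  · rintro _ ⟨_, ⟨u, rfl⟩, rfl⟩
    exact ⟨rot u, by rw [Matrix.toLin'_apply, X_comb hX]⟩

/-- When all involutions of the projective group fix a member of a class. -/
theorem projFix_two (h2 : (2 : F) ≠ 0) (hQ : Q.polarBilin.Nondegenerate) (hn : 4 < Fintype.card ι)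
    {W₀ : Submodule F (ι → F)} (hW₀ : Cfsg.Geo.IsNondegenerateOn (polar ⇑Q) W₀)
    (hm0 : 0 < Module.finrank F W₀) (hmn : Module.finrank F W₀ < Fintype.card ι)
    {C : Submodule F (ι → F) → Prop} (hC : ∀ W, C W ↔ InClass (⇑Q) W₀ W) :
    ProjFix 2 (⇑Q) C ↔ ((∃ k, Fintype.card ι = 2 * k ∧ (IsPlus (⇑Q) k ↔ IsSquare ((-1 : F) ^ k)) ∧
        IsSquare ((2 : F) ^ k)) →
      ∃ j, Module.finrank F W₀ = 2 * j ∧ (Cfsg.Geo.IsPlusTypeOn (⇑Q) W₀ ↔ IsSquare ((-1 : F) ^ j))) := by
  have : Nonempty ι := Fintype.card_pos_iff.1 (by omega)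
  constructor
  · rintro h ⟨k, hk, ht, hs⟩
    obtain ⟨X, hX, hXQ⟩ := exists_sqNeg h2 hQ hk ht
    obtain ⟨x, rfl⟩ : ∃ x : GL ι F, (x : Matrix ι ι F) = X :=
      ⟨⟨X, -X, by rw [mul_neg, hX, neg_neg], by rw [neg_mul, hX, neg_neg]⟩, rfl⟩
    let g : O Q := ⟨x, fun u _ => hXQ u⟩
    have hg : g ∈ Cfsg.Omega F ⇑Q := (mem_omega_iff h2 hQ g (fun u => app_apply g u) hX hk).2 hs
    obtain ⟨W, hW, hWi⟩ := h x ⟨g, hg, rfl⟩ ⟨-1, by rw [Units.val_pow_eq_pow_val, pow_two, hX]; simp⟩
      fun z hz => by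
        have hz1 : z * z = 1 := scalar_sq_eq_one hQ (by omega) fun u => by
          have := hXQ u
          rwa [hz, smul_mulVec, one_mulVec] at this
        rw [hz, smul_mul_smul_comm, one_mul, hz1, one_smul] at hX
        have h11 := congrFun (congrFun hX (Classical.arbitrary ι)) (Classical.arbitrary ι)
        simp at h11
        exact h2 (by linear_combination h11)
    have hWc := (hC W).1 hW
    have hnd : Cfsg.Geo.IsNondegenerateOn (polar ⇑Q) W := hWc.1
    obtain ⟨j, hj, htW⟩ := invariant_type h2 hQ hX hXQ hnd hWi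
    obtain ⟨-, e, he⟩ := hWc
    have hdim : Module.finrank F W₀ = 2 * j := by rw [e.finrank_eq, hj]
    refine ⟨j, hdim, ?_⟩
    have := ((inClass_iff_type hQ hW₀ hdim W).1 ((hC W).1 hW)).2.2
    rw [← this, htW]
  · intro h x hx ⟨z, hz⟩ hns
    have hxQ := isometry_of_mem_omegaGL hx
    have hz1 : z * z = 1 := scalar_sq_eq_one hQ (by omega) fun u => by
      have := (pow_mem hxQ 2 : x ^ 2 ∈ Cfsg.isometryGroup F (⇑Q)) u u
      simpa [hz, smul_mulVec] using this
    have hxx : (x : Matrix ι ι F) * x = z • 1 := by rw [← hz, Units.val_pow_eq_pow_val, pow_two]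
    rcases mul_self_eq_one_iff.1 hz1 with rfl | rfl
    · obtain ⟨W, hW, hWi⟩ := invol_fix h2 hQ (by omega) hW₀ hm0 hmn (X := (x : Matrix ι ι F))
        (by rw [hxx, one_smul]) fun u => hxQ u u
      exact ⟨W, (hC W).2 hW, hWi⟩
    · rw [neg_smul, one_smul] at hxx
      have hXQ : ∀ u, Q ((x : Matrix ι ι F) *ᵥ u) = Q u := fun u => hxQ u u
      obtain ⟨k, hk, ht⟩ := even_and_isPlus_iff h2 hQ hxx hXQ
      obtain ⟨g, hg, hgx⟩ := hx
      have hs : IsSquare ((2 : F) ^ k) :=
        (mem_omega_iff h2 hQ g (fun u => by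
          rw [app_apply]
          show ((g.1 : GL ι F) : Matrix ι ι F) *ᵥ u = _
          rw [show (g.1 : GL ι F) = x from hgx]) hxx hk).1 hg
      obtain ⟨j, hj, htW⟩ := h ⟨k, hk, ht, hs⟩
      obtain ⟨W, hWd, hWn, hWi⟩ := exists_invariant h2 hQ hxx hXQ (j := j) (by omega)
      obtain ⟨j', hj', htW'⟩ := invariant_type h2 hQ hxx hXQ hWn hWi
      obtain rfl : j' = j := by omega
      exact ⟨W, (hC W).2 ((inClass_iff_type hQ hW₀ hj W).2 ⟨hWd, hWn, htW'.trans htW.symm⟩), hWi⟩

end CfsgLib.OrthFix57
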