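import Cfsg.Agent.Lib.OrthFix57.CharTwo
import Cfsg.Agent.Lib.OrthFix57.Restrict
import Cfsg.Agent.Lib.OrthFix.Subspaces

/-!
Totally singular subspaces of a non-degenerate subspace: the possible dimensions.
-/

set_option autoImplicit false
set_option linter.unusedSectionVars false

namespace CfsgLib.OrthFix57

open Matrix QuadraticMap CfsgLib.OrthFix CfsgLib.PrimeClasses CfsgLib.QuadType
open Module (finrank)

variable {F : Type*} [Field F] [Fintype F] {ι : Type} [Fintype ι] [DecidableEq ι]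
  {Q : QuadraticForm F (ι → F)}

theorem ts_polar {T : Submodule F (ι → F)} (hT : ∀ t ∈ T, Q t = 0) {u v : ι → F} (hu : u ∈ T) (hv : v ∈ T) :
    polar ⇑Q u v = 0 := by
  simp [QuadraticMap.polar, hT u hu, hT v hv, hT _ (T.add_mem hu hv)]

/-- A totally singular subspace has at most half the dimension. -/
theorem ts_le {U T : Submodule F (ι → F)} (hU : Cfsg.Geo.IsNondegenerateOn (polar ⇑Q) U) (hTU : T ≤ U)
    (hT : ∀ t ∈ T, Q t = 0) : 2 * finrank F T ≤ finrank F U := by
  set T' : Submodule F U := T.comap U.subtype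
  let M : T' →ₗ[F] Module.Dual F U := (Q.polarBilin.compl₁₂ U.subtype U.subtype).comp T'.subtype
  have hM : Function.Injective M := by
    rw [injective_iff_map_eq_zero]
    intro u hu
    by_contra h0
    obtain ⟨-, v, hv, hne⟩ := hU (u : ι → F) u.1.2 fun e => h0 (Subtype.ext (Subtype.ext e))
    exact hne (LinearMap.congr_fun hu ⟨v, hv⟩)
  have hann : LinearMap.range M ≤ T'.dualAnnihilator := by
    rintro _ ⟨u, rfl⟩
    rw [Submodule.mem_dualAnnihilator]
    exact fun v hv => ts_polar hT u.2 hv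
  have h1 := Submodule.finrank_mono hann
  rw [LinearMap.finrank_range_of_inj hM] at h1
  have := Subspace.finrank_add_finrank_dualAnnihilator_eq T'
  rw [(Submodule.comapSubtypeEquivOfLe hTU).finrank_eq] at h1 this
  omega

theorem plus_of_ts {U T : Submodule F (ι → F)} (hTU : T ≤ U) (hT : ∀ t ∈ T, Q t = 0)
    (h : 2 * finrank F T = finrank F U) : Cfsg.Geo.IsPlusTypeOn (⇑Q) U :=
  ⟨T, hTU, hT, h⟩

theorem ts_bot : ∀ t ∈ (⊥ : Submodule F (ι → F)), Q t = 0 := fun t ht => by
  rw [(Submodule.mem_bot F).1 ht, map_zero]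

/-- Totally singular subspaces of every dimension below the index. -/
theorem exists_ts (hQ : Q.polarBilin.Nondegenerate) {U : Submodule F (ι → F)}
    (hU : Cfsg.Geo.IsNondegenerateOn (polar ⇑Q) U) {j : ℕ}
    (h : j = 0 ∨ 2 * j + 2 ≤ finrank F U ∨ (Odd (finrank F U) ∧ 2 * j + 1 ≤ finrank F U) ∨
      (Cfsg.Geo.IsPlusTypeOn (⇑Q) U ∧ 2 * j ≤ finrank F U)) :
    ∃ T ≤ U, (∀ t ∈ T, Q t = 0) ∧ finrank F T = j := by
  rcases eq_or_ne j 0 with rfl | hj
  · exact ⟨⊥, bot_le, ts_bot, finrank_bot F _⟩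
  by_cases hplus : Cfsg.Geo.IsPlusTypeOn (⇑Q) U ∧ 2 * j ≤ finrank F U
  · obtain ⟨⟨S, hSU, hS, hd⟩, hle⟩ := hplus
    obtain ⟨T, hT, hTd⟩ := exists_sub_finrank S (j := j) (by omega)
    exact ⟨T, hT.trans hSU, fun t ht => hS t (hT ht), hTd⟩
  obtain ⟨Q₁, X₁, Φ, hs⟩ := exists_sub hQ (X := (1 : Matrix ι ι F)) hU
    (fun v hv => by obtain ⟨w, hw, rfl⟩ := hv; simpa using hw) (n := finrank F U) rfl
  suffices ∃ S : Submodule F (Fin (finrank F U) → F), (∀ t ∈ S, Q₁ t = 0) ∧ j ≤ finrank F S by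
    obtain ⟨S, hS, hSd⟩ := this
    obtain ⟨T, hT, hTd⟩ := exists_sub_finrank S (j := j) hSd
    exact ⟨T.map Φ, hs.map_le T, fun t ht => hs.map_singular (fun u hu => hS u (hT hu)) t ht,
      by rw [hs.finrank_map, hTd]⟩
  rcases Nat.even_or_odd' (finrank F U) with ⟨k, hk | hk⟩
  · have hj2 : 2 * j + 2 ≤ finrank F U := by
      rcases h with h | h | ⟨ho, -⟩ | h
      · exact absurd h hj
      · exact h
      · rw [Nat.odd_iff] at ho; omega
      · exact absurd h hplus
    rcases classify Q₁ hs.nondeg (k := k) (by rw [Fintype.card_fin, hk]) with ⟨e, he⟩ | ⟨hk1, a, b, -, e, he⟩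
    · obtain ⟨S, hS, hSd⟩ := exists_ts_of_plus e he
      exact ⟨S, hS, by omega⟩
    · let L : (Fin (k - 1) → F) →ₗ[F] ((Fin (k - 1) ⊕ Fin (k - 1)) ⊕ Fin 2 → F) :=
        LinearMap.pi (Sum.elim (Sum.elim (fun i => LinearMap.proj i) fun _ => 0) fun _ => 0)
      have hL : Function.Injective L := fun u v h => funext fun i => by
        simpa [L] using congrFun h (Sum.inl (Sum.inl i))
      refine ⟨LinearMap.range (e.toLinearMap.comp L), ?_, ?_⟩
      · rintro _ ⟨u, rfl⟩
        rw [LinearMap.comp_apply, LinearEquiv.coe_toLinearMap, he]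
        simp [L, Cfsg.quadFormMinus]
      · rw [LinearMap.finrank_range_of_inj (f := e.toLinearMap.comp L) (fun u v h => hL (e.injective h)), Module.finrank_fintype_fun_eq_card,
          Fintype.card_fin]
        omega
  · obtain ⟨-, s, -, e, he⟩ := qEquiv_odd Q₁ hs.nondeg (k := k) (by rw [Fintype.card_fin, hk])
    let L : (Fin k → F) →ₗ[F] (Unit ⊕ (Fin k ⊕ Fin k) → F) :=
      LinearMap.pi (Sum.elim (fun _ => 0) (Sum.elim (fun i => LinearMap.proj i) fun _ => 0))
    have hL : Function.Injective L := fun u v h => funext fun i => by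
      simpa [L] using congrFun h (Sum.inr (Sum.inl i))
    refine ⟨LinearMap.range (e.toLinearMap.comp L), ?_, ?_⟩
    · rintro _ ⟨u, rfl⟩
      rw [LinearMap.comp_apply, LinearEquiv.coe_toLinearMap, he]
      simp [L, Cfsg.quadFormOdd]
    · rw [LinearMap.finrank_range_of_inj (f := e.toLinearMap.comp L) (fun u v h => hL (e.injective h)), Module.finrank_fintype_fun_eq_card,
        Fintype.card_fin]
      rcases h with h | h | ⟨-, h⟩ | h
      · exact absurd h hj
      · omega
      · omega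
      · exact absurd h hplus

end CfsgLib.OrthFix57
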