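import Cfsg.Agent.Lib.OrthFix.Subspaces

/-!
The number of totally singular subspaces of a given dimension is one modulo the characteristic: a `p`-group
of triangular isometries fixes exactly one of them.
-/

set_option autoImplicit false
set_option linter.unusedSectionVars false

namespace CfsgLib.OrthFix57

open Matrix QuadraticMap CfsgLib.PrimeClasses

variable {F : Type*} [Field F] [Fintype F] {ι : Type} [Fintype ι] [DecidableEq ι]

/-- Matrices which differ from one only above the diagonal, for the order given by `lev`. -/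
def Lev (lev : ι → ℕ) (X : Matrix ι ι F) : Prop := ∀ i j, (X - 1) i j ≠ 0 → lev i < lev j

omit [Fintype F] in
theorem lev_mul {lev : ι → ℕ} {X Y : Matrix ι ι F} (hX : Lev lev X) (hY : Lev lev Y) : Lev lev (X * Y) := by
  intro i j h
  have e : X * Y - 1 = (X - 1) + (Y - 1) + (X - 1) * (Y - 1) := by
    simp only [mul_sub, sub_mul, mul_one, one_mul]; abel
  rw [e, Matrix.add_apply, Matrix.add_apply] at h
  by_contra hlt
  have h1 : (X - 1) i j = 0 := by_contra fun hh => hlt (hX i j hh)
  have h2 : (Y - 1) i j = 0 := by_contra fun hh => hlt (hY i j hh)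
  rw [h1, h2, zero_add, zero_add, Matrix.mul_apply] at h
  obtain ⟨k, -, hk⟩ := Finset.exists_ne_zero_of_sum_ne_zero h
  exact hlt ((hX i k (left_ne_zero_of_mul hk)).trans (hY k j (right_ne_zero_of_mul hk)))

/-- Triangular isometries of `f`. -/
def levIso (lev : ι → ℕ) (f : (ι → F) → F) : Subgroup (GL ι F) where
  carrier := {g | Lev lev (g : Matrix ι ι F) ∧ ∀ v, f ((g : Matrix ι ι F) *ᵥ v) = f v}
  one_mem' := ⟨fun i j h => absurd (by simp) h, fun v => by simp⟩
  mul_mem' := fun {a b} ha hb => ⟨by rw [Units.val_mul]; exact lev_mul ha.1 hb.1,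
    fun v => by rw [Units.val_mul, ← mulVec_mulVec, ha.2, hb.2]⟩
  inv_mem' := fun {g} hg => by
    have hpow : ∀ k : ℕ, Lev lev ((g ^ k : GL ι F) : Matrix ι ι F) ∧
        ∀ v, f (((g ^ k : GL ι F) : Matrix ι ι F) *ᵥ v) = f v := by
      intro k
      induction k with
      | zero => exact ⟨fun i j h => absurd (by simp) h, fun v => by simp⟩
      | succ k ih =>
        rw [pow_succ, Units.val_mul]
        exact ⟨lev_mul ih.1 hg.1, fun v => by rw [← mulVec_mulVec, ih.2, hg.2]⟩
    have e : g⁻¹ = g ^ (orderOf g - 1) := inv_eq_of_mul_eq_one_left (by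
      rw [← pow_succ, Nat.sub_add_cancel (orderOf_pos g), pow_orderOf_eq_one])
    rw [e]
    exact hpow _

theorem levIso_isPGroup {p : ℕ} [hp : Fact p.Prime] [CharP F p] (lev : ι → ℕ) (f : (ι → F) → F) [Nonempty ι] :
    IsPGroup p (levIso lev f) := by
  intro g
  obtain ⟨N, hN⟩ : ∃ N, ∀ i, lev i < N := ⟨Finset.univ.sup lev + 1, fun i =>
    Nat.lt_succ_of_le (Finset.le_sup (Finset.mem_univ i))⟩
  refine ⟨N, Subtype.ext (Units.ext ?_)⟩
  set A := ((g : GL ι F) : Matrix ι ι F) - 1 with hA
  have hgap : ∀ k i j, (A ^ k) i j ≠ 0 → lev i + k ≤ lev j := by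
    intro k
    induction k with
    | zero =>
      intro i j h
      rw [pow_zero] at h
      by_cases e : i = j
      · subst e; simp
      · exact absurd (Matrix.one_apply_ne e) h
    | succ k ih =>
      intro i j h
      rw [pow_succ, Matrix.mul_apply] at h
      obtain ⟨l, -, hl⟩ := Finset.exists_ne_zero_of_sum_ne_zero h
      have h1 := ih i l (left_ne_zero_of_mul hl)
      have h2 := g.2.1 l j (right_ne_zero_of_mul hl)
      omega
  have hzero : A ^ p ^ N = 0 := by
    ext i j
    by_contra h
    have h1 := hgap _ i j h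
    have h2 := hN j
    have h3 : N ≤ p ^ N := (Nat.lt_pow_self hp.out.one_lt).le
    omega
  rw [SubgroupClass.coe_pow, Units.val_pow_eq_pow_val, OneMemClass.coe_one, Units.val_one]
  rw [hA, sub_pow_char_pow_of_commute _ _ (Commute.one_right _), one_pow, sub_eq_zero] at hzero
  exact hzero

section

variable {d : ℕ} {κ : Type} [Fintype κ] [DecidableEq κ]

local notation "V" => (Fin d ⊕ Fin d) ⊕ κ → F

variable (g : QuadraticForm F (κ → F))

/-- `y ↦ x`. -/
def topMap (i j : Fin d) (s : F) : V →ₗ[F] V where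
  toFun v := Sum.elim (Sum.elim
    (fun a => v (.inl (.inl a)) + (if a = i then s * v (.inl (.inr j)) else 0) -
      (if a = j then s * v (.inl (.inr i)) else 0))
    fun a => v (.inl (.inr a))) fun z => v (.inr z)
  map_add' u v := by funext a; rcases a with (a | a) | a <;> simp; split_ifs <;> ring
  map_smul' t v := by funext a; rcases a with (a | a) | a <;> simp; split_ifs <;> ring

/-- A Levi transvection. -/
def leviMap (i j : Fin d) (s : F) : V →ₗ[F] V where
  toFun v := Sum.elim (Sum.elim
    (fun a => v (.inl (.inl a)) + (if a = i then s * v (.inl (.inl j)) else 0))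
    fun a => v (.inl (.inr a)) - (if a = j then s * v (.inl (.inr i)) else 0)) fun z => v (.inr z)
  map_add' u v := by funext a; rcases a with (a | a) | a <;> simp <;> split_ifs <;> ring
  map_smul' t v := by funext a; rcases a with (a | a) | a <;> simp <;> split_ifs <;> ring

/-- The transvection through an anisotropic direction. -/
noncomputable def siegMap (j : Fin d) (w : κ → F) : V →ₗ[F] V where
  toFun v := Sum.elim (Sum.elim
    (fun a => v (.inl (.inl a)) +
      (if a = j then -(polar ⇑g (fun z => v (.inr z)) w) - g w * v (.inl (.inr j)) else 0))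
    fun a => v (.inl (.inr a))) fun z => v (.inr z) + v (.inl (.inr j)) * w z
  map_add' u v := by
    funext a
    rcases a with (a | a) | a <;> simp
    · have e : (fun z => u (.inr z) + v (.inr z)) = (fun z => u (.inr z)) + fun z => v (.inr z) := rfl
      rw [e, polar_add_left]
      split_ifs <;> ring
    · ring
  map_smul' t v := by
    funext a
    rcases a with (a | a) | a <;> simp
    · have e : (fun z => t * v (.inr z)) = t • fun z => v (.inr z) := rfl
      rw [e, polar_smul_left, smul_eq_mul]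
      split_ifs <;> ring
    · ring

/-- `Σ xᵢyᵢ + g`. -/
def stdForm (d : ℕ) (g : QuadraticForm F (κ → F)) : (((Fin d ⊕ Fin d) ⊕ κ) → F) → F :=
  qSum (Cfsg.quadFormPlus d F) ⇑g

theorem stdForm_apply (v : V) :
    stdForm d g v = ∑ a, v (.inl (.inl a)) * v (.inl (.inr a)) + g fun z => v (.inr z) := rfl

theorem topMap_iso (i j : Fin d) (s : F) (v : V) : stdForm d g (topMap i j s v) = stdForm d g v := by
  rw [stdForm_apply, stdForm_apply]
  simp [topMap, add_mul, sub_mul, Finset.sum_add_distrib, Finset.sum_sub_distrib]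
  ring

theorem leviMap_iso (i j : Fin d) (hij : i ≠ j) (s : F) (v : V) :
    stdForm d g (leviMap i j s v) = stdForm d g v := by
  rw [stdForm_apply, stdForm_apply]
  simp [leviMap, add_mul, mul_sub, Finset.sum_add_distrib, Finset.sum_sub_distrib, hij, hij.symm]
  ring

theorem siegMap_iso (j : Fin d) (w : κ → F) (v : V) : stdForm d g (siegMap g j w v) = stdForm d g v := by
  rw [stdForm_apply, stdForm_apply]
  simp only [siegMap, LinearMap.coe_mk, AddHom.coe_mk, Sum.elim_inl, Sum.elim_inr, add_mul,
    Finset.sum_add_distrib, ite_mul, zero_mul, Finset.sum_ite_eq', Finset.mem_univ, if_true]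
  rw [show (fun z => v (.inr z) + v (.inl (.inr j)) * w z) =
    (fun z => v (.inr z)) + v (.inl (.inr j)) • w from rfl, QuadraticMap.map_add (f := ⇑g),
    QuadraticMap.map_smul, polar_smul_right, smul_eq_mul, smul_eq_mul]
  ring

/-- The levels. -/
def levOf (d : ℕ) (κ : Type) : (Fin d ⊕ Fin d) ⊕ κ → ℕ :=
  Sum.elim (Sum.elim (fun a => a.val) fun a => 2 * d - a.val) fun _ => d

/-- An isometry with triangular matrix lies in the group. -/
theorem exists_mem {T T' : V →ₗ[F] V} (hTT' : ∀ v, T (T' v) = v) (hT : ∀ v, stdForm d g (T v) = stdForm d g v)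
    (hlev : ∀ a b, T (Pi.single b 1) a - (Pi.single b 1 : V) a ≠ 0 → levOf d κ a < levOf d κ b) :
    ∃ u ∈ levIso (levOf d κ) (stdForm d g), ∀ v, ((u : GL ((Fin d ⊕ Fin d) ⊕ κ) F) :
      Matrix ((Fin d ⊕ Fin d) ⊕ κ) ((Fin d ⊕ Fin d) ⊕ κ) F) *ᵥ v = T v := by
  have h1 : LinearMap.toMatrix' T * LinearMap.toMatrix' T' = 1 := by
    rw [← LinearMap.toMatrix'_comp, show T ∘ₗ T' = LinearMap.id from LinearMap.ext hTT',
      LinearMap.toMatrix'_id]
  refine ⟨⟨LinearMap.toMatrix' T, LinearMap.toMatrix' T', h1, mul_eq_one_comm.1 h1⟩, ⟨fun a b h => ?_, fun v => ?_⟩,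
    fun v => LinearMap.toMatrix'_mulVec _ _⟩
  · refine hlev a b ?_
    rw [Units.val_mk, Matrix.sub_apply, LinearMap.toMatrix'_apply, Matrix.one_apply] at h
    rwa [Pi.single_apply]
  · show stdForm d g (LinearMap.toMatrix' T *ᵥ v) = _
    rw [LinearMap.toMatrix'_mulVec, hT]

theorem top_mem (i j : Fin d) : ∃ u ∈ levIso (levOf d κ) (stdForm d g), ∀ v, ((u : GL ((Fin d ⊕ Fin d) ⊕ κ) F) :
      Matrix ((Fin d ⊕ Fin d) ⊕ κ) ((Fin d ⊕ Fin d) ⊕ κ) F) *ᵥ v = topMap i j 1 v := by
  refine exists_mem g (T' := topMap i j (-1)) (fun v => ?_) (topMap_iso g i j 1) fun a b h => ?_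
  · funext a
    rcases a with (a | a) | a <;> simp [topMap]
    split_ifs <;> ring
  · have := i.2
    have := j.2
    rcases a with (a | a) | a <;> rcases b with (b | b) | b <;>
      simp [topMap, levOf] at h ⊢ <;> omega

theorem levi_mem {i j : Fin d} (hij : i < j) : ∃ u ∈ levIso (levOf d κ) (stdForm d g), ∀ v,
    ((u : GL ((Fin d ⊕ Fin d) ⊕ κ) F) :
      Matrix ((Fin d ⊕ Fin d) ⊕ κ) ((Fin d ⊕ Fin d) ⊕ κ) F) *ᵥ v = leviMap i j 1 v := by
  refine exists_mem g (T' := leviMap i j (-1)) (fun v => ?_) (leviMap_iso g i j hij.ne 1) fun a b h => ?_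
  · funext a
    rcases a with (a | a) | a <;> simp [leviMap]
    · split_ifs with h1 h2 <;> first | ring1 | exact absurd h2 hij.ne'
    · split_ifs with h1 h2 <;> first | ring1 | exact absurd h2 hij.ne
  · have := i.2
    have := j.2
    have hij' : i.val < j.val := hij
    rcases a with (a | a) | a <;> rcases b with (b | b) | b <;>
      simp only [leviMap, levOf, LinearMap.coe_mk, AddHom.coe_mk, Sum.elim_inl, Sum.elim_inr, Pi.single_apply,
        reduceCtorEq, if_false, Sum.inl.injEq, Sum.inr.injEq] at h ⊢ <;>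
      (try split_ifs at h) <;> subst_vars <;> simp_all <;> omega

theorem sieg_mem (j : Fin d) (w : κ → F) : ∃ u ∈ levIso (levOf d κ) (stdForm d g), ∀ v,
    ((u : GL ((Fin d ⊕ Fin d) ⊕ κ) F) :
      Matrix ((Fin d ⊕ Fin d) ⊕ κ) ((Fin d ⊕ Fin d) ⊕ κ) F) *ᵥ v = siegMap g j w v := by
  refine exists_mem g (T' := siegMap g j (-w)) (fun v => ?_) (siegMap_iso g j w) fun a b h => ?_
  · funext a
    rcases a with (a | a) | a <;> simp [siegMap]
    split_ifs with ha
    · rw [show (fun z => v (.inr z) + -(v (.inl (.inr j)) * w z)) =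
        (fun z => v (.inr z)) + (-v (.inl (.inr j))) • w from funext fun z => by simp,
        polar_add_left, polar_smul_left, QuadraticMap.polar_self, nsmul_eq_mul, smul_eq_mul]
      subst ha
      push_cast
      ring
    · ring
  · have := j.2
    rcases a with (a | a) | a <;> rcases b with (b | b) | b <;>
      simp only [siegMap, levOf, LinearMap.coe_mk, AddHom.coe_mk, Sum.elim_inl, Sum.elim_inr, Pi.single_apply,
        reduceCtorEq, if_false, Sum.inl.injEq, Sum.inr.injEq] at h ⊢
    all_goals try omega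
    all_goals try (have := b.2; omega)
    all_goals try (have := a.2; omega)
    all_goals first
      | (simp at h; done)
      | (rw [show (fun _ : κ => (0 : F)) = 0 from rfl, QuadraticMap.polar_zero_left] at h; simp at h)

variable {g}

/-- The standard subspace. -/
def flagSub (F : Type*) [Field F] (d : ℕ) (κ : Type) (m : ℕ) : Submodule F (((Fin d ⊕ Fin d) ⊕ κ) → F) where
  carrier := {v | (∀ a : Fin d, m ≤ a.val → v (.inl (.inl a)) = 0) ∧ (∀ a, v (.inl (.inr a)) = 0) ∧
    ∀ z, v (.inr z) = 0}
  add_mem' := fun {u v} hu hv => ⟨fun a ha => by simp [hu.1 a ha, hv.1 a ha],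
    fun a => by simp [hu.2.1 a, hv.2.1 a], fun z => by simp [hu.2.2 z, hv.2.2 z]⟩
  zero_mem' := ⟨fun _ _ => rfl, fun _ => rfl, fun _ => rfl⟩
  smul_mem' := fun t {u} hu => ⟨fun a ha => by simp [hu.1 a ha], fun a => by simp [hu.2.1 a],
    fun z => by simp [hu.2.2 z]⟩

theorem finrank_flagSub {m : ℕ} (hm : m ≤ d) : Module.finrank F (flagSub F d κ m) = m := by
  let e : flagSub F d κ m ≃ₗ[F] (Fin m → F) :=
    { toFun := fun v a => v.1 (.inl (.inl (Fin.castLE hm a)))
      map_add' := fun _ _ => rfl
      map_smul' := fun _ _ => rfl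
      invFun := fun c => ⟨Sum.elim (Sum.elim (fun a => if h : a.val < m then c ⟨a.val, h⟩ else 0) 0) 0,
        fun a ha => by simp [show ¬ a.val < m by omega], fun _ => rfl, fun _ => rfl⟩
      left_inv := fun v => by
        refine Subtype.ext (funext fun a => ?_)
        rcases a with (a | a) | a
        · by_cases h : a.val < m
          · simp [h]
          · simp [h, v.2.1 a (by omega)]
        · simp [v.2.2.1 a]
        · simp [v.2.2.2 a]
      right_inv := fun c => funext fun a => by simp }
  rw [e.finrank_eq, Module.finrank_fintype_fun_eq_card, Fintype.card_fin]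

theorem finrank_le_of_indep {W : Submodule F V} {N : Type} [Fintype N] {u : N → V} (hu : ∀ a, u a ∈ W)
    (hi : LinearIndependent F u) : Fintype.card N ≤ Module.finrank F W := by
  calc Fintype.card N = _ := (finrank_span_eq_card hi).symm
    _ ≤ _ := Submodule.finrank_mono (Submodule.span_le.2 (by rintro _ ⟨a, rfl⟩; exact hu a))

/-- A fixed subspace lies in the standard maximal one. -/
theorem fixed_no_y (hg : ∀ z, g z = 0 → z = 0) {m : ℕ} (hm : m < d ∨ (m ≤ d ∧ Nonempty κ))
    {W : Submodule F V} (hW : ∀ w ∈ W, stdForm d g w = 0) (hWd : Module.finrank F W = m)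
    (hfix : ∀ u ∈ levIso (levOf d κ) (stdForm d g), ∀ w ∈ W, ((u : GL ((Fin d ⊕ Fin d) ⊕ κ) F) :
      Matrix ((Fin d ⊕ Fin d) ⊕ κ) ((Fin d ⊕ Fin d) ⊕ κ) F) *ᵥ w ∈ W) :
    ∀ w ∈ W, (∀ a, w (.inl (.inr a)) = 0) ∧ ∀ z, w (.inr z) = 0 := by
  intro w hw
  have hy : ∀ a, w (.inl (.inr a)) = 0 := by
    by_contra hno
    push Not at hno
    obtain ⟨j, hj⟩ := hno
    -- the radical gives a hyperplane of the singular part
    let tv : Fin d → V := fun i => topMap i j 1 w - w
    have htv : ∀ i, tv i ∈ W := fun i => by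
      obtain ⟨u, hu, hu'⟩ := top_mem g i j
      exact W.sub_mem (hu' w ▸ hfix u hu w hw) hw
    have htvy : ∀ i a, tv i (.inl (.inr a)) = 0 := fun i a => by simp [tv, topMap]
    have htvz : ∀ i z, tv i (.inr z) = 0 := fun i z => by simp [tv, topMap]
    let J := {i : Fin d // i ≠ j}
    have hJ : Fintype.card J + 1 = d := by
      have h1 : Fintype.card J = d - 1 := by simp [J, Fintype.card_subtype_compl]
      have := j.2
      omega
    have hrow : ∀ (c : J → F) (a : J), (∑ i, c i • tv i.1) (.inl (.inl a.1)) = c a * w (.inl (.inr j)) := by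
      intro c a
      simp [tv, topMap, Finset.sum_apply, a.2, ← Subtype.ext_iff]
    rcases hm with hlt | ⟨hle, ⟨z₀⟩⟩
    · have hi : LinearIndependent F (Option.elim' w fun i : J => tv i.1) := by
        refine Fintype.linearIndependent_iff.2 fun c hc => ?_
        rw [Fintype.sum_option] at hc
        simp only [Option.elim'_none, Option.elim'_some] at hc
        have h0 : c none = 0 := by
          have := congrFun hc (.inl (.inr j))
          simpa [Finset.sum_apply, htvy, hj] using this
        rintro (_ | i)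
        · exact h0
        have := congrFun hc (.inl (.inl i.1))
        rw [h0, zero_smul, zero_add, hrow (fun i => c (some i))] at this
        exact (mul_eq_zero.1 this).resolve_right hj
      have := finrank_le_of_indep (W := W) (fun a => by rcases a with _ | i; exacts [hw, htv i.1]) hi
      rw [Fintype.card_option] at this
      omega
    · obtain ⟨u, hu, hu'⟩ := sieg_mem g j (Pi.single z₀ 1)
      set sv := siegMap g j (Pi.single z₀ 1) w - w
      have hsv : sv ∈ W := W.sub_mem (hu' w ▸ hfix u hu w hw) hw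
      have hsy : ∀ a, sv (.inl (.inr a)) = 0 := fun a => by simp [sv, siegMap]
      have hsz : sv (.inr z₀) = w (.inl (.inr j)) := by simp [sv, siegMap]
      have hi : LinearIndependent F (Option.elim' w (Option.elim' sv fun i : J => tv i.1)) := by
        refine Fintype.linearIndependent_iff.2 fun c hc => ?_
        rw [Fintype.sum_option, Fintype.sum_option] at hc
        simp only [Option.elim'_none, Option.elim'_some] at hc
        have h0 : c none = 0 := by
          have := congrFun hc (.inl (.inr j))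
          simpa [Finset.sum_apply, htvy, hsy, hj] using this
        have h1 : c (some none) = 0 := by
          have := congrFun hc (.inr z₀)
          simpa [Finset.sum_apply, htvz, hsz, h0, hj] using this
        rintro (_ | _ | i)
        · exact h0
        · exact h1
        have := congrFun hc (.inl (.inl i.1))
        rw [h0, h1, zero_smul, zero_smul, zero_add, zero_add, hrow (fun i => c (some (some i)))] at this
        exact (mul_eq_zero.1 this).resolve_right hj
      have := finrank_le_of_indep (W := W)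
        (fun a => by rcases a with _ | _ | i; exacts [hw, hsv, htv i.1]) hi
      rw [Fintype.card_option, Fintype.card_option] at this
      omega
  refine ⟨hy, fun z => congrFun (hg (fun z => w (.inr z)) ?_) z⟩
  have := hW w hw
  rw [stdForm_apply, Finset.sum_eq_zero (fun a _ => by rw [hy a, mul_zero]), zero_add] at this
  exact this

/-- The only fixed subspace. -/
theorem fixed_eq (hg : ∀ z, g z = 0 → z = 0) {m : ℕ} (hm : m < d ∨ (m ≤ d ∧ Nonempty κ))
    {W : Submodule F V} (hW : ∀ w ∈ W, stdForm d g w = 0) (hWd : Module.finrank F W = m)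
    (hfix : ∀ u ∈ levIso (levOf d κ) (stdForm d g), ∀ w ∈ W, ((u : GL ((Fin d ⊕ Fin d) ⊕ κ) F) :
      Matrix ((Fin d ⊕ Fin d) ⊕ κ) ((Fin d ⊕ Fin d) ⊕ κ) F) *ᵥ w ∈ W) :
    W = flagSub F d κ m := by
  classical
  have hmd : m ≤ d := by rcases hm with h | h <;> omega
  have h0 := fixed_no_y hg hm hW hWd hfix
  refine Submodule.eq_of_le_of_finrank_eq (fun w hw => ⟨fun a ha => ?_, (h0 w hw).1, (h0 w hw).2⟩)
    (by rw [hWd, finrank_flagSub hmd])
  by_contra hwa
  -- all smaller unit vectors are in `W`
  have hsingle : ∀ i, i < a → (Pi.single (.inl (.inl i)) 1 : V) ∈ W := fun i hi => by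
    obtain ⟨u, hu, hu'⟩ := levi_mem g hi
    have h1 : leviMap i a 1 w - w ∈ W := W.sub_mem (hu' w ▸ hfix u hu w hw) hw
    have h2 : leviMap i a 1 w - w = w (.inl (.inl a)) • (Pi.single (.inl (.inl i)) 1 : V) := by
      funext b
      rcases b with (b | b) | b <;> simp [leviMap, Pi.single_apply, (h0 w hw).1]
    rw [h2] at h1
    have := W.smul_mem (w (.inl (.inl a)))⁻¹ h1
    rwa [smul_smul, inv_mul_cancel₀ hwa, one_smul] at this
  have hm1 : m + 1 ≤ Module.finrank F W := by
    refine (Fintype.card_fin (m + 1)).symm.trans_le (finrank_le_of_indep (u := Fin.cons w fun i : Fin m =>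
      (Pi.single (.inl (.inl (Fin.castLE hmd i))) 1 : V)) (fun b => by
        refine Fin.cases ?_ (fun i => ?_) b
        · exact hw
        · refine hsingle _ ?_
          have := i.2
          show i.val < a.val
          omega) ?_)
    refine Fintype.linearIndependent_iff.2 fun c hc => ?_
    rw [Fin.sum_univ_succ] at hc
    simp only [Fin.cons_zero, Fin.cons_succ] at hc
    have hc0 : c 0 = 0 := by
      have := congrFun hc (.inl (.inl a))
      simp only [Pi.add_apply, Pi.smul_apply, Finset.sum_apply, smul_eq_mul, Pi.single_apply] at this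
      rw [Finset.sum_eq_zero (fun i _ => by rw [if_neg (fun e => by
        have := i.2
        have h1 := congrArg Fin.val (Sum.inl_injective (Sum.inl_injective e))
        simp at h1
        omega), mul_zero]), add_zero] at this
      exact (mul_eq_zero.1 this).resolve_right hwa
    intro i
    refine Fin.cases hc0 (fun i => ?_) i
    have := congrFun hc (.inl (.inl (Fin.castLE hmd i)))
    simp only [hc0, zero_smul, zero_add, Pi.smul_apply, Finset.sum_apply, smul_eq_mul, Pi.single_apply,
      Sum.inl.injEq, Fin.castLE_inj, mul_ite, mul_one, mul_zero, Pi.zero_apply] at this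
    rwa [Finset.sum_ite_eq, if_pos (Finset.mem_univ _)] at this
  omega

theorem not_dvd_count {p : ℕ} [hp : Fact p.Prime] [CharP F p] (hg : ∀ z, g z = 0 → z = 0) {m : ℕ}
    (hm1 : 1 ≤ m) (hm : m < d ∨ (m ≤ d ∧ Nonempty κ)) :
    ¬ p ∣ Nat.card {W : Submodule F V // Module.finrank F W = m ∧ ∀ w ∈ W, stdForm d g w = 0} := by
  classical
  have hmd : m ≤ d := by rcases hm with h | h <;> omega
  have : Nonempty ((Fin d ⊕ Fin d) ⊕ κ) := ⟨.inl (.inl ⟨0, by omega⟩)⟩
  let X := {W : Submodule F V // Module.finrank F W = m ∧ ∀ w ∈ W, stdForm d g w = 0}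
  let G := levIso (levOf d κ) (stdForm d g)
  let act : MulAction G X :=
    { smul := fun u W => ⟨W.1.map (Matrix.toLin' ((u : GL ((Fin d ⊕ Fin d) ⊕ κ) F) :
          Matrix ((Fin d ⊕ Fin d) ⊕ κ) ((Fin d ⊕ Fin d) ⊕ κ) F)), by
        refine ⟨?_, ?_⟩
        · refine ((Submodule.equivMapOfInjective _ (fun a b h => ?_) W.1).finrank_eq.symm).trans W.2.1
          rw [Matrix.toLin'_apply, Matrix.toLin'_apply] at h
          have h1 := congrArg (((u : GL ((Fin d ⊕ Fin d) ⊕ κ) F)⁻¹ : GL ((Fin d ⊕ Fin d) ⊕ κ) F) :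
            Matrix ((Fin d ⊕ Fin d) ⊕ κ) ((Fin d ⊕ Fin d) ⊕ κ) F).mulVec h
          simpa only [mulVec_mulVec, ← Units.val_mul, inv_mul_cancel, Units.val_one, one_mulVec] using h1
        · rintro _ ⟨w, hw, rfl⟩
          rw [Matrix.toLin'_apply, u.2.2]
          exact W.2.2 w hw⟩
      one_smul := fun W => Subtype.ext (by
        show W.1.map (Matrix.toLin' (1 : Matrix _ _ F)) = W.1
        rw [Matrix.toLin'_one, Submodule.map_id])
      mul_smul := fun u v W => Subtype.ext (by
        show W.1.map (Matrix.toLin' (_ * _)) = (W.1.map _).map _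
        rw [Matrix.toLin'_mul, Submodule.map_comp]) }
  have hflag : Module.finrank F (flagSub F d κ m) = m ∧ ∀ w ∈ flagSub F d κ m, stdForm d g w = 0 :=
    ⟨finrank_flagSub hmd, fun w hw => by
      rw [stdForm_apply, Finset.sum_eq_zero (fun a _ => by rw [hw.2.1 a, mul_zero]), zero_add,
        show (fun z => w (Sum.inr z)) = 0 from funext hw.2.2, map_zero]⟩
  have hfixed : MulAction.fixedPoints G X = {⟨flagSub F d κ m, hflag⟩} := by
    ext W
    refine ⟨fun hW => Subtype.ext (fixed_eq hg hm W.2.2 W.2.1 fun u hu w hw => ?_), ?_⟩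
    · have := congrArg Subtype.val (hW ⟨u, hu⟩)
      rw [← this]
      exact ⟨w, hw, Matrix.toLin'_apply _ _⟩
    · rintro rfl u
      refine Subtype.ext (Submodule.eq_of_le_of_finrank_eq ?_ ?_)
      · rintro _ ⟨w, hw, rfl⟩
        rw [Matrix.toLin'_apply]
        have hzero : ∀ b, (m ≤ levOf d κ b) → w b = 0 := by
          rintro ((b | b) | b) hb
          · exact hw.1 b (by simpa [levOf] using hb)
          · exact hw.2.1 b
          · exact hw.2.2 b
        have key : ∀ a, m ≤ levOf d κ a → (((u : GL ((Fin d ⊕ Fin d) ⊕ κ) F) :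
            Matrix ((Fin d ⊕ Fin d) ⊕ κ) ((Fin d ⊕ Fin d) ⊕ κ) F) *ᵥ w) a = 0 := fun a ha => by
          simp only [mulVec, dotProduct]
          refine Finset.sum_eq_zero fun b _ => ?_
          by_cases hb : m ≤ levOf d κ b
          · rw [hzero b hb, mul_zero]
          · by_contra hne
            have hab : a ≠ b := fun e => hb (e ▸ ha)
            have := u.2.1 a b (by rw [Matrix.sub_apply, Matrix.one_apply_ne hab, sub_zero]; exact left_ne_zero_of_mul hne)
            omega
        exact ⟨fun a ha => key _ (by simpa [levOf] using ha),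
          fun a => key _ (by simp [levOf]; omega), fun z => key _ (by simpa [levOf] using hmd)⟩
      · exact ((u • (⟨flagSub F d κ m, hflag⟩ : X)).2.1).trans hflag.1.symm
  intro hdvd
  have h1 := (levIso_isPGroup (p := p) (levOf d κ) (stdForm d g)).card_modEq_card_fixedPoints (α := X)
  rw [hfixed, Nat.card_coe_set_eq, Set.ncard_singleton] at h1
  have h2 : Nat.card X ≡ 0 [MOD p] := Nat.modEq_zero_iff_dvd.2 hdvd
  exact hp.out.one_lt.ne' (Nat.dvd_one.1 (Nat.modEq_zero_iff_dvd.1 (h1.symm.trans h2)))

/-- Invariance under a change of coordinates. -/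
theorem not_dvd_count_of_equiv {p : ℕ} [hp : Fact p.Prime] [CharP F p] (hg : ∀ z, g z = 0 → z = 0) {m : ℕ}
    (hm1 : 1 ≤ m) (hm : m < d ∨ (m ≤ d ∧ Nonempty κ)) {f : (ι → F) → F}
    (h : QEquiv (stdForm d g) f) :
    ¬ p ∣ Nat.card {W : Submodule F (ι → F) // Module.finrank F W = m ∧ ∀ w ∈ W, f w = 0} := by
  obtain ⟨e, he⟩ := h
  refine (Nat.card_congr ?_) ▸ not_dvd_count (p := p) hg hm1 hm
  refine ((Submodule.orderIsoMapComap e).toEquiv.subtypeEquiv fun W => ?_)
  show _ ↔ Module.finrank F (W.map e.toLinearMap) = m ∧ ∀ w ∈ W.map e.toLinearMap, f w = 0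
  rw [LinearEquiv.finrank_map_eq]
  refine and_congr_right fun _ => ⟨?_, fun hW w hw => ?_⟩
  · rintro hW _ ⟨w, hw, rfl⟩
    rw [LinearEquiv.coe_toLinearMap, he]
    exact hW w hw
  · rw [← he]
    exact hW _ ⟨w, hw, rfl⟩

end

end CfsgLib.OrthFix57
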