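import Cfsg.Agent.Lib.OrthFix57.Unip
import Cfsg.Agent.Lib.OrthFix57.Restrict
import Cfsg.Agent.Lib.OrthFix.Count
import Cfsg.Agent.Lib.SemisimpleClass.Similar

/-!
When every isometry of odd prime order `r ≠ p` fixes a totally singular subspace of dimension `m`:
the criterion on numbers of blocks.
-/

set_option autoImplicit false
set_option linter.unusedSectionVars false

namespace CfsgLib.OrthFix57

open Matrix QuadraticMap CfsgLib.OrthFix CfsgLib.PrimeClasses CfsgLib.QuadType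
open Module (finrank)

variable {F : Type*} [Field F] [Fintype F] {ι κ μ : Type} [Fintype ι] [DecidableEq ι]
  [Fintype κ] [DecidableEq κ] [Fintype μ] [DecidableEq μ]

theorem exists_restrict {Φ : (κ → F) →ₗ[F] (ι → F)} (hi : Function.Injective Φ) {X : Matrix ι ι F}
    (hX : Inv X (LinearMap.range Φ)) : ∃ X₁ : Matrix κ κ F, ∀ v, Φ (X₁ *ᵥ v) = X *ᵥ Φ v := by
  let e := LinearEquiv.ofInjective Φ hi
  let T : (κ → F) →ₗ[F] (κ → F) := e.symm.toLinearMap.comp
    (((Matrix.toLin' X).restrict (p := LinearMap.range Φ) (q := LinearMap.range Φ) fun w hw => by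
      rw [Matrix.toLin'_apply]; exact apply_invariant hX hw).comp e.toLinearMap)
  refine ⟨LinearMap.toMatrix' T, fun v => ?_⟩
  rw [LinearMap.toMatrix'_mulVec]
  have h : ∀ w : LinearMap.range Φ, Φ (e.symm w) = (w : ι → F) := fun w => by
    conv_rhs => rw [← e.apply_symm_apply w]
    rfl
  show Φ (e.symm _) = _
  rw [h]
  exact Matrix.toLin'_apply X (Φ v)

theorem pow_one_of_comm {Φ : (κ → F) →ₗ[F] (ι → F)} (hi : Function.Injective Φ) {X : Matrix ι ι F}
    {X₁ : Matrix κ κ F} (hc : ∀ v, Φ (X₁ *ᵥ v) = X *ᵥ Φ v) {k : ℕ} (hX : X ^ k = 1) : X₁ ^ k = 1 := by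
  have h : ∀ j : ℕ, ∀ v, Φ ((X₁ ^ j) *ᵥ v) = (X ^ j) *ᵥ Φ v := by
    intro j
    induction j with
    | zero => intro v; simp
    | succ j ih => intro v; rw [pow_succ, pow_succ, ← mulVec_mulVec, ih, hc, mulVec_mulVec]
  exact Matrix.ext_of_mulVec_single fun j => hi (by rw [h, hX, one_mulVec, one_mulVec])

section

variable {r : ℕ} [hr : Fact r.Prime] {L : Type*} [Field L] [Algebra F L] {ζ : L}
  (hζ : IsPrimitiveRoot ζ r) {hrK : (r : F) ≠ 0}

/-- The dual tuple. -/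
noncomputable def dual (c : Orbits hrK → ℕ) : Orbits hrK → ℕ := fun ω => c (orb hrK (-1) * ω)

theorem sum_dual (c : Orbits hrK → ℕ) : ∑ ω, dual c ω = ∑ ω, c ω :=
  Equiv.sum_comp (Equiv.mulLeft (orb hrK (-1))) c

include hζ in
/-- Multiplicities add along a decomposition into invariant subspaces. -/
theorem orbitMult_add {Φ₁ : (κ → F) →ₗ[F] (ι → F)} {Φ₂ : (μ → F) →ₗ[F] (ι → F)}
    (h₁ : Function.Injective Φ₁) (h₂ : Function.Injective Φ₂)
    (hc : IsCompl (LinearMap.range Φ₁) (LinearMap.range Φ₂)) {X : Matrix ι ι F} (hX : X ^ r = 1)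
    {X₁ : Matrix κ κ F} {X₂ : Matrix μ μ F} (c₁ : ∀ v, Φ₁ (X₁ *ᵥ v) = X *ᵥ Φ₁ v)
    (c₂ : ∀ v, Φ₂ (X₂ *ᵥ v) = X *ᵥ Φ₂ v) :
    orbitMult hζ hrK X = orbitMult hζ hrK X₁ + orbitMult hζ hrK X₂ := by
  let E : (κ ⊕ μ → F) ≃ₗ[F] (ι → F) := (LinearEquiv.sumArrowLequivProdArrow κ μ F F).trans
    (((LinearEquiv.ofInjective Φ₁ h₁).prodCongr (LinearEquiv.ofInjective Φ₂ h₂)).trans
      (Submodule.prodEquivOfIsCompl _ _ hc))
  have hE : ∀ v, E v = Φ₁ (v ∘ Sum.inl) + Φ₂ (v ∘ Sum.inr) := fun v => rfl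
  obtain ⟨Y, hY, hYc, hYe⟩ := exists_transport hζ hrK E (X := fromBlocks X₁ 0 0 X₂) (by
    rw [fromBlocks_pow, pow_one_of_comm h₁ c₁ hX, pow_one_of_comm h₂ c₂ hX, fromBlocks_one])
  have e : Y = X := Matrix.ext_of_mulVec_single fun j => by
    obtain ⟨v, hv⟩ := E.surjective (Pi.single j 1)
    rw [← hv, hYe, hE, hE, fromBlocks_mulVec, mulVec_add, ← c₁, ← c₂]
    simp
  rw [← e, hYc, orbitMult_fromBlocks]

include hζ in
/-- Multiplicities of an isometry of a hyperbolic space with an invariant maximal singular subspace. -/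
theorem hyperbolic_mult {G : QuadraticForm F (κ → F)} (hG : G.polarBilin.Nondegenerate) {X : Matrix κ κ F}
    (hX : X ^ r = 1) (hXG : ∀ v, G (X *ᵥ v) = G v) {W : Submodule F (κ → F)} {m : ℕ}
    (hWm : finrank F W = m) (hκ : Fintype.card κ = 2 * m) (hW : ∀ w ∈ W, G w = 0) (hWX : Inv X W) :
    ∃ cA : Orbits hrK → ℕ, isz hrK * ∑ ω, cA ω ≤ m ∧ orbitMult hζ hrK X = cA + dual cA := by
  classical
  have hXend : (Matrix.toLin' X : Module.End F (κ → F)) ^ r = 1 := by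
    rw [← Matrix.toLin'_pow, hX, Matrix.toLin'_one]; rfl
  obtain ⟨C, hCX, hWC⟩ := CfsgLib.SemisimpleClass.exists_invariant_compl (Matrix.toLin' X) hrK hXend W
    (fun v hv => by rw [Matrix.toLin'_apply]; exact apply_invariant hWX hv)
  have hCm : finrank F C = m := by
    have := Submodule.finrank_add_eq_of_isCompl hWC
    rw [hWm, Module.finrank_fintype_fun_eq_card, hκ] at this
    omega
  let bW := Module.finBasisOfFinrankEq F W hWm
  let bC := Module.finBasisOfFinrankEq F C hCm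
  let Φ₁ : (Fin m → F) →ₗ[F] (κ → F) := W.subtype.comp bW.equivFun.symm.toLinearMap
  let Φ₂ : (Fin m → F) →ₗ[F] (κ → F) := C.subtype.comp bC.equivFun.symm.toLinearMap
  have h₁ : Function.Injective Φ₁ := Subtype.val_injective.comp bW.equivFun.symm.injective
  have h₂ : Function.Injective Φ₂ := Subtype.val_injective.comp bC.equivFun.symm.injective
  have r₁ : LinearMap.range Φ₁ = W := by
    simp only [Φ₁, LinearMap.range_comp, LinearEquiv.range, Submodule.map_top, Submodule.range_subtype]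
  have r₂ : LinearMap.range Φ₂ = C := by
    simp only [Φ₂, LinearMap.range_comp, LinearEquiv.range, Submodule.map_top, Submodule.range_subtype]
  obtain ⟨X₁, c₁⟩ := exists_restrict h₁ (X := X) (r₁.symm ▸ hWX)
  obtain ⟨X₂, c₂⟩ := exists_restrict h₂ (X := X) (r₂.symm ▸ (by
    rintro _ ⟨v, hv, rfl⟩
    exact hCX v hv))
  set cA := orbitMult hζ hrK X₁
  refine ⟨cA, (weight_orbitMult_le hζ hrK (pow_one_of_comm h₁ c₁ hX)).trans_eq (Fintype.card_fin m), ?_⟩
  rw [orbitMult_add hζ h₁ h₂ (by rw [r₁, r₂]; exact hWC) hX c₁ c₂]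
  congr 1
  -- the pairing between the two halves
  let M : Matrix (Fin m) (Fin m) F := LinearMap.toMatrix₂' F (G.polarBilin.compl₁₂ Φ₁ Φ₂)
  have hM : ∀ u v, u ⬝ᵥ (M *ᵥ v) = polar ⇑G (Φ₁ u) (Φ₂ v) := fun u v => by
    rw [← Matrix.toLinearMap₂'_apply', Matrix.toLinearMap₂'_toMatrix']
    rfl
  have horth : LinearMap.BilinForm.orthogonal G.polarBilin W = W := by
    symm
    refine Submodule.eq_of_le_of_finrank_eq (fun w hw u hu => ?_) ?_
    · show polar ⇑G u w = 0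
      simp [QuadraticMap.polar, hW u hu, hW w hw, hW _ (W.add_mem hu hw)]
    · rw [LinearMap.BilinForm.finrank_orthogonal hG, Module.finrank_fintype_fun_eq_card, hWm, hκ]
      omega
  have hdet : M.det ≠ 0 := by
    intro h0
    obtain ⟨v, hv0, hv⟩ := Matrix.exists_mulVec_eq_zero_iff.2 h0
    refine hv0 (h₂ ?_)
    rw [map_zero]
    refine Submodule.disjoint_def.1 hWC.disjoint _ (horth ▸ fun w hw => ?_) (r₂ ▸ ⟨v, rfl⟩)
    obtain ⟨u, rfl⟩ : w ∈ LinearMap.range Φ₁ := r₁.symm ▸ hw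
    show polar ⇑G (Φ₁ u) (Φ₂ v) = 0
    rw [← hM, hv, dotProduct_zero]
  have hinv : X₁ᵀ * M * X₂ = M := by
    refine Matrix.ext_of_mulVec_single fun j => funext fun i => ?_
    have key : ∀ u v, u ⬝ᵥ ((X₁ᵀ * M * X₂) *ᵥ v) = u ⬝ᵥ (M *ᵥ v) := fun u v => by
      rw [← mulVec_mulVec, ← mulVec_mulVec, dotProduct_mulVec, Matrix.vecMul_transpose, hM, hM, c₁, c₂]
      simp only [QuadraticMap.polar, ← mulVec_add, hXG]
    simpa using key (Pi.single i 1) (Pi.single j 1)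
  obtain ⟨g, hg⟩ : ∃ g : GL (Fin m) F, (g : Matrix (Fin m) (Fin m) F) = M :=
    ⟨(Matrix.isUnit_iff_isUnit_det M).2 (Ne.isUnit hdet) |>.unit, IsUnit.unit_spec _⟩
  have hX₁ := pow_one_of_comm h₁ c₁ hX
  set Xi := X₁ ^ (r - 1) with hXi
  have hXiX : Xi * X₁ = 1 := by rw [hXi, ← pow_succ, Nat.sub_add_cancel hr.out.pos, hX₁]
  have e2 : X₂ = (↑g⁻¹ : Matrix (Fin m) (Fin m) F) * Xiᵀ * ((g⁻¹)⁻¹ : GL (Fin m) F) := by
    have h1 : (g : Matrix (Fin m) (Fin m) F) * X₂ = Xiᵀ * g := by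
      rw [hg]
      conv_rhs => rw [← hinv]
      rw [← Matrix.mul_assoc, ← Matrix.mul_assoc, ← transpose_mul, mul_eq_one_comm.1 hXiX, transpose_one, one_mul]
    rw [inv_inv, Matrix.mul_assoc, ← h1, ← Matrix.mul_assoc, Units.inv_mul, one_mul]
  funext ω
  rw [e2, orbitMult_conj, dual]
  have := orbitMult_inv_transpose hζ hrK hX₁ hXiX (orb hrK (-1) * ω)
  rwa [← mul_assoc, orb_neg_one_sq, one_mul] at this

variable {Q : QuadraticForm F (ι → F)} {m : ℕ} {Q₀ : QuadraticForm F (μ → F)}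
  {E : ((Fin m ⊕ Fin m) ⊕ μ → F) ≃ₗ[F] (ι → F)}

include hζ in
/-- An invariant singular subspace splits the multiplicities. -/
theorem split_of_singular (hE : Splits Q (CfsgLib.Orth.plusQ m F) Q₀ E) (hQ : Q.polarBilin.Nondegenerate)
    {X : Matrix ι ι F} (hX : X ^ r = 1) (hXQ : ∀ v, Q (X *ᵥ v) = Q v) {W : Submodule F (ι → F)}
    (hWm : finrank F W = m) (hW : ∀ w ∈ W, Q w = 0) (hWX : Inv X W) :
    ∃ (cA c₀ : Orbits hrK → ℕ), isz hrK * ∑ ω, cA ω ≤ m ∧ ORealised hζ hrK (⇑Q₀) c₀ ∧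
      orbitMult hζ hrK X = cA + dual cA + c₀ := by
  classical
  obtain ⟨x, rfl⟩ : ∃ x : GL ι F, (x : Matrix ι ι F) = X :=
    ⟨(IsUnit.of_pow_eq_one hX hr.out.ne_zero).unit, IsUnit.unit_spec _⟩
  have hXend : (Matrix.toLin' (x : Matrix ι ι F) : Module.End F (ι → F)) ^ r = 1 := by
    rw [← Matrix.toLin'_pow, hX, Matrix.toLin'_one]; rfl
  obtain ⟨C, hCX, hWC⟩ := CfsgLib.SemisimpleClass.exists_invariant_compl (Matrix.toLin' (x : Matrix ι ι F)) hrK
    hXend W (fun v hv => by rw [Matrix.toLin'_apply]; exact apply_invariant hWX hv)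
  set B := Q.polarBilin
  have hrefl : B.IsRefl := fun u v h => by
    rw [polarBilin_apply_apply] at h ⊢; rw [QuadraticMap.polar_comm]; exact h
  set P := LinearMap.BilinForm.orthogonal B W with hP
  have hWP : W ≤ P := fun w hw u hu => by
    show polar ⇑Q u w = 0
    simp [QuadraticMap.polar, hW u hu, hW w hw, hW _ (W.add_mem hu hw)]
  set U := P ⊓ C with hU
  have hUX : Inv (x : Matrix ι ι F) U := by
    rintro _ ⟨u, hu, rfl⟩
    exact ⟨inv_orthogonal hXQ hWX ⟨u, hu.1, rfl⟩, hCX u hu.2⟩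
  have hsup : W ⊔ U = P := by
    rw [hU, inf_comm, ← sup_inf_assoc_of_le C hWP, hWC.sup_eq_top, top_inf_eq]
  have hUnd : Cfsg.Geo.IsNondegenerateOn (polar ⇑Q) U := fun u hu hu0 => by
    obtain ⟨v, hv, hne⟩ : ∃ v ∈ U, polar ⇑Q u v ≠ 0 := by
      by_contra hno
      push Not at hno
      refine hu0 (Submodule.disjoint_def.1 hWC.disjoint u ?_ hu.2)
      rw [← LinearMap.BilinForm.orthogonal_orthogonal hQ hrefl W]
      intro v hv
      change v ∈ P at hv
      rw [← hsup] at hv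
      obtain ⟨w, hw, y, hy, rfl⟩ := Submodule.mem_sup.1 hv
      show polar ⇑Q (w + y) u = 0
      rw [polar_add_left, show polar ⇑Q w u = 0 from hu.1 w hw, QuadraticMap.polar_comm, hno y hy, add_zero]
    exact ⟨⟨v, hv, by rwa [QuadraticMap.polar_comm]⟩, ⟨v, hv, hne⟩⟩
  obtain ⟨hH, hHd, -⟩ := complement hQ hUnd
  set H := LinearMap.BilinForm.orthogonal B U
  have hHX : Inv (x : Matrix ι ι F) H := inv_orthogonal hXQ hUX
  have hWH : W ≤ H := fun w hw u hu => by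
    show polar ⇑Q u w = 0
    rw [QuadraticMap.polar_comm]
    exact hu.1 w hw
  have hH2 : finrank F H = 2 * m := by
    have h1 := Submodule.finrank_sup_add_finrank_inf_eq W U
    rw [hsup, (hWC.disjoint.mono_right inf_le_right).eq_bot, finrank_bot, hP,
      LinearMap.BilinForm.finrank_orthogonal hQ, Module.finrank_fintype_fun_eq_card, hWm] at h1
    have : m ≤ Fintype.card ι := by
      rw [← hWm, ← Module.finrank_fintype_fun_eq_card (R := F)]; exact Submodule.finrank_le W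
    omega
  have hS := hE.nondegenerateOn hQ
  have hSd : finrank F (summand E) = 2 * m := by rw [finrank_summand]; simp [two_mul]
  obtain ⟨g, hg, hgS⟩ := exists_map_eq hQ ((inClass_iff_type hQ hS hSd H).2 ⟨hH2, hH,
    iff_of_true ⟨W, hWH, hW, by rw [hWm, hH2]⟩ (by
      rw [hE.isPlusTypeOn_iff (k := m) (by simp [two_mul]), CfsgLib.Orth.plusQ_coe]
      exact isPlus_plusForm m)⟩).2
  obtain ⟨hsp, hsum⟩ := hE.map g hg
  rw [hgS] at hsum
  set E' := E.trans g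
  let Φ₁ : (Fin m ⊕ Fin m → F) →ₗ[F] (ι → F) := (summand E').subtype.comp (summandEquiv E').toLinearMap
  have h₁ : Function.Injective Φ₁ := Subtype.val_injective.comp (summandEquiv E').injective
  have r₁ : LinearMap.range Φ₁ = H := by
    simp only [Φ₁, LinearMap.range_comp, LinearEquiv.range, Submodule.map_top, Submodule.range_subtype, hsum]
  have f₁ : ∀ v, Q (Φ₁ v) = CfsgLib.Orth.plusQ m F v := hsp.apply_summand
  let inr' : (μ → F) →ₗ[F] ((Fin m ⊕ Fin m) ⊕ μ → F) :=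
    LinearMap.pi (Sum.elim (fun _ : Fin m ⊕ Fin m => (0 : (μ → F) →ₗ[F] F)) fun k => LinearMap.proj k)
  have hinr : ∀ v, inr' v = Sum.elim (0 : Fin m ⊕ Fin m → F) v := fun v => funext fun k => by rcases k with k | k <;> simp [inr']
  let Φ₂ : (μ → F) →ₗ[F] (ι → F) := E'.toLinearMap.comp inr'
  have hΦ₂ : ∀ v, Φ₂ v = E' (Sum.elim (0 : Fin m ⊕ Fin m → F) v) := fun v => by
    show E' (inr' v) = _; rw [hinr]
  have h₂ : Function.Injective Φ₂ := fun u v h => by
    rw [hΦ₂, hΦ₂] at h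
    funext k
    simpa using congrFun (E'.injective h) (Sum.inr k)
  have f₂ : ∀ v, Q (Φ₂ v) = Q₀ v := fun v => by rw [hΦ₂, hsp]; simp [qSum]
  obtain ⟨hH', hHd', -⟩ := complement hQ hH
  change finrank F H + finrank F (LinearMap.BilinForm.orthogonal B H) = _ at hHd'
  have r₂ : LinearMap.range Φ₂ = LinearMap.BilinForm.orthogonal B H := by
    refine Submodule.eq_of_le_of_finrank_eq ?_ ?_
    · rintro _ ⟨v, rfl⟩ h hh
      obtain ⟨u, rfl⟩ : h ∈ LinearMap.range Φ₁ := r₁.symm ▸ hh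
      show polar ⇑Q _ _ = 0
      rw [hΦ₂, show Φ₁ u = E' (Sum.elim u 0) from summandEquiv_coe E' u, hsp.polar_apply]
      simp [QuadraticMap.polar_zero_left, QuadraticMap.polar_zero_right]
    · rw [LinearMap.finrank_range_of_inj h₂, Module.finrank_fintype_fun_eq_card]
      have := E.finrank_eq
      simp at this
      omega
  obtain ⟨X₁, c₁⟩ := exists_restrict h₁ (X := (x : Matrix ι ι F)) (r₁.symm ▸ hHX)
  obtain ⟨X₂, c₂⟩ := exists_restrict h₂ (X := (x : Matrix ι ι F)) (r₂.symm ▸ inv_orthogonal hXQ hHX)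
  have hWmap : (W.comap Φ₁).map Φ₁ = W := by
    rw [Submodule.map_comap_eq, r₁, inf_eq_right.2 hWH]
  obtain ⟨cA, hA, hcA⟩ := hyperbolic_mult hζ (hrK := hrK) (CfsgLib.Orth.plusQ_nondegenerate m)
    (pow_one_of_comm h₁ c₁ hX) (fun v => by rw [← f₁, c₁, hXQ, f₁]) (W := W.comap Φ₁) (m := m)
    (by rw [(Submodule.equivMapOfInjective Φ₁ h₁ _).finrank_eq, hWmap, hWm]) (by simp [two_mul])
    (fun w hw => by rw [← f₁]; exact hW _ hw) (by
      rintro _ ⟨w, hw, rfl⟩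
      show Φ₁ (Matrix.toLin' X₁ w) ∈ W
      rw [Matrix.toLin'_apply, c₁]
      exact apply_invariant hWX hw)
  refine ⟨cA, _, hA, ⟨X₂, pow_one_of_comm h₂ c₂ hX, fun v => by rw [← f₂, c₂, hXQ, f₂], rfl⟩, ?_⟩
  rw [orbitMult_add hζ h₁ h₂ (by rw [r₁, r₂]; exact isCompl_orthogonal hH) hX c₁ c₂, hcA]

include hζ in
/-- A split tuple fixes a singular subspace. -/
theorem singular_of_split (hgen : Algebra.adjoin F ({ζ} : Set L) = ⊤) (hr2 : r ≠ 2)
    (hE : Splits Q (CfsgLib.Orth.plusQ m F) Q₀ E) (hQ : Q.polarBilin.Nondegenerate) {X : Matrix ι ι F}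
    (hX : X ^ r = 1) (hXQ : ∀ v, Q (X *ᵥ v) = Q v) {cA c₀ : Orbits hrK → ℕ}
    (hA : isz hrK * ∑ ω, cA ω ≤ m) (h₀ : ORealised hζ hrK (⇑Q₀) c₀)
    (hc : orbitMult hζ hrK X = cA + dual cA + c₀) :
    ∃ W : Submodule F (ι → F), finrank F W = m ∧ (∀ w ∈ W, Q w = 0) ∧ Inv X W := by
  classical
  obtain ⟨A, hA', hAc⟩ := exists_GL_realise hζ hrK cA m hA
  obtain ⟨X₀, hX₀, hX₀Q, rfl⟩ := h₀
  set Ai := A ^ (r - 1) with hAi
  have hAiA : Ai * A = 1 := by rw [hAi, ← pow_succ, Nat.sub_add_cancel hr.out.pos, hA']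
  set Z := fromBlocks (fromBlocks A 0 0 Aiᵀ) 0 0 X₀ with hZ
  have hZpow : Z ^ r = 1 := by
    rw [hZ, fromBlocks_pow, fromBlocks_pow, hA', hX₀, ← transpose_pow, hAi, ← pow_mul, mul_comm, pow_mul, hA',
      one_pow, transpose_one, fromBlocks_one, fromBlocks_one]
  obtain ⟨Y, hY, hYc, hYe⟩ := exists_transport hζ hrK E (X := Z) hZpow
  have hYc' : orbitMult hζ hrK Y = orbitMult hζ hrK X := by
    rw [hYc, hZ, orbitMult_fromBlocks, orbitMult_fromBlocks, hc, hAc]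
    congr 2
    funext ω
    have := orbitMult_inv_transpose hζ hrK hA' hAiA (orb hrK (-1) * ω)
    rw [← mul_assoc, orb_neg_one_sq, one_mul, hAc] at this
    exact this
  have hYQ : ∀ w, Q (Y *ᵥ w) = Q w := fun w => by
    obtain ⟨v, rfl⟩ := E.surjective w
    rw [hYe, hE, hE, hZ]
    have key : ∀ x y : Fin m → F, (A *ᵥ x) ⬝ᵥ (Aiᵀ *ᵥ y) = x ⬝ᵥ y := fun x y => by
      rw [Matrix.mulVec_transpose, dotProduct_comm, ← Matrix.dotProduct_mulVec, mulVec_mulVec, hAiA,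
        one_mulVec, dotProduct_comm]
    have e1 : CfsgLib.Orth.plusQ m F (fromBlocks A 0 0 Aiᵀ *ᵥ (v ∘ Sum.inl)) =
        CfsgLib.Orth.plusQ m F (v ∘ Sum.inl) := by
      rw [CfsgLib.Orth.plusQ_coe]
      simp only [Cfsg.quadFormPlus, fromBlocks_mulVec, Sum.elim_inl, Sum.elim_inr, zero_mulVec, add_zero, zero_add]
      exact key _ _
    simp only [qSum]
    rw [fromBlocks_mulVec]
    simp only [Sum.elim_comp_inl, Sum.elim_comp_inr, zero_mulVec, add_zero, zero_add, hX₀Q, e1]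
  obtain ⟨x, rfl⟩ : ∃ x : GL ι F, (x : Matrix ι ι F) = X :=
    ⟨(IsUnit.of_pow_eq_one hX hr.out.ne_zero).unit, IsUnit.unit_spec _⟩
  obtain ⟨y, rfl⟩ : ∃ y : GL ι F, (y : Matrix ι ι F) = Y :=
    ⟨(IsUnit.of_pow_eq_one hY hr.out.ne_zero).unit, IsUnit.unit_spec _⟩
  obtain ⟨g, hg⟩ := exists_conj_of_orbitMult hζ hgen hrK hY hX hYc'
  have hconj := IsomConj.O_isConj_of_similar Q hQ (hr.out.odd_of_ne_two hr2) hrK
    (⟨y, fun u _ => hYQ u⟩ : Cfsg.isometryGroup F ⇑Q) ⟨x, fun u _ => hXQ u⟩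
    (Subtype.ext (Units.ext (by simpa using hY)))
    (isConj_iff.2 ⟨g, mul_inv_eq_iff_eq_mul.2 (Units.ext hg)⟩)
  obtain ⟨T, hT⟩ := isConj_iff.1 hconj
  rw [mul_inv_eq_iff_eq_mul] at hT
  have hT' : ((T : GL ι F) : Matrix ι ι F) * (y : Matrix ι ι F) =
      (x : Matrix ι ι F) * ((T : GL ι F) : Matrix ι ι F) :=
    congrArg (fun z : Cfsg.isometryGroup F ⇑Q => ((z : GL ι F) : Matrix ι ι F)) hT
  let Φ : (Fin m → F) →ₗ[F] (ι → F) := (Matrix.toLin' ((T : GL ι F) : Matrix ι ι F)).comp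
    (E.toLinearMap.comp (LinearMap.pi (Sum.elim (Sum.elim (fun k => LinearMap.proj k) fun _ => 0) fun _ => 0)))
  have hΦ : ∀ u, Φ u = ((T : GL ι F) : Matrix ι ι F) *ᵥ E (Sum.elim (Sum.elim u 0) 0) := fun u => by
    show Matrix.toLin' _ (E _) = _
    rw [Matrix.toLin'_apply]
    congr 2
    funext k
    rcases k with (k | k) | k <;> simp
  have hTQ : ∀ v, Q (((T : GL ι F) : Matrix ι ι F) *ᵥ v) = Q v := fun v => T.2 v v
  have hinj : Function.Injective Φ := fun u v h => by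
    rw [hΦ, hΦ] at h
    have h' := congrArg (((T : GL ι F)⁻¹ : GL ι F) : Matrix ι ι F).mulVec h
    simp only [mulVec_mulVec, ← Units.val_mul, inv_mul_cancel, Units.val_one, one_mulVec] at h'
    funext k
    simpa using congrFun (E.injective h') (Sum.inl (Sum.inl k))
  refine ⟨LinearMap.range Φ, by rw [LinearMap.finrank_range_of_inj hinj, Module.finrank_fintype_fun_eq_card,
    Fintype.card_fin], ?_, ?_⟩
  · rintro _ ⟨u, rfl⟩
    rw [hΦ, hTQ, hE]
    simp [qSum, CfsgLib.Orth.plusQ_coe, Cfsg.quadFormPlus]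
  · rintro _ ⟨_, ⟨u, rfl⟩, rfl⟩
    refine ⟨A *ᵥ u, ?_⟩
    rw [Matrix.toLin'_apply, hΦ, hΦ, mulVec_mulVec, ← hT', ← mulVec_mulVec, hYe, hZ, fromBlocks_mulVec,
      Sum.elim_comp_inl, Sum.elim_comp_inr, fromBlocks_mulVec]
    simp

end

variable {r : ℕ} [hr : Fact r.Prime] {hrK : (r : F) ≠ 0}

theorem exists_sub_sum {α : Type*} [Fintype α] [DecidableEq α] :
    ∀ (a : ℕ) (f : α → ℕ), a ≤ ∑ ω, f ω → ∃ g : α → ℕ, (∀ ω, g ω ≤ f ω) ∧ ∑ ω, g ω = a := by
  intro a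
  induction a with
  | zero => exact fun f _ => ⟨0, fun _ => Nat.zero_le _, by simp⟩
  | succ a ih =>
    intro f hf
    obtain ⟨g, hg, hs⟩ := ih f (by omega)
    obtain ⟨ω, hω⟩ : ∃ ω, g ω < f ω := by
      by_contra hno
      push Not at hno
      have := Finset.sum_le_sum fun ω (_ : ω ∈ Finset.univ) => hno ω
      omega
    refine ⟨g + Pi.single ω 1, fun η => ?_, by simp [Finset.sum_add_distrib, hs]⟩
    by_cases h : η = ω
    · subst h; simp; omega
    · simp [h, hg η]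

variable {Q : QuadraticForm F (ι → F)} {m : ℕ} {Q₀ : QuadraticForm F (μ → F)}
  {E : ((Fin m ⊕ Fin m) ⊕ μ → F) ≃ₗ[F] (ι → F)}

/-- The criterion. -/
theorem ts_fix_iff (hr2 : r ≠ 2) (hrK : (r : F) ≠ 0) (hQ : Q.polarBilin.Nondegenerate)
    (hE : Splits Q (CfsgLib.Orth.plusQ m F) Q₀ E) (hμ : 0 < Fintype.card μ) {P P₀ : Prop}
    (hP : IsPlus (⇑Q) (Fintype.card ι / 2) ↔ P) (hP₀ : IsPlus (⇑Q₀) (Fintype.card μ / 2) ↔ P₀)
    {n n₀ : ℕ} (hn : Fintype.card ι = n) (hn₀ : Fintype.card μ = n₀) :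
    (∀ X : Matrix ι ι F, X ^ r = 1 → X ≠ 1 → (∀ v, Q (X *ᵥ v) = Q v) →
      ∃ W : Submodule F (ι → F), (finrank F W = m ∧ ∀ w ∈ W, Q w = 0) ∧ Inv X W) ↔
    ((Odd (isz hrK) ∧ top n P (isz hrK) ≤ top n₀ P₀ (isz hrK) + m / isz hrK) ∨
     (Even (isz hrK) ∧ (top n P (isz hrK) ≤ top n₀ P₀ (isz hrK) ∨
      ((r - 1) / isz hrK ≤ top n₀ P₀ (isz hrK) ∧
        top n P (isz hrK) ≤ top n₀ P₀ (isz hrK) + 2 * (m / isz hrK))))) := by
  classical
  subst hn hn₀
  rw [← propext hP, ← propext hP₀]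
  obtain ⟨ζ, hζ, hgen⟩ := exists_root hrK
  set i := isz hrK with hidef
  have hi : 0 < i := isz_pos hrK
  have hnd₀ := hE.nondeg_right hQ
  have hι : 0 < Fintype.card ι := by
    have := E.finrank_eq
    simp at this
    omega
  set T := top (Fintype.card μ) (IsPlus (⇑Q₀) (Fintype.card μ / 2)) i
  set N₁ := top (Fintype.card ι) (IsPlus (⇑Q) (Fintype.card ι / 2)) i
  have hreal : ∀ d, ORealised hζ hrK (⇑Q₀) d ↔ ∃ N, IsBlocks hrK d N ∧ N ≤ T := fun d => by
    rw [realised_iff hζ hgen hr2 Q₀ hnd₀]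
    exact exists_congr fun N => and_congr_right fun _ => valid_iff_le_top hi (Or.inl hμ)
  have hmdiv : ∀ A, i * A ≤ m ↔ A ≤ m / i := fun A => by rw [Nat.le_div_iff_mul_le hi, mul_comm]
  -- in terms of tuples
  have key : (∀ X : Matrix ι ι F, X ^ r = 1 → X ≠ 1 → (∀ v, Q (X *ᵥ v) = Q v) →
      ∃ W : Submodule F (ι → F), (finrank F W = m ∧ ∀ w ∈ W, Q w = 0) ∧ Inv X W) ↔
      ∀ D N, IsBlocks hrK D N → N ≤ N₁ → ∃ (cA c₀ : Orbits hrK → ℕ) (N₀ : ℕ),
        ∑ ω, cA ω ≤ m / i ∧ IsBlocks hrK c₀ N₀ ∧ N₀ ≤ T ∧ D = cA + dual cA + c₀ := by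
    constructor
    · intro hall D N hD hN
      rcases Nat.eq_zero_or_pos N with rfl | hpos
      · refine ⟨0, D, 0, by simp, hD, Nat.zero_le _, ?_⟩
        funext ω; simp [dual]
      obtain ⟨X, hX, hXQ, hXc⟩ := (realised_iff hζ hgen hr2 Q hQ D).2
        ⟨N, hD, (valid_iff_le_top hi (Or.inl hι)).2 hN⟩
      have hX1 : X ≠ 1 := fun h => by
        rw [h, orbitMult_one] at hXc
        have h2 := hD.2
        rw [← hXc] at h2
        simp only [Pi.zero_apply, Finset.sum_const_zero, mul_zero] at h2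
        exact absurd h2 (Nat.mul_pos hpos (cc_pos hi)).ne
      obtain ⟨W, ⟨hWd, hW⟩, hWX⟩ := hall X hX hX1 hXQ
      obtain ⟨cA, c₀, hA, h₀, hc⟩ := split_of_singular hζ (hrK := hrK) hE hQ hX hXQ hWd hW hWX
      obtain ⟨N₀, hN₀, hle⟩ := (hreal c₀).1 h₀
      exact ⟨cA, c₀, N₀, (hmdiv _).1 hA, hN₀, hle, hXc ▸ hc⟩
    · intro h X hX _ hXQ
      obtain ⟨N, hN, hv⟩ := (realised_iff hζ hgen hr2 Q hQ (orbitMult hζ hrK X)).1 ⟨X, hX, hXQ, rfl⟩
      obtain ⟨cA, c₀, N₀, hA, hN₀, hle, hc⟩ := h _ N hN ((valid_iff_le_top hi (Or.inl hι)).1 hv)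
      obtain ⟨W, hWd, hW, hWX⟩ := singular_of_split hζ hgen hr2 hE hQ hX hXQ ((hmdiv _).2 hA)
        ((hreal c₀).2 ⟨N₀, hN₀, hle⟩) hc
      exact ⟨W, ⟨hWd, hW⟩, hWX⟩
  rw [key]
  have hsym : ∀ cA : Orbits hrK → ℕ, IsSym (orb hrK (-1)) (cA + dual cA) := fun cA ω => by
    simp only [Pi.add_apply, dual, ← mul_assoc, orb_neg_one_sq, one_mul, add_comm]
  rcases Nat.even_or_odd i with he | ho
  · have h1 : orb hrK (-1) = 1 := (orb_neg_one_eq_one_iff hrK hr2).2 he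
    have hdual : ∀ c : Orbits hrK → ℕ, dual c = c := fun c => funext fun ω => by simp [dual, h1]
    have hblocks : ∀ d : Orbits hrK → ℕ, IsBlocks hrK d (∑ ω, d ω) := fun d =>
      ⟨fun ω => by rw [h1, one_mul], by rw [cc, if_pos he, mul_comm]⟩
    have hsum : ∀ {d : Orbits hrK → ℕ} {N : ℕ}, IsBlocks hrK d N → ∑ ω, d ω = N := fun h =>
      isBlocks_even he h
    have ht : Fintype.card (Orbits hrK) = (r - 1) / i := by
      rw [← card_orbits (K := F) hrK]
      exact (Nat.mul_div_cancel _ hi).symm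
    rw [and_iff_right he, or_iff_right (fun h => Nat.not_odd_iff_even.2 he h.1)]
    constructor
    · intro h
      by_cases hT : N₁ ≤ T
      · exact Or.inl hT
      refine Or.inr ⟨?_, ?_⟩
      · by_contra hlt
        obtain ⟨S, -, hS⟩ := Finset.exists_subset_card_eq (s := (Finset.univ : Finset (Orbits hrK)))
          (n := T + 1) (by rw [Finset.card_univ, ht]; omega)
        set D : Orbits hrK → ℕ := fun ω => if ω ∈ S then 1 else 0
        have hD : ∑ ω, D ω = T + 1 := by simp [D, hS]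
        obtain ⟨cA, c₀, N₀, -, hN₀, hle, hc⟩ := h D _ (hblocks D) (by omega)
        have hA0 : ∀ ω, cA ω = 0 := fun ω => by
          have := congrFun hc ω
          simp only [Pi.add_apply, hdual] at this
          have h2 : D ω ≤ 1 := by simp only [D]; split_ifs <;> omega
          omega
        have := congrArg (fun f : Orbits hrK → ℕ => ∑ ω, f ω) hc
        simp only [Pi.add_apply, hdual, hA0, zero_add, hsum hN₀, hD] at this
        omega
      · obtain ⟨D, hD⟩ := exists_isBlocks (F := F) hr2 (hrK := hrK) N₁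
        obtain ⟨cA, c₀, N₀, hA, hN₀, hle, hc⟩ := h D _ hD le_rfl
        have := congrArg (fun f : Orbits hrK → ℕ => ∑ ω, f ω) hc
        simp only [Pi.add_apply, hdual, Finset.sum_add_distrib, hsum hN₀, hsum hD] at this
        omega
    · intro h D N hD hN
      by_cases hT : N ≤ T
      · exact ⟨0, D, N, by simp, hD, hT, by funext ω; simp [dual]⟩
      obtain ⟨h1', h2'⟩ : (r - 1) / i ≤ T ∧ N₁ ≤ T + 2 * (m / i) := h.resolve_left (by omega)
      have hsplit : N ≤ 2 * (∑ ω, D ω / 2) + (r - 1) / i := by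
        rw [← hsum hD, ← ht, Finset.mul_sum]
        have : ∑ ω, D ω ≤ ∑ ω, (2 * (D ω / 2) + 1) := Finset.sum_le_sum fun ω _ => by omega
        simpa [Finset.sum_add_distrib] using this
      obtain ⟨cA, hcA, hsA⟩ := exists_sub_sum ((N - T + 1) / 2) (fun ω => D ω / 2) (by omega)
      refine ⟨cA, fun ω => D ω - 2 * cA ω, _, by omega, hblocks _, ?_, ?_⟩
      · have e : ∑ ω, (D ω - 2 * cA ω) + 2 * ∑ ω, cA ω = N := by
          rw [← hsum hD, Finset.mul_sum, ← Finset.sum_add_distrib]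
          exact Finset.sum_congr rfl fun ω _ => Nat.sub_add_cancel (by have := hcA ω; omega)
        omega
      · funext ω
        have := hcA ω
        simp only [Pi.add_apply, hdual]
        omega
  · have hne := orb_ne hr2 hrK ho
    have hblocks : ∀ cA : Orbits hrK → ℕ, IsBlocks hrK (cA + dual cA) (∑ ω, cA ω) := fun cA =>
      ⟨hsym cA, by
        simp only [Pi.add_apply, Finset.sum_add_distrib, sum_dual]
        rw [cc_of_odd ho]
        ring⟩
    rw [and_iff_right ho, or_iff_left (fun h => Nat.not_even_iff_odd.2 ho h.1)]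
    constructor
    · intro h
      obtain ⟨D, hD⟩ := exists_isBlocks (F := F) hr2 (hrK := hrK) N₁
      obtain ⟨cA, c₀, N₀, hA, hN₀, hle, hc⟩ := h D _ hD le_rfl
      have := (hc ▸ hD).unique ((hblocks cA).add hN₀)
      omega
    · intro h D N hD hN
      obtain ⟨d₁, d₂, hd₁, hd₂, hd⟩ := exists_split_blocks hr2 (min N (m / i)) (N₂ := N - min N (m / i))
        (d := D) (by rw [Nat.add_sub_cancel' (min_le_left _ _)]; exact hD)
      let e := Fintype.equivFin (Orbits hrK)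
      let cA : Orbits hrK → ℕ := fun ω => if e ω < e (orb hrK (-1) * ω) then d₁ ω else 0
      have hd₁' : cA + dual cA = d₁ := funext fun ω => by
        simp only [Pi.add_apply, dual, cA, ← mul_assoc, orb_neg_one_sq, one_mul, hd₁.1 ω]
        rcases lt_trichotomy (e ω) (e (orb hrK (-1) * ω)) with hlt | heq | hgt
        · rw [if_pos hlt, if_neg hlt.asymm, add_zero]
        · exact absurd (mul_eq_right.1 (e.injective heq).symm) hne
        · rw [if_pos hgt, if_neg hgt.asymm, zero_add]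
      refine ⟨cA, d₂, _, ?_, hd₂, by omega, by rw [hd₁', hd]⟩
      have := (hd₁' ▸ hblocks cA).unique hd₁
      omega

end CfsgLib.OrthFix57
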