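import Cfsg.Agent.Lib.OrthFix.Count

/-!
If the odd prime `r ≠ p` divides the number of totally singular `m`-subspaces then the complement of a
hyperbolic subspace has fewer blocks.
-/

set_option autoImplicit false
set_option linter.unusedSectionVars false

namespace CfsgLib.OrthFix57

open Matrix QuadraticMap CfsgLib.OrthFix CfsgLib.PrimeClasses CfsgLib.QuadType
open Module (finrank)

variable {F : Type*} [Field F] [Fintype F] {ι μ : Type} [Fintype ι] [DecidableEq ι] [Fintype μ] [DecidableEq μ]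
  {Q : QuadraticForm F (ι → F)} {m : ℕ} {Q₀ : QuadraticForm F (μ → F)}
  {E : ((Fin m ⊕ Fin m) ⊕ μ → F) ≃ₗ[F] (ι → F)}

/-- The number of singular subspaces times the isometry group of the complement divides the isometry group. -/
theorem card_ts_mul_dvd (hE : Splits Q (CfsgLib.Orth.plusQ m F) Q₀ E) (hQ : Q.polarBilin.Nondegenerate) :
    Nat.card {W : Submodule F (ι → F) // finrank F W = m ∧ ∀ w ∈ W, Q w = 0} *
      Nat.card (Cfsg.isometryGroup F (⇑Q₀)) ∣ Nat.card (Cfsg.isometryGroup F (⇑Q)) := by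
  classical
  rw [CfsgLib.ClassicalGroups.card_isometryGroup, CfsgLib.ClassicalGroups.card_isometryGroup]
  let G := CfsgLib.ClassicalGroups.isoGroup (⇑Q)
  let act : MulAction G (Submodule F (ι → F)) :=
    { smul := fun g W => W.map g.1.toLinearMap
      one_smul := fun W => by show W.map _ = W; ext v; simp
      mul_smul := fun g h W => by
        show W.map _ = (W.map _).map _
        rw [← Submodule.map_comp]; rfl }
  have hsm : ∀ (g : G) (W : Submodule F (ι → F)), g • W = W.map g.1.toLinearMap := fun _ _ => rfl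
  let Φ : (Fin m → F) →ₗ[F] (ι → F) := E.toLinearMap.comp
    (LinearMap.pi (Sum.elim (Sum.elim (fun k => LinearMap.proj k) fun _ => 0) fun _ => 0))
  have hΦ : ∀ u, Φ u = E (Sum.elim (Sum.elim u 0) 0) := fun u => by
    show E _ = _
    congr 1
    funext k
    rcases k with (k | k) | k <;> simp
  have hi : Function.Injective Φ := fun u v h => by
    rw [hΦ, hΦ] at h
    funext k
    simpa using congrFun (E.injective h) (Sum.inl (Sum.inl k))
  set W₀ := LinearMap.range Φ
  have hW₀d : finrank F W₀ = m := by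
    rw [LinearMap.finrank_range_of_inj hi, Module.finrank_fintype_fun_eq_card, Fintype.card_fin]
  have hW₀ : ∀ w ∈ W₀, Q w = 0 := by
    rintro _ ⟨u, rfl⟩
    rw [hΦ, hE]
    simp [qSum, CfsgLib.Orth.plusQ_coe, Cfsg.quadFormPlus]
  have horb : ∀ W, W ∈ MulAction.orbit G W₀ ↔ (finrank F W = m ∧ ∀ w ∈ W, Q w = 0) := by
    intro W
    constructor
    · rintro ⟨g, rfl⟩
      show finrank F (g • W₀ : Submodule F (ι → F)) = m ∧ _
      rw [hsm]
      refine ⟨by rw [LinearEquiv.finrank_map_eq, hW₀d], ?_⟩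
      rintro _ ⟨w, hw, rfl⟩
      rw [LinearEquiv.coe_toLinearMap, g.2]
      exact hW₀ w hw
    · rintro ⟨hWd, hW⟩
      let e : W₀ ≃ₗ[F] W := LinearEquiv.ofFinrankEq _ _ (hW₀d.trans hWd.symm)
      obtain ⟨g, hg, hgW⟩ := exists_map_eq hQ (W := W₀) (W' := W)
        ⟨e, fun w => (hW _ (e w).2).trans (hW₀ _ w.2).symm⟩
      exact ⟨⟨g, hg⟩, hgW⟩
  have h1 : Nat.card {W : Submodule F (ι → F) // finrank F W = m ∧ ∀ w ∈ W, Q w = 0} =
      (MulAction.stabilizer G W₀).index := by
    rw [MulAction.index_stabilizer, ← Nat.card_coe_set_eq]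
    exact Nat.card_congr (_root_.Equiv.subtypeEquivRight fun W => (horb W).symm)
  rw [h1, ← Subgroup.index_mul_card (MulAction.stabilizer G W₀)]
  refine Nat.mul_dvd_mul_left _ ?_
  let emb : CfsgLib.ClassicalGroups.isoGroup (⇑Q₀) →* G :=
    { toFun := fun h => ⟨E.symm.trans (((LinearEquiv.sumArrowLequivProdArrow (Fin m ⊕ Fin m) μ F F).trans
          (((LinearEquiv.refl F _).prodCongr h.1).trans
            (LinearEquiv.sumArrowLequivProdArrow (Fin m ⊕ Fin m) μ F F).symm)).trans E), fun v => by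
        obtain ⟨u, rfl⟩ := E.surjective v
        simp only [LinearEquiv.trans_apply, LinearEquiv.symm_apply_apply]
        rw [hE, hE]
        show CfsgLib.Orth.plusQ m F _ + Q₀ _ = CfsgLib.Orth.plusQ m F _ + Q₀ _
        rw [← h.2 (u ∘ Sum.inr)]
        rfl⟩
      map_one' := Subtype.ext (LinearEquiv.ext fun v => by
        obtain ⟨u, rfl⟩ := E.surjective v
        show E _ = E u
        congr 1
        funext j
        rcases j with j | j <;> simp)
      map_mul' := fun a b => Subtype.ext (LinearEquiv.ext fun v => by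
        obtain ⟨u, rfl⟩ := E.surjective v
        show E _ = E _
        congr 1
        funext j
        rcases j with j | j <;> simp) }
  have hinj : Function.Injective emb := fun a b h => by
    refine Subtype.ext (LinearEquiv.ext fun w => funext fun j => ?_)
    have h' := LinearEquiv.congr_fun (congrArg Subtype.val h) (E (Sum.elim 0 w))
    simp only [emb, MonoidHom.coe_mk, OneHom.coe_mk, LinearEquiv.trans_apply, LinearEquiv.symm_apply_apply] at h'
    simpa [LinearEquiv.sumArrowLequivProdArrow, Equiv.sumArrowEquivProdArrow, Function.comp_def] using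
      congrFun (E.injective h') (Sum.inr j)
  rw [Nat.card_congr (MonoidHom.ofInjective hinj).toEquiv]
  refine Subgroup.card_dvd_of_le ?_
  rintro _ ⟨h, rfl⟩
  rw [MulAction.mem_stabilizer_iff, hsm]
  refine Submodule.eq_of_le_of_finrank_le ?_ (by rw [LinearEquiv.finrank_map_eq])
  rintro _ ⟨_, ⟨u, rfl⟩, rfl⟩
  refine ⟨u, ?_⟩
  rw [hΦ]
  simp only [emb, MonoidHom.coe_mk, OneHom.coe_mk, LinearEquiv.coe_toLinearMap, LinearEquiv.trans_apply,
    LinearEquiv.symm_apply_apply]
  congr 1
  funext j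
  rcases j with j | j
  · rfl
  · show (0 : F) = h.1 (0 : μ → F) j
    simp

/-- So the complement has fewer blocks. -/
theorem ts_top_ne {r : ℕ} [hr : Fact r.Prime] (hr2 : r ≠ 2) (hrK : (r : F) ≠ 0)
    (hQ : Q.polarBilin.Nondegenerate) (hE : Splits Q (CfsgLib.Orth.plusQ m F) Q₀ E)
    (hμ : 0 < Fintype.card μ) {P P₀ : Prop}
    (hP : IsPlus (⇑Q) (Fintype.card ι / 2) ↔ P) (hP₀ : IsPlus (⇑Q₀) (Fintype.card μ / 2) ↔ P₀)
    {n n₀ : ℕ} (hn : Fintype.card ι = n) (hn₀ : Fintype.card μ = n₀)
    (hdvd : r ∣ Nat.card {W : Submodule F (ι → F) // finrank F W = m ∧ ∀ w ∈ W, Q w = 0}) :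
    top n₀ P₀ (isz hrK) ≠ top n P (isz hrK) := by
  subst hn hn₀
  rw [← propext hP, ← propext hP₀]
  have hι : 0 < Fintype.card ι := by
    have := E.finrank_eq
    simp at this
    omega
  have hne : Nat.card (Cfsg.isometryGroup F (⇑Q)) ≠ 0 := Nat.card_pos.ne'
  have hne0 : Nat.card (Cfsg.isometryGroup F (⇑Q₀)) ≠ 0 := Nat.card_pos.ne'
  obtain ⟨t, ht⟩ := (Nat.mul_dvd_mul_right hdvd _).trans (card_ts_mul_dvd hE hQ)
  have v0 := val_card_isometry hrK hr2 Q₀ (hE.nondeg_right hQ) hμ
  have hv := val_card_isometry hrK hr2 Q hQ hι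
  rw [ht, padicValNat.mul (mul_ne_zero hr.out.ne_zero hne0) (fun e => hne (by rw [ht, e, mul_zero])),
    padicValNat.mul hr.out.ne_zero hne0, padicValNat.self hr.out.one_lt] at hv
  intro h
  rw [← h, ← v0] at hv
  omega

end CfsgLib.OrthFix57
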