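import Cfsg.Agent.Lib.OrthFix.Subspaces
import Cfsg.Agent.Lib.Maximal99.UnipFix

/-!
Unipotent elements of `Ω` in odd characteristic avoiding classes of non-degenerate subspaces.
-/

set_option autoImplicit false
set_option linter.unusedSectionVars false

namespace CfsgLib.OrthFix57

open Matrix QuadraticMap CfsgLib.Orth CfsgLib.OrthFix CfsgLib.PrimeClasses CfsgLib.QuadType CfsgLib.RankProfile
open Module (finrank)

variable {F : Type*} [Field F] [Fintype F] {ι : Type} [Fintype ι] [DecidableEq ι]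
  {Q : QuadraticForm F (ι → F)}

theorem isNQF (hQ : Q.polarBilin.Nondegenerate) : Cfsg.Geo.IsNondegenerateQuadraticForm ⇑Q where
  smul c v := by rw [QuadraticMap.map_smul, smul_eq_mul, pow_two]
  polar_bilinear :=
    ⟨fun _ _ _ => QuadraticMap.polar_add_left Q _ _ _, fun _ _ _ => QuadraticMap.polar_smul_left Q _ _ _,
      fun _ _ _ => QuadraticMap.polar_add_right Q _ _ _, fun _ _ _ => QuadraticMap.polar_smul_right Q _ _ _⟩
  nondegenerate w hw := by
    have h1 : ∃ x, polar ⇑Q w x ≠ 0 := by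
      by_contra hno
      push Not at hno
      exact hw (hQ.1 w hno)
    obtain ⟨x, hx⟩ := h1
    exact ⟨⟨x, by rwa [QuadraticMap.polar_comm]⟩, ⟨x, hx⟩⟩

/-- The orthogonal complement of an invariant non-degenerate subspace. -/
theorem complement (hQ : Q.polarBilin.Nondegenerate) {W : Submodule F (ι → F)}
    (hW : Cfsg.Geo.IsNondegenerateOn (polar ⇑Q) W) :
    Cfsg.Geo.IsNondegenerateOn (polar ⇑Q) (LinearMap.BilinForm.orthogonal Q.polarBilin W) ∧
      finrank F W + finrank F (LinearMap.BilinForm.orthogonal Q.polarBilin W) = Fintype.card ι ∧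
      ∀ a b, finrank F W = 2 * a → finrank F (LinearMap.BilinForm.orthogonal Q.polarBilin W) = 2 * b →
        (IsPlus (⇑Q) (a + b) ↔ (Cfsg.Geo.IsPlusTypeOn (⇑Q) W ↔
          Cfsg.Geo.IsPlusTypeOn (⇑Q) (LinearMap.BilinForm.orthogonal Q.polarBilin W))) := by
  obtain ⟨a, b, Q₁, Q₂, E, hE, hsE, ha, hab⟩ := exists_splits hW
  have hfr := Submodule.finrank_add_eq_of_isCompl (isCompl_orthogonal hW)
  rw [Module.finrank_fintype_fun_eq_card] at hfr
  let E' : (Fin b ⊕ Fin a → F) ≃ₗ[F] (ι → F) := (LinearEquiv.funCongrLeft F F (_root_.Equiv.sumComm _ _)).trans E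
  have hE' : Splits Q Q₂ Q₁ E' := fun v => by
    show Q (E (LinearEquiv.funCongrLeft F F (_root_.Equiv.sumComm _ _) v)) = _
    rw [hE]
    simp [qSum, add_comm]
    rfl
  have hle : summand E' ≤ LinearMap.BilinForm.orthogonal Q.polarBilin W := by
    intro w hw u hu
    rw [← hsE, mem_summand] at hu
    obtain ⟨v, rfl⟩ := E'.surjective w
    rw [mem_summand, E'.symm_apply_apply] at hw
    show polar ⇑Q u (E' v) = 0
    rw [← E.apply_symm_apply u, show E' v = E (LinearEquiv.funCongrLeft F F (_root_.Equiv.sumComm _ _) v) from rfl,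
      hE.polar_apply, hu]
    have : (LinearEquiv.funCongrLeft F F (_root_.Equiv.sumComm (Fin a) (Fin b)) v) ∘ Sum.inl = 0 := by
      funext i; exact congrFun hw i
    rw [this]
    simp [QuadraticMap.polar_zero_left, QuadraticMap.polar_zero_right]
  have heq : summand E' = LinearMap.BilinForm.orthogonal Q.polarBilin W := Submodule.eq_of_le_of_finrank_eq hle (by
    rw [finrank_summand, Fintype.card_fin]
    omega)
  have hb'' := finrank_summand E'
  rw [heq, Fintype.card_fin] at hb''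
  refine ⟨heq ▸ hE'.nondegenerateOn hQ, hfr, fun a' b' ha' hb' => ?_⟩
  rw [← heq, ← hsE, hE.isPlusTypeOn_iff (k := a') (by rw [Fintype.card_fin]; omega),
    hE'.isPlusTypeOn_iff (k := b') (by rw [Fintype.card_fin]; omega),
    hE.isPlus_iff hQ (a := a') (b := b') (by rw [Fintype.card_fin]; omega) (by rw [Fintype.card_fin]; omega)]

theorem inv_orthogonal {x : GL ι F} (hx : ∀ v, Q ((x : Matrix ι ι F) *ᵥ v) = Q v) {W : Submodule F (ι → F)}
    (hW : Inv (x : Matrix ι ι F) W) :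
    Inv (x : Matrix ι ι F) (LinearMap.BilinForm.orthogonal Q.polarBilin W) := by
  rintro _ ⟨u, hu, rfl⟩ w hw
  have heq : W.map (Matrix.toLin' (x : Matrix ι ι F)) = W := by
    refine Submodule.eq_of_le_of_finrank_eq hW ?_
    exact (Submodule.equivMapOfInjective _ (fun a b h => by
      have h' : (x : Matrix ι ι F) *ᵥ a = (x : Matrix ι ι F) *ᵥ b := by simpa using h
      have := congrArg (((x⁻¹ : GL ι F) : Matrix ι ι F) *ᵥ ·) h'
      simpa only [mulVec_mulVec, ← Units.val_mul, inv_mul_cancel, Units.val_one, one_mulVec] using this) W).finrank_eq.symm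
  rw [← heq] at hw
  obtain ⟨w₀, hw₀, rfl⟩ := hw
  show polar ⇑Q (Matrix.toLin' (x : Matrix ι ι F) w₀) (Matrix.toLin' (x : Matrix ι ι F) u) = 0
  rw [Matrix.toLin'_apply, Matrix.toLin'_apply]
  simp only [QuadraticMap.polar, ← mulVec_add, hx]
  exact hu w₀ hw₀

/-- The nilpotent part. -/
noncomputable def nil (x : GL ι F) : Module.End F (ι → F) := Matrix.toLin' ((x : Matrix ι ι F) - 1)

theorem nil_apply (x : GL ι F) (v : ι → F) : nil x v = (x : Matrix ι ι F) *ᵥ v - v := by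
  simp [nil]

theorem nil_le {x : GL ι F} {W : Submodule F (ι → F)} (hW : Inv (x : Matrix ι ι F) W) : W.map (nil x) ≤ W := by
  rintro _ ⟨v, hv, rfl⟩
  rw [nil_apply]
  exact W.sub_mem (apply_invariant hW hv) hv

variable {p : ℕ} [hp' : Fact p.Prime] [CharP F p]

theorem exists_elt (hp : p ≠ 2) (hQ : Q.polarBilin.Nondegenerate)
    {μ : Multiset ℕ} (hμ : ∀ a ∈ μ, 0 < a ∧ a ≤ p) (hμe : ∀ e, Even e → Even (μ.count e))
    (hμo : ∃ a ∈ μ, Odd a) (hsum : μ.sum = Fintype.card ι) (hne : ∃ a ∈ μ, a ≠ 1) :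
    ∃ x : GL ι F, x ∈ Cfsg.Geo.omegaGL ⇑Q ∧ x ^ p = 1 ∧ (∀ v, Q ((x : Matrix ι ι F) *ᵥ v) = Q v) ∧
      (∀ z : F, (x : Matrix ι ι F) ≠ z • (1 : Matrix ι ι F)) ∧
      (∀ k, imDim (nil x) ⊤ k = partProfile μ k) ∧
      ∀ W : Submodule F (ι → F), Cfsg.Geo.IsNondegenerateOn (polar ⇑Q) W → Inv (x : Matrix ι ι F) W →
        ∃ ν : Multiset ℕ, ν ≤ μ ∧ ν.sum = finrank F ↥W ∧ (∀ e : ℕ, Even e → Even (ν.count e)) ∧
          (∀ k, partProfile ν k = imDim (nil x) W k) := by
  obtain ⟨x, hx, hxp, hprof⟩ := CfsgLib.OrthUnipotent.exists_omega_unipotent hp (isNQF hQ)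
    (fun a ha => (hμ a ha).2) hμe hμo hsum
  have hxi : x ∈ Cfsg.isometryGroup F ⇑Q := isometry_of_mem_omegaGL hx
  refine ⟨x, hx, hxp, fun v => hxi v v, ?_, hprof, fun W hW hWx =>
    CfsgLib.OrthUnipotent.exists_even_sub_partition hp (isNQF hQ) hxi hxp (fun a ha => (hμ a ha).1) hprof hW hWx⟩
  intro z hz
  obtain ⟨a, ha, ha1⟩ := hne
  have hz1 : z = 1 := by
    have : Nonempty ι := Fintype.card_pos_iff.1 (by
      have := Multiset.le_sum_of_mem ha
      have := (hμ a ha).1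
      omega)
    have h1 := congrArg (fun M : Matrix ι ι F => M ^ p) hz
    simp only [← Units.val_pow_eq_pow_val, hxp, Units.val_one, smul_pow, one_pow] at h1
    obtain ⟨i⟩ := this
    have h2 := congrFun (congrFun h1 i) i
    simp only [Matrix.one_apply_eq, Matrix.smul_apply, smul_eq_mul, mul_one] at h2
    exact frobenius_inj F p (by rw [frobenius_def, frobenius_def, ← h2, one_pow])
  have h1 := hprof 1
  rw [hz, hz1, one_smul, sub_self, map_zero, imDim_top, pow_one, LinearMap.range_zero, finrank_bot] at h1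
  have := Multiset.le_sum_of_mem (Multiset.mem_map_of_mem (fun c : ℕ => c - 1) ha)
  have := (hμ a ha).1
  simp only [partProfile] at h1
  omega

theorem sub_cases {a b c : ℕ} {ν : Multiset ℕ} (h : ν ≤ a ::ₘ b ::ₘ Multiset.replicate c 2) :
    ∃ j ≤ c, ν = Multiset.replicate j 2 ∨ ν = a ::ₘ Multiset.replicate j 2 ∨
      ν = b ::ₘ Multiset.replicate j 2 ∨ ν = a ::ₘ b ::ₘ Multiset.replicate j 2 := by
  have step : ∀ {e : ℕ} {τ : Multiset ℕ}, τ ≤ e ::ₘ Multiset.replicate c 2 →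
      ∃ j ≤ c, τ = Multiset.replicate j 2 ∨ τ = e ::ₘ Multiset.replicate j 2 := by
    intro e τ hτ
    by_cases hm : e ∈ τ
    · obtain ⟨ρ, rfl⟩ := Multiset.exists_cons_of_mem hm
      obtain ⟨j, hj, rfl⟩ := Multiset.le_replicate_iff.1 ((Multiset.cons_le_cons_iff e).1 hτ)
      exact ⟨j, hj, Or.inr rfl⟩
    · obtain ⟨j, hj, rfl⟩ := Multiset.le_replicate_iff.1 ((Multiset.le_cons_of_notMem hm).1 hτ)
      exact ⟨j, hj, Or.inl rfl⟩
  by_cases hm : a ∈ ν
  · obtain ⟨ρ, rfl⟩ := Multiset.exists_cons_of_mem hm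
    obtain ⟨j, hj, rfl | rfl⟩ := step ((Multiset.cons_le_cons_iff a).1 h)
    · exact ⟨j, hj, Or.inr (Or.inl rfl)⟩
    · exact ⟨j, hj, Or.inr (Or.inr (Or.inr rfl))⟩
  · obtain ⟨j, hj, rfl | rfl⟩ := step ((Multiset.le_cons_of_notMem hm).1 h)
    · exact ⟨j, hj, Or.inl rfl⟩
    · exact ⟨j, hj, Or.inr (Or.inr (Or.inl rfl))⟩

theorem two_count_even {c : ℕ} (hc : Even c) {a b : ℕ} (ha : Odd a) (hb : Odd b) (e : ℕ) (he : Even e) :
    Even ((a ::ₘ b ::ₘ Multiset.replicate c 2).count e) := by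
  rw [Multiset.count_cons_of_ne (by rintro rfl; exact Nat.not_even_iff_odd.2 ha he),
    Multiset.count_cons_of_ne (by rintro rfl; exact Nat.not_even_iff_odd.2 hb he), Multiset.count_replicate]
  split
  · exact hc
  · exact Even.zero

theorem even_of_count {j a b : ℕ} (ha : a ≠ 2) (hb : b ≠ 2) {ν : Multiset ℕ}
    (h : ν = Multiset.replicate j 2 ∨ ν = a ::ₘ Multiset.replicate j 2 ∨
      ν = b ::ₘ Multiset.replicate j 2 ∨ ν = a ::ₘ b ::ₘ Multiset.replicate j 2)
    (he : ∀ e : ℕ, Even e → Even (ν.count e)) : Even j := by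
  have h2 := he 2 even_two
  rcases h with rfl | rfl | rfl | rfl <;>
    simpa [Multiset.count_cons, Multiset.count_replicate, ha.symm, hb.symm] using h2

/-- A space with all parts two is of plus type. -/
theorem plus_of_twos (hp : p ≠ 2) (hQ : Q.polarBilin.Nondegenerate) {x : GL ι F}
    (hxQ : ∀ v, Q ((x : Matrix ι ι F) *ᵥ v) = Q v) {W : Submodule F (ι → F)} (hWx : Inv (x : Matrix ι ι F) W)
    {j : ℕ} (hdim : (Multiset.replicate j 2).sum = finrank F W)
    (hprof : ∀ k, partProfile (Multiset.replicate j 2) k = imDim (nil x) W k) :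
    Cfsg.Geo.IsPlusTypeOn (⇑Q) W := by
  refine CfsgLib.OrthUnipotent.isPlusTypeOn_of_square_zero hp (isNQF hQ) (fun v _ => hxQ v) hWx ?_ ?_
  · exact (hprof 2).symm.trans (partProfile_eq_zero fun a ha => by rw [Multiset.eq_of_mem_replicate ha])
  · rw [show imDim (Matrix.toLin' ((x : Matrix ι ι F) - 1)) W 1 = _ from (hprof 1).symm, ← hdim]
    simp [partProfile, Nat.mul_comm]

/-- In a space of plus type some element of order `p` fixes no subspace of minus type. -/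
theorem exists_plus_only (hp : p ≠ 2) (hQ : Q.polarBilin.Nondegenerate) {d : ℕ} (hd : 3 ≤ d)
    (hn : Fintype.card ι = 2 * d) (hplus : IsPlus (⇑Q) d) :
    ∃ x : GL ι F, x ∈ Cfsg.Geo.omegaGL ⇑Q ∧ x ^ p = 1 ∧ (∀ z : F, (x : Matrix ι ι F) ≠ z • 1) ∧
      ∀ W : Submodule F (ι → F), Cfsg.Geo.IsNondegenerateOn (polar ⇑Q) W → Inv (x : Matrix ι ι F) W →
        ∀ j, finrank F W = 2 * j → Cfsg.Geo.IsPlusTypeOn (⇑Q) W := by
  have hp3 : 3 ≤ p := by have := hp'.out.two_le; omega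
  obtain ⟨a, b, c, ha, hb, hab, hc, hs, hlo⟩ : ∃ a b c : ℕ, (a = 1) ∧ (b = 1 ∨ b = 3) ∧ (b = 1 ↔ Odd d) ∧
      Even c ∧ a + b + 2 * c = 2 * d ∧ 1 ≤ c := by
    rcases Nat.even_or_odd d with hd' | hd'
    · obtain ⟨e, rfl⟩ := hd'
      exact ⟨1, 3, e + e - 2, rfl, Or.inr rfl, by simp, ⟨e - 1, by omega⟩, by omega, by omega⟩
    · obtain ⟨e, rfl⟩ := hd'
      exact ⟨1, 1, 2 * e, rfl, Or.inl rfl, by simp, ⟨e, by omega⟩, by omega, by omega⟩
  subst ha
  obtain ⟨x, hx, hxp, hxQ, hns, hprof, hsub⟩ := exists_elt (μ := 1 ::ₘ b ::ₘ Multiset.replicate c 2) hp hQ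
    (by
      intro e he
      rcases Multiset.mem_cons.1 he with rfl | he
      · omega
      rcases Multiset.mem_cons.1 he with rfl | he
      · omega
      · rw [Multiset.eq_of_mem_replicate he]; omega)
    (fun e he => two_count_even hc odd_one (by rcases hb with rfl | rfl <;> decide) e he)
    ⟨1, Multiset.mem_cons_self _ _, odd_one⟩
    (by simp only [Multiset.sum_cons, Multiset.sum_replicate, smul_eq_mul]; omega)
    ⟨2, Multiset.mem_cons_of_mem (Multiset.mem_cons_of_mem (Multiset.mem_replicate.2 ⟨by omega, rfl⟩)), by omega⟩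
  refine ⟨x, hx, hxp, hns, fun W hW hWx j hj => ?_⟩
  obtain ⟨hW', hdim, htype⟩ := complement hQ hW
  set W' := LinearMap.BilinForm.orthogonal Q.polarBilin W
  have hW'x := inv_orthogonal hxQ hWx
  obtain ⟨ν, hνle, hνs, hνe, hνp⟩ := hsub W hW hWx
  obtain ⟨ν', hν'le, hν's, hν'e, hν'p⟩ := hsub W' hW' hW'x
  obtain ⟨i, -, hν⟩ := sub_cases hνle
  obtain ⟨i', -, hν'⟩ := sub_cases hν'le
  clear hνle hν'le
  have hi := even_of_count (by omega) (by omega) hν hνe
  have hi' := even_of_count (by omega) (by omega) hν' hν'e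
  have hadd := imDim_add (nil x) (nil_le hWx) (nil_le hW'x) (isCompl_orthogonal hW).disjoint 2
  rw [(isCompl_orthogonal hW).sup_eq_top, hprof, ← hνp, ← hν'p] at hadd
  obtain ⟨e, rfl⟩ := hi
  obtain ⟨e', rfl⟩ := hi'
  obtain ⟨ce, rfl⟩ := hc
  rcases hν with rfl | rfl | rfl | rfl
  · exact plus_of_twos hp hQ hxQ hWx hνs hνp
  all_goals rcases hν' with rfl | rfl | rfl | rfl
  all_goals simp only [partProfile, Multiset.map_cons, Multiset.map_replicate, Multiset.sum_cons,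
    Multiset.sum_replicate, smul_eq_mul] at hνs hν's hadd
  all_goals try omega
  all_goals
    obtain ⟨b', hb'⟩ : ∃ b', finrank F W' = 2 * b' := ⟨d - j, by omega⟩
    have h := htype j b' hj hb'
    rw [show j + b' = d by omega] at h
    exact (h.1 hplus).2 (plus_of_twos hp hQ hxQ hW'x
      (by simp only [Multiset.sum_replicate, smul_eq_mul]; omega) hν'p)

/-- Isometric invariant complements give isometric subspaces. -/
theorem isometric_of_orthogonal (hQ : Q.polarBilin.Nondegenerate) {W₁ W₂ : Submodule F (ι → F)}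
    (h : Cfsg.Geo.AreIsometricFor (⇑Q) W₁ W₂) :
    Cfsg.Geo.AreIsometricFor (⇑Q) (LinearMap.BilinForm.orthogonal Q.polarBilin W₁)
      (LinearMap.BilinForm.orthogonal Q.polarBilin W₂) := by
  obtain ⟨g, hg, hgW⟩ := exists_map_eq hQ h
  have hgp : ∀ u v, polar ⇑Q (g u) (g v) = polar ⇑Q u v := fun u v => by
    simp only [QuadraticMap.polar, ← map_add, hg]
  refine ⟨g.ofSubmodules _ _ ?_, fun w => hg w⟩
  ext w
  obtain ⟨u, rfl⟩ := g.surjective w
  rw [Submodule.mem_map_equiv, LinearEquiv.symm_apply_apply, ← hgW]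
  constructor
  · rintro hu _ ⟨v, hv, rfl⟩
    show polar ⇑Q (g v) (g u) = 0
    rw [hgp]
    exact hu v hv
  · intro hu v hv
    have := hu (g v) ⟨v, hv, rfl⟩
    rwa [polarBilin_apply_apply, hgp] at this

theorem orthogonal_twice (hQ : Q.polarBilin.Nondegenerate) (W : Submodule F (ι → F)) :
    LinearMap.BilinForm.orthogonal Q.polarBilin (LinearMap.BilinForm.orthogonal Q.polarBilin W) = W :=
  LinearMap.BilinForm.orthogonal_orthogonal hQ
    (fun u v h => by show polar ⇑Q v u = 0; rw [QuadraticMap.polar_comm]; exact h) W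

/-- A space with parts `1, 2, …, 2` is a fixed anisotropic line and a space of plus type. -/
theorem one_twos_struct (hp : p ≠ 2) (hQ : Q.polarBilin.Nondegenerate) {x : GL ι F}
    (hxQ : ∀ v, Q ((x : Matrix ι ι F) *ᵥ v) = Q v)
    {U : Submodule F (ι → F)} (hU : Cfsg.Geo.IsNondegenerateOn (polar ⇑Q) U) (hUx : Inv (x : Matrix ι ι F) U)
    {a : ℕ} (hdim : finrank F U = 2 * a + 1) (h1 : imDim (nil x) U 1 = a) (h2 : imDim (nil x) U 2 = 0) :
    ∃ v ∈ U, Q v ≠ 0 ∧ nil x v = 0 ∧ ∃ U₀ : Submodule F (ι → F), U₀ ≤ U ∧ finrank F U₀ = 2 * a ∧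
      Cfsg.Geo.IsNondegenerateOn (polar ⇑Q) U₀ ∧ Cfsg.Geo.IsPlusTypeOn (⇑Q) U₀ ∧
      (∀ u ∈ U₀, polar ⇑Q u v = 0) ∧ ∀ w ∈ U, w - (polar ⇑Q w v / (2 * Q v)) • v ∈ U₀ := by
  have h2F : (2 : F) ≠ 0 := fun h => hp
    ((Nat.prime_dvd_prime_iff_eq hp'.out Nat.prime_two).1 ((CharP.cast_eq_zero_iff F p 2).1 (by exact_mod_cast h)))
  obtain ⟨v, hvU, hv0, hQv⟩ : ∃ v ∈ U, nil x v = 0 ∧ Q v ≠ 0 := by
    by_contra hno
    simp only [not_exists, not_and, not_not] at hno
    obtain ⟨ka, kb, Q₁, Q₂, E, hE, rfl, hka, -⟩ := exists_splits hU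
    have hker := imDim_succ_add (nil x) (summand E) 0
    rw [imDim_zero, hdim, Nat.zero_add, h1, pow_zero, show (1 : Module.End F (ι → F)) = LinearMap.id from rfl,
      Submodule.map_id] at hker
    let K : Submodule F (Fin ka → F) :=
      (LinearMap.ker (nil x)).comap ((summand E).subtype.comp (summandEquiv E).toLinearMap)
    have hK : finrank F K = finrank F (summand E ⊓ LinearMap.ker (nil x) : Submodule F (ι → F)) := by
      rw [show summand E ⊓ LinearMap.ker (nil x) = K.map ((summand E).subtype.comp (summandEquiv E).toLinearMap)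
        from ?_]
      · exact (Submodule.equivMapOfInjective _ (fun u w h => (summandEquiv E).injective (Subtype.ext h)) K).finrank_eq
      · rw [Submodule.map_comap_eq, LinearMap.range_comp, LinearEquiv.range, Submodule.map_top,
          Submodule.range_subtype]
    have hts := CfsgLib.Orth.two_finrank_le (Q := Q₁) (hE.nondeg_left hQ) (W := K) fun u hu => by
      have := hno _ (summandEquiv E u).2 hu
      rwa [hE.apply_summand] at this
    rw [Fintype.card_fin] at hts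
    omega
  have hxv : (x : Matrix ι ι F) *ᵥ v = v := sub_eq_zero.1 (by rw [← nil_apply]; exact hv0)
  let U₀ : Submodule F (ι → F) := U ⊓ LinearMap.ker (Q.polarBilin v)
  have hmem : ∀ {u}, u ∈ U₀ ↔ u ∈ U ∧ polar ⇑Q v u = 0 := Iff.rfl
  have hdec : ∀ w ∈ U, w - (polar ⇑Q w v / (2 * Q v)) • v ∈ U₀ := fun w hw =>
    hmem.2 ⟨U.sub_mem hw (U.smul_mem _ hvU), by
      rw [polar_sub_right, polar_smul_right, polar_self', smul_eq_mul,
        div_mul_cancel₀ _ (mul_ne_zero h2F hQv), QuadraticMap.polar_comm, sub_self]⟩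
  have hvnot : v ∉ U₀ := fun h => by
    have := (hmem.1 h).2
    rw [polar_self'] at this
    exact mul_ne_zero h2F hQv this
  have hU₀x : Inv (x : Matrix ι ι F) U₀ := by
    rintro _ ⟨u, hu, rfl⟩
    refine hmem.2 ⟨by rw [Matrix.toLin'_apply]; exact apply_invariant hUx (hmem.1 hu).1, ?_⟩
    rw [Matrix.toLin'_apply]
    conv_lhs => rw [← hxv]
    simp only [QuadraticMap.polar, ← mulVec_add, hxQ]
    exact (hmem.1 hu).2
  have hsup : Submodule.span F {v} ⊔ U₀ = U := by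
    refine le_antisymm (sup_le ((Submodule.span_singleton_le_iff_mem _ _).2 hvU) inf_le_left) fun w hw => ?_
    rw [show w = (polar ⇑Q w v / (2 * Q v)) • v + (w - (polar ⇑Q w v / (2 * Q v)) • v) by abel]
    exact Submodule.add_mem_sup (Submodule.smul_mem _ _ (Submodule.mem_span_singleton_self v)) (hdec w hw)
  have hv00 : v ≠ 0 := fun h => hQv (by rw [h, QuadraticMap.map_zero])
  have hdisj : Submodule.span F {v} ⊓ U₀ = ⊥ := disjoint_iff.1 ((Submodule.disjoint_span_singleton' hv00).2 hvnot).symm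
  have hfd : finrank F U₀ = 2 * a := by
    have := Submodule.finrank_sup_add_finrank_inf_eq (Submodule.span F {v}) U₀
    rw [hsup, hdisj, finrank_bot, finrank_span_singleton hv00, hdim] at this
    omega
  have hU₀n : Cfsg.Geo.IsNondegenerateOn (polar ⇑Q) U₀ := fun u hu hu0 => by
    obtain ⟨-, y, hy, hne⟩ := hU u (hmem.1 hu).1 hu0
    have key : polar ⇑Q u (y - (polar ⇑Q y v / (2 * Q v)) • v) ≠ 0 := by
      rwa [polar_sub_right, polar_smul_right, QuadraticMap.polar_comm (f := ⇑Q) u v, (hmem.1 hu).2, smul_zero, sub_zero]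
    exact ⟨⟨_, hdec y hy, by rwa [QuadraticMap.polar_comm]⟩, ⟨_, hdec y hy, key⟩⟩
  have hsame : ∀ k, 1 ≤ k → imDim (nil x) U₀ k = imDim (nil x) U k := fun k hk => by
    unfold imDim
    conv_rhs => rw [← hsup, Submodule.map_sup, Submodule.map_span, Set.image_singleton]
    rw [show (nil x ^ k) v = 0 from by
      rw [← Nat.sub_add_cancel hk, pow_succ, Module.End.mul_apply, hv0, map_zero],
      Submodule.span_zero_singleton, bot_sup_eq]
  refine ⟨v, hvU, hQv, hv0, U₀, inf_le_left, hfd, hU₀n, ?_, fun u hu => ?_, hdec⟩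
  · refine CfsgLib.OrthUnipotent.isPlusTypeOn_of_square_zero hp (isNQF hQ) (fun w _ => hxQ w) hU₀x ?_ ?_
    · exact (hsame 2 (by norm_num)).trans h2
    · rw [hfd, ← h1, show imDim (Matrix.toLin' ((x : Matrix ι ι F) - 1)) U₀ 1 = _ from hsame 1 le_rfl]
  · rw [QuadraticMap.polar_comm]
    exact (hmem.1 hu).2

/-- Two such spaces are isometric when there is only one line of fixed anisotropic vectors. -/
theorem one_twos_isometric (hp : p ≠ 2) (hQ : Q.polarBilin.Nondegenerate) {x : GL ι F}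
    (hxQ : ∀ v, Q ((x : Matrix ι ι F) *ᵥ v) = Q v)
    (hr : Fintype.card ι + imDim (nil x) ⊤ 2 = 2 * imDim (nil x) ⊤ 1 + 1)
    {U₁ U₂ : Submodule F (ι → F)} (hU₁ : Cfsg.Geo.IsNondegenerateOn (polar ⇑Q) U₁)
    (hU₁x : Inv (x : Matrix ι ι F) U₁) (hU₂ : Cfsg.Geo.IsNondegenerateOn (polar ⇑Q) U₂)
    (hU₂x : Inv (x : Matrix ι ι F) U₂) {a : ℕ} (hd₁ : finrank F U₁ = 2 * a + 1) (hd₂ : finrank F U₂ = 2 * a + 1)
    (h₁₁ : imDim (nil x) U₁ 1 = a) (h₁₂ : imDim (nil x) U₁ 2 = 0)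
    (h₂₁ : imDim (nil x) U₂ 1 = a) (h₂₂ : imDim (nil x) U₂ 2 = 0) :
    Cfsg.Geo.AreIsometricFor (⇑Q) U₁ U₂ := by
  have h2F : (2 : F) ≠ 0 := fun h => hp
    ((Nat.prime_dvd_prime_iff_eq hp'.out Nat.prime_two).1 ((CharP.cast_eq_zero_iff F p 2).1 (by exact_mod_cast h)))
  obtain ⟨v, hvU, hQv, hv0, A, hAU, hAd, hAn, hAp, hAv, hAdec⟩ :=
    one_twos_struct hp hQ hxQ hU₁ hU₁x hd₁ h₁₁ h₁₂
  obtain ⟨w, hwU, hQw, hw0, B, hBU, hBd, hBn, hBp, hBw, -⟩ :=
    one_twos_struct hp hQ hxQ hU₂ hU₂x hd₂ h₂₁ h₂₂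
  obtain ⟨-, e, he⟩ := (inClass_iff_type hQ hAn hAd B).2 ⟨hBd, hBn, iff_of_true hBp hAp⟩
  have hxfix : ∀ {u}, nil x u = 0 → (x : Matrix ι ι F) *ᵥ u = u := fun h => sub_eq_zero.1 (by rw [← nil_apply]; exact h)
  have horth : ∀ {u} y, nil x u = 0 → polar ⇑Q u (nil x y) = 0 := fun {u} y hu => by
    rw [nil_apply, polar_sub_right]
    conv_lhs => enter [1]; rw [← hxfix hu]
    simp only [QuadraticMap.polar, ← mulVec_add, hxQ]
    ring
  obtain ⟨c, hc0, hc⟩ : ∃ c : F, c ≠ 0 ∧ c * c * Q w = Q v := by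
    have e1 := imDim_succ_add (nil x) ⊤ 0
    have e2 := imDim_succ_add (nil x) ⊤ 1
    rw [imDim_zero, finrank_top, Module.finrank_fintype_fun_eq_card, Nat.zero_add, pow_zero,
      show (1 : Module.End F (ι → F)) = LinearMap.id from rfl, Submodule.map_id, top_inf_eq] at e1
    rw [pow_one, Submodule.map_top, show 1 + 1 = 2 from rfl] at e2
    set K := LinearMap.ker (nil x)
    set R := LinearMap.range (nil x)
    have hvR : v ∉ R := by
      rintro ⟨y, hy⟩
      have := horth y hv0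
      rw [hy, polar_self'] at this
      exact mul_ne_zero h2F hQv this
    have hv00 : v ≠ 0 := fun h => hQv (by rw [h, QuadraticMap.map_zero])
    have hKeq : Submodule.span F {v} ⊔ (R ⊓ K) = K := by
      refine Submodule.eq_of_le_of_finrank_eq
        (sup_le ((Submodule.span_singleton_le_iff_mem _ _).2 hv0) inf_le_right) ?_
      have hdis : Submodule.span F {v} ⊓ (R ⊓ K) = ⊥ :=
        disjoint_iff.1 ((Submodule.disjoint_span_singleton' hv00).2 fun h => hvR (Submodule.mem_inf.1 h).1).symm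
      have := Submodule.finrank_sup_add_finrank_inf_eq (Submodule.span F {v}) (R ⊓ K)
      rw [hdis, finrank_bot, finrank_span_singleton hv00] at this
      omega
    obtain ⟨s, hs, z, hz, hsz⟩ := Submodule.mem_sup.1 (hKeq.symm ▸ hw0 : w ∈ Submodule.span F {v} ⊔ (R ⊓ K))
    obtain ⟨t, rfl⟩ := Submodule.mem_span_singleton.1 hs
    obtain ⟨⟨y, rfl⟩, hzK⟩ := hz
    have hzz : Q (nil x y) = 0 := by
      have := horth y hzK
      rw [polar_self'] at this
      exact (mul_eq_zero.1 this).resolve_left h2F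
    have hQw' : Q w = t * t * Q v := by
      rw [← hsz, QuadraticMap.map_add (f := ⇑Q), QuadraticMap.map_smul, hzz, polar_smul_left,
        horth y hv0, smul_eq_mul, smul_zero, add_zero, add_zero]
    have ht : t ≠ 0 := fun h => hQw (by rw [hQw', h]; ring)
    exact ⟨t⁻¹, inv_ne_zero ht, by rw [hQw']; field_simp⟩
  let coef : (ι → F) →ₗ[F] F := (2 * Q v)⁻¹ • Q.polarBilin.flip v
  have hcoef : ∀ u, coef u = polar ⇑Q u v / (2 * Q v) := fun u => by simp [coef, div_eq_inv_mul]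
  let pr : U₁ →ₗ[F] A := LinearMap.codRestrict A
    (U₁.subtype - (coef.comp U₁.subtype).smulRight v) fun u => by
      simp only [LinearMap.sub_apply, Submodule.subtype_apply, LinearMap.smulRight_apply, LinearMap.comp_apply,
        hcoef]
      exact hAdec u u.2
  let f : U₁ →ₗ[F] U₂ := LinearMap.codRestrict U₂
    ((coef.comp U₁.subtype).smulRight (c • w) + B.subtype.comp (e.toLinearMap.comp pr)) fun u =>
      U₂.add_mem (U₂.smul_mem _ (U₂.smul_mem _ hwU)) (hBU (e (pr u)).2)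
  have hfQ : ∀ u : U₁, Q (f u : ι → F) = Q (u : ι → F) := fun u => by
    have hu : (u : ι → F) = coef u • v + (pr u : ι → F) := by
      simp [pr]
    conv_rhs => rw [hu]
    show Q (coef u • (c • w) + (e (pr u) : ι → F)) = _
    rw [QuadraticMap.map_add (f := ⇑Q), QuadraticMap.map_add (f := ⇑Q), he, polar_smul_left, polar_smul_left,
      polar_smul_left, QuadraticMap.polar_comm (f := ⇑Q) w, hBw _ (e (pr u)).2,
      QuadraticMap.polar_comm (f := ⇑Q) v, hAv _ (pr u).2, smul_zero, smul_zero,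
      QuadraticMap.map_smul, QuadraticMap.map_smul, QuadraticMap.map_smul, ← hc, smul_eq_mul, smul_eq_mul,
      smul_eq_mul]
  have hfi : Function.Injective f := by
    rw [← LinearMap.ker_eq_bot, Submodule.eq_bot_iff]
    intro u hu
    by_contra h0
    obtain ⟨-, y, hy, hne⟩ := hU₁ u u.2 fun h => h0 (Subtype.ext h)
    refine hne ?_
    have h1 : ∀ u' : U₁, polar ⇑Q (u : ι → F) u' = polar ⇑Q (f u : ι → F) (f u') := fun u' => by
      simp only [QuadraticMap.polar, ← hfQ, ← Submodule.coe_add, ← map_add]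
    rw [h1 ⟨y, hy⟩, LinearMap.mem_ker.1 hu]
    simp [QuadraticMap.polar_zero_left]
  exact ⟨LinearMap.linearEquivOfInjective f hfi (hd₁.trans hd₂.symm), fun u => by
    rw [LinearMap.linearEquivOfInjective_apply]; exact hfQ u⟩

/-- Some element of order `p` fixes members of at most one class of subspaces of given odd dimension. -/
theorem exists_one_class (hp : p ≠ 2) (hQ : Q.polarBilin.Nondegenerate) {d m : ℕ} (hd : 4 ≤ d)
    (hn : Fintype.card ι = 2 * d) (hm : Odd m) :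
    ∃ x : GL ι F, x ∈ Cfsg.Geo.omegaGL ⇑Q ∧ x ^ p = 1 ∧ (∀ z : F, (x : Matrix ι ι F) ≠ z • 1) ∧
      ∀ W₁ W₂ : Submodule F (ι → F), finrank F W₁ = m → finrank F W₂ = m →
        Cfsg.Geo.IsNondegenerateOn (polar ⇑Q) W₁ → Cfsg.Geo.IsNondegenerateOn (polar ⇑Q) W₂ →
        Inv (x : Matrix ι ι F) W₁ → Inv (x : Matrix ι ι F) W₂ → Cfsg.Geo.AreIsometricFor (⇑Q) W₁ W₂ := by
  have hp3 : 3 ≤ p := by have := hp'.out.two_le; omega
  rw [Nat.odd_iff] at hm
  obtain ⟨a, b, c, hab, hc, hs, hlo⟩ : ∃ a b c : ℕ, ((a = 1 ∧ b = 3 ∧ d % 2 = 0) ∨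
      (a = 3 ∧ b = 3 ∧ d % 2 = 1 ∧ m % 4 = 1) ∨ (a = 1 ∧ b = 1 ∧ d % 2 = 1 ∧ m % 4 = 3)) ∧
      Even c ∧ a + b + 2 * c = 2 * d ∧ 1 ≤ c := by
    rcases Nat.mod_two_eq_zero_or_one d with hd' | hd'
    · exact ⟨1, 3, d - 2, Or.inl ⟨rfl, rfl, hd'⟩, Nat.even_iff.2 (by omega), by omega, by omega⟩
    · by_cases hm4 : m % 4 = 1
      · exact ⟨3, 3, d - 3, Or.inr (Or.inl ⟨rfl, rfl, hd', hm4⟩), Nat.even_iff.2 (by omega), by omega, by omega⟩
      · exact ⟨1, 1, d - 1, Or.inr (Or.inr ⟨rfl, rfl, hd', by omega⟩), Nat.even_iff.2 (by omega), by omega,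
          by omega⟩
  obtain ⟨x, hx, hxp, hxQ, hns, hprof, hsub⟩ := exists_elt (μ := a ::ₘ b ::ₘ Multiset.replicate c 2) hp hQ
    (by
      intro e he
      rcases Multiset.mem_cons.1 he with rfl | he
      · omega
      rcases Multiset.mem_cons.1 he with rfl | he
      · omega
      · rw [Multiset.eq_of_mem_replicate he]; omega)
    (fun e he => two_count_even hc (Nat.odd_iff.2 (by omega)) (Nat.odd_iff.2 (by omega)) e he)
    ⟨a, Multiset.mem_cons_self _ _, Nat.odd_iff.2 (by omega)⟩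
    (by simp only [Multiset.sum_cons, Multiset.sum_replicate, smul_eq_mul]; omega)
    ⟨2, Multiset.mem_cons_of_mem (Multiset.mem_cons_of_mem (Multiset.mem_replicate.2 ⟨by omega, rfl⟩)), by omega⟩
  refine ⟨x, hx, hxp, hns, ?_⟩
  -- the member or complement with parts `1, 2, …, 2`
  have key : ∀ U : Submodule F (ι → F), Cfsg.Geo.IsNondegenerateOn (polar ⇑Q) U → Inv (x : Matrix ι ι F) U →
      finrank F U % 4 = (if d % 2 = 0 then 1 else m % 4) →
      d % 2 = 0 ∧ ∃ e, finrank F U = 2 * (2 * e) + 1 ∧ imDim (nil x) U 1 = 2 * e ∧ imDim (nil x) U 2 = 0 := by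
    intro U hU hUx hU4
    obtain ⟨ν, hνle, hνs, hνe, hνp⟩ := hsub U hU hUx
    obtain ⟨i, -, hν⟩ := sub_cases hνle
    clear hνle
    obtain ⟨e, rfl⟩ := even_of_count (by omega) (by omega) hν hνe
    rcases hν with rfl | rfl | rfl | rfl <;>
      simp only [Multiset.sum_cons, Multiset.sum_replicate, smul_eq_mul] at hνs <;>
      rcases hab with ⟨ha1, hb3, hd2⟩ | ⟨ha1, hb3, hd2, hm4⟩ | ⟨ha1, hb3, hd2, hm4⟩ <;>
      simp only [hd2, if_true, Nat.one_ne_zero, if_false] at hU4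
    all_goals try omega
    refine ⟨hd2, e, by omega, ?_, ?_⟩
    · rw [← hνp]; simp [partProfile, ha1]; omega
    · rw [← hνp]; simp [partProfile, ha1]
  have hr : d % 2 = 0 → Fintype.card ι + imDim (nil x) ⊤ 2 = 2 * imDim (nil x) ⊤ 1 + 1 := fun hd2 => by
    obtain ⟨rfl, rfl, -⟩ | ⟨-, -, h, -⟩ | ⟨-, -, h, -⟩ := hab
    · rw [hprof, hprof]
      simp [partProfile]
      omega
    all_goals omega
  have pair : ∀ U₁ U₂ : Submodule F (ι → F), Cfsg.Geo.IsNondegenerateOn (polar ⇑Q) U₁ →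
      Inv (x : Matrix ι ι F) U₁ → Cfsg.Geo.IsNondegenerateOn (polar ⇑Q) U₂ → Inv (x : Matrix ι ι F) U₂ →
      finrank F U₁ = finrank F U₂ → finrank F U₁ % 4 = (if d % 2 = 0 then 1 else m % 4) →
      Cfsg.Geo.AreIsometricFor (⇑Q) U₁ U₂ := by
    intro U₁ U₂ h₁ h₁x h₂ h₂x he h4
    obtain ⟨hd2, e, hd₁, h₁₁, h₁₂⟩ := key U₁ h₁ h₁x h4
    obtain ⟨-, e', hd₂, h₂₁, h₂₂⟩ := key U₂ h₂ h₂x (he ▸ h4)
    obtain rfl : e' = e := by omega
    exact one_twos_isometric hp hQ hxQ (hr hd2) h₁ h₁x h₂ h₂x hd₁ hd₂ h₁₁ h₁₂ h₂₁ h₂₂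
  intro W₁ W₂ hW₁d hW₂d hW₁ hW₂ hW₁x hW₂x
  by_cases hcase : d % 2 = 0 ∧ m % 4 = 3
  · obtain ⟨h₁', e₁, -⟩ := complement hQ hW₁
    obtain ⟨h₂', e₂, -⟩ := complement hQ hW₂
    have := isometric_of_orthogonal hQ (pair _ _ h₁' (inv_orthogonal hxQ hW₁x) h₂' (inv_orthogonal hxQ hW₂x)
      (by omega) (by rw [if_pos hcase.1]; omega))
    rwa [orthogonal_twice hQ, orthogonal_twice hQ] at this
  · exact pair W₁ W₂ hW₁ hW₁x hW₂ hW₂x (by omega) (by split_ifs <;> omega)

end CfsgLib.OrthFix57
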