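import Cfsg.Agent.Lib.OrthFix57.TS
import Cfsg.Agent.Lib.OrthFix57.SqNeg
import Cfsg.Agent.Lib.OrthFix57.Unip
import Cfsg.Agent.Lib.OrthFix57.Embed
import Cfsg.Agent.Lib.Sp.InvolutionClasses

/-!
Odd characteristic: involutory isometries, their membership in `Ω`, and their invariant totally
singular subspaces; the same for isometries squaring to `-1`.
-/

set_option autoImplicit false
set_option linter.unusedSectionVars false

namespace CfsgLib.OrthFix57

open Matrix QuadraticMap CfsgLib.Orth CfsgLib.OrthFix CfsgLib.PrimeClasses CfsgLib.QuadType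
open Module (finrank)
open Cfsg.Agent.Spinor57 (sqSign sqSign_mul sqSign_eq_one_iff prod_pair)

variable {F : Type*} [Field F] [Fintype F] {ι : Type} [Fintype ι] [DecidableEq ι]
  {Q : QuadraticForm F (ι → F)} {X : Matrix ι ι F}

theorem isSquare_mul_nonsquare {a b : F} (ha : ¬ IsSquare a) (hb : ¬ IsSquare b) : IsSquare (a * b) := by
  have ha0 : a ≠ 0 := fun e => ha (e ▸ IsSquare.zero)
  have hb0 : b ≠ 0 := fun e => hb (e ▸ IsSquare.zero)
  rw [← sqSign_eq_one_iff, sqSign_mul ha0 hb0,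
    (Int.units_eq_one_or _).resolve_left (mt (sqSign_eq_one_iff a).1 ha),
    (Int.units_eq_one_or _).resolve_left (mt (sqSign_eq_one_iff b).1 hb)]
  rfl

/-- The type of a diagonal form. -/
theorem wss_plus_iff (h2 : (2 : F) ≠ 0) {k : ℕ} {w : Fin k ⊕ Fin k → F} (hw : ∀ i, w i ≠ 0) :
    IsPlus (⇑(QuadraticMap.weightedSumSquares F w)) k ↔ IsSquare ((-1 : F) ^ k * ∏ i, w i) := by
  classical
  set G := QuadraticMap.weightedSumSquares F w
  let D : QuadraticForm F (Fin k ⊕ Fin k → F) :=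
    QuadraticMap.weightedSumSquares F (Sum.elim (fun _ => (1 : F)) fun _ => -1)
  have hDn : D.polarBilin.Nondegenerate := wss_nondeg h2 _ (by rintro (i | i) <;> simp)
  have hGn : G.polarBilin.Nondegenerate := wss_nondeg h2 _ hw
  have hDcoe : ⇑D = fun u : Fin k ⊕ Fin k → F => ∑ i, Sum.elim (fun _ => (1 : F)) (fun _ => -1) i * u i ^ 2 := by
    funext u; simp [D, pow_two]
  have hGcoe : ⇑G = fun u : Fin k ⊕ Fin k → F => ∑ i, w i * u i ^ 2 := by
    funext u; simp [G, pow_two]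
  have hD : IsPlus (⇑D) k := by
    let f : (Fin k → F) →ₗ[F] (Fin k ⊕ Fin k → F) := LinearMap.funLeft F F (Sum.elim id id)
    refine ⟨LinearMap.range f, ?_, ?_⟩
    · rintro _ ⟨a, rfl⟩
      simp [D, f, Fintype.sum_sum_type, LinearMap.funLeft_apply]
    · rw [LinearMap.finrank_range_of_inj (LinearMap.funLeft_injective_of_surjective F F _
        fun i => ⟨.inl i, rfl⟩)]
      simp
  set P : F := ∏ _i : Fin k ⊕ Fin k, (2 : F) with hPdef
  have hdetG : (CfsgLib.QuadFin.gram ⇑G).det = P * ∏ i, w i := by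
    rw [hGcoe, CfsgLib.QuadFin.gram_diag, Matrix.det_diagonal, Finset.prod_mul_distrib]
  have hdetD : (CfsgLib.QuadFin.gram ⇑D).det = P * (-1) ^ k := by
    rw [hDcoe, CfsgLib.QuadFin.gram_diag, Matrix.det_diagonal, Finset.prod_mul_distrib]
    congr 1
    simp [Fintype.prod_sum_type]
  have hP0 : P ≠ 0 := Finset.prod_ne_zero_iff.2 fun _ _ => h2
  constructor
  · intro h
    obtain ⟨a₀, c₀, hac⟩ := exists_anisotropic_binary (F := F)
    obtain ⟨e, he⟩ : QEquiv ⇑G ⇑D :=
      ((qEquiv_standard _ hGn (by simp [two_mul]) hac).1 h).symm.trans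
        ((qEquiv_standard _ hDn (by simp [two_mul]) hac).1 hD)
    have hg := CfsgLib.QuadFin.gram_det_comp D e
    rw [show (fun u => D (e u)) = ⇑G from funext he, hdetG, hdetD] at hg
    refine ⟨LinearMap.det e.toLinearMap, ?_⟩
    have h3 : ∏ i, w i = LinearMap.det e.toLinearMap ^ 2 * (-1) ^ k :=
      mul_left_cancel₀ hP0 (by linear_combination hg)
    rw [h3, mul_comm, mul_assoc, ← pow_add, Even.neg_one_pow ⟨k, rfl⟩, mul_one, pow_two]
  · intro h
    obtain ⟨g, hg⟩ := CfsgLib.OrthUnipotent.exists_isometry h2 D G hDn hGn (by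
      rw [hdetG, hdetD]
      obtain ⟨s, hs⟩ := h
      exact ⟨P * s, by linear_combination (P * P) * hs⟩)
    exact (isPlus_congr (f := ⇑G) ⟨g, hg⟩ k).2 hD

/-- The `-1`-eigenspace of an involution. -/
def negSp (X : Matrix ι ι F) : Submodule F (ι → F) := LinearMap.ker (X.mulVecLin + LinearMap.id)

/-- The fixed space of an involution. -/
def posSp (X : Matrix ι ι F) : Submodule F (ι → F) := LinearMap.ker (X.mulVecLin - LinearMap.id)

theorem mem_negSp {v : ι → F} : v ∈ negSp X ↔ X *ᵥ v = -v := by simp [negSp, add_eq_zero_iff_eq_neg]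

theorem mem_posSp {v : ι → F} : v ∈ posSp X ↔ X *ᵥ v = v := by simp [posSp, sub_eq_zero]

theorem negSp_inv : Inv X (negSp X) := by
  rintro _ ⟨v, hv, rfl⟩
  rw [Matrix.toLin'_apply, mem_negSp.1 hv]
  exact (negSp X).neg_mem hv

theorem posSp_inv : Inv X (posSp X) := by
  rintro _ ⟨v, hv, rfl⟩
  rw [Matrix.toLin'_apply, mem_posSp.1 hv]
  exact hv

theorem decomp (h2 : (2 : F) ≠ 0) (hX : X * X = 1) (v : ι → F) :
    (2⁻¹ : F) • (v + X *ᵥ v) ∈ posSp X ∧ (2⁻¹ : F) • (v - X *ᵥ v) ∈ negSp X ∧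
      (2⁻¹ : F) • (v + X *ᵥ v) + (2⁻¹ : F) • (v - X *ᵥ v) = v := by
  have hXX : X *ᵥ (X *ᵥ v) = v := by rw [mulVec_mulVec, hX, one_mulVec]
  refine ⟨mem_posSp.2 ?_, mem_negSp.2 ?_, ?_⟩
  · rw [mulVec_smul, mulVec_add, hXX, add_comm]
  · rw [mulVec_smul, mulVec_sub, hXX, ← smul_neg, neg_sub]
  · rw [← smul_add, add_add_sub_cancel, ← two_smul F v, smul_smul, inv_mul_cancel₀ h2, one_smul]

theorem eigen_perp (h2 : (2 : F) ≠ 0) (hXQ : ∀ v, Q (X *ᵥ v) = Q v) {u v : ι → F} (hu : u ∈ posSp X)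
    (hv : v ∈ negSp X) : polar ⇑Q u v = 0 := by
  have h : polar ⇑Q (X *ᵥ u) (X *ᵥ v) = polar ⇑Q u v := by simp only [QuadraticMap.polar, ← mulVec_add, hXQ]
  rw [mem_posSp.1 hu, mem_negSp.1 hv, QuadraticMap.polar_neg_right] at h
  have h' : (2 : F) * polar ⇑Q u v = 0 := by linear_combination -h
  exact (mul_eq_zero.1 h').resolve_left h2

/-- The two eigenspaces are non-degenerate, orthogonal and complementary. -/
theorem eigen_facts (h2 : (2 : F) ≠ 0) (hQ : Q.polarBilin.Nondegenerate) (hX : X * X = 1)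
    (hXQ : ∀ v, Q (X *ᵥ v) = Q v) :
    Cfsg.Geo.IsNondegenerateOn (polar ⇑Q) (posSp X) ∧ Cfsg.Geo.IsNondegenerateOn (polar ⇑Q) (negSp X) ∧
      LinearMap.BilinForm.orthogonal Q.polarBilin (posSp X) = negSp X ∧
      finrank F (posSp X) + finrank F (negSp X) = Fintype.card ι := by
  have hsup : posSp X ⊔ negSp X = ⊤ := eq_top_iff.2 fun v _ => by
    obtain ⟨h1, h3, h4⟩ := decomp h2 hX v
    rw [← h4]
    exact Submodule.add_mem_sup h1 h3
  have hdis : Disjoint (posSp X) (negSp X) := Submodule.disjoint_def.2 fun v h1 h3 => by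
    have h : v = -v := (mem_posSp.1 h1).symm.trans (mem_negSp.1 h3)
    funext a
    have := congrFun h a
    have h' : (2 : F) * v a = 0 := by simp only [Pi.neg_apply] at this; linear_combination this
    exact (mul_eq_zero.1 h').resolve_left h2
  have nd : ∀ A B : Submodule F (ι → F), A ⊔ B = ⊤ → (∀ a ∈ A, ∀ b ∈ B, polar ⇑Q a b = 0) →
      Cfsg.Geo.IsNondegenerateOn (polar ⇑Q) A := fun A B hAB ho u hu hu0 => by
    obtain ⟨v, hv, hne⟩ : ∃ v ∈ A, polar ⇑Q u v ≠ 0 := by
      by_contra hno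
      push Not at hno
      refine hu0 (hQ.1 u fun w => ?_)
      obtain ⟨a, ha, b, hb, rfl⟩ := Submodule.mem_sup.1 (hAB.ge (Submodule.mem_top (x := w)))
      rw [polarBilin_apply_apply, polar_add_right, hno a ha, ho u hu b hb, add_zero]
    exact ⟨⟨v, hv, by rwa [QuadraticMap.polar_comm]⟩, ⟨v, hv, hne⟩⟩
  have hP := nd _ _ hsup fun a ha b hb => eigen_perp h2 hXQ ha hb
  have hdim : finrank F (posSp X) + finrank F (negSp X) = Fintype.card ι := by
    rw [Submodule.finrank_add_eq_of_isCompl ⟨hdis, codisjoint_iff.2 hsup⟩, Module.finrank_fintype_fun_eq_card]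
  refine ⟨hP, nd _ _ (by rw [sup_comm]; exact hsup) fun a ha b hb => by
    rw [QuadraticMap.polar_comm]; exact eigen_perp h2 hXQ hb ha, ?_, hdim⟩
  obtain ⟨-, hd, -⟩ := complement hQ hP
  exact (Submodule.eq_of_le_of_finrank_eq (show negSp X ≤ LinearMap.BilinForm.orthogonal Q.polarBilin (posSp X)
    from fun v hv u hu => eigen_perp h2 hXQ hu hv) (by omega)).symm

/-- Membership in `Ω` of an involution, by the type of its `-1`-eigenspace. -/
theorem invol_mem_iff (h2 : (2 : F) ≠ 0) (hQ : Q.polarBilin.Nondegenerate) (hX : X * X = 1)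
    (x : O Q) (hxX : ∀ u, app x u = X *ᵥ u) :
    x ∈ Cfsg.Omega F ⇑Q ↔
      ∃ k, finrank F (negSp X) = 2 * k ∧ (Cfsg.Geo.IsPlusTypeOn (⇑Q) (negSp X) ↔ IsSquare ((-1 : F) ^ k)) := by
  classical
  have hXQ : ∀ u, Q (X *ᵥ u) = Q u := fun u => by rw [← hxX, Q_app]
  obtain ⟨-, hN, horth, -⟩ := eigen_facts h2 hQ hX hXQ
  obtain ⟨a, b, Q₁, Q₂, E, hE, hsE, ha, -⟩ := exists_splits hN
  obtain ⟨w, g, hw, hg⟩ := exists_diag h2 Q₁ (hE.nondeg_left hQ) (Fintype.card_fin a)
  set v : Fin a → ι → F := fun i => (summandEquiv E (g (Pi.single i 1)) : ι → F) with hvdef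
  have hvN : ∀ i, v i ∈ negSp X := fun i => hsE ▸ (summandEquiv E _).2
  have hQv : ∀ i, Q (v i) = w i := fun i => by
    rw [hvdef, hE.apply_summand, hg]
    simp [Pi.single_apply]
  have hv : ∀ i, Q (v i) ≠ 0 := fun i => by rw [hQv]; exact hw i
  have ho : ∀ i j, i ≠ j → polar ⇑Q (v i) (v j) = 0 := fun i j hij => by
    simp only [QuadraticMap.polar, hvdef, ← Submodule.coe_add, ← map_add, hE.apply_summand, hg, Pi.add_apply,
      ← Finset.sum_sub_distrib]
    refine Finset.sum_eq_zero fun l _ => ?_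
    by_cases h1 : l = i
    · subst h1; simp [hij]
    · by_cases h3 : l = j
      · subst h3; simp [h1]
      · simp [h1, h3]
  obtain ⟨d, hd⟩ := CfsgLib.OrthOmega.exists_not_square h2
  obtain ⟨y, hyv, hyfix, hyc⟩ := exists_neg_on v hv ho d Finset.univ
  have hspan : ∀ s ∈ negSp X, ∃ c : Fin a → F, ∑ i, c i • v i = s := fun s hs => by
    obtain ⟨u, hu⟩ := (summandEquiv E).surjective ⟨s, hsE.symm ▸ hs⟩
    obtain ⟨c, rfl⟩ := g.surjective u
    refine ⟨c, ?_⟩
    have h1 : c = ∑ i, c i • (Pi.single i 1 : Fin a → F) := by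
      funext l; simp [Finset.sum_apply, Pi.single_apply]
    rw [show s = (summandEquiv E (g c) : ι → F) from (congrArg Subtype.val hu).symm]
    conv_rhs => rw [h1]
    simp [v, map_sum, Submodule.coe_sum]
  have hxy : x = y := ext_app fun u => by
    obtain ⟨h1, h3, h4⟩ := decomp h2 hX u
    rw [hxX, ← h4, mulVec_add, map_add, mem_posSp.1 h1, mem_negSp.1 h3]
    congr 1
    · rw [hyfix _ fun i _ => eigen_perp h2 hXQ h1 (hvN i)]
    · obtain ⟨c, hc⟩ := hspan _ h3
      rw [← hc, map_sum, ← Finset.sum_neg_distrib]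
      exact Finset.sum_congr rfl fun i _ => by rw [map_smul, hyv i (Finset.mem_univ i), smul_neg]
  have hprod : ∏ i, w i ≠ 0 := Finset.prod_ne_zero_iff.2 fun i _ => hw i
  rw [CfsgLib.OrthOmega.mem_omega_odd hQ h2 hd, hxy, hyc,
    Finset.prod_congr rfl (fun i _ => chiPair_refl h2 hd (hv i)),
    prod_pair Finset.univ (fun i => Q (v i)) (fun i _ => hv i), Finset.card_univ, Fintype.card_fin]
  simp only [hQv, Prod.ext_iff, Prod.fst_one, Prod.snd_one, sqSign_eq_one_iff]
  have hfin : finrank F (negSp X) = a := ha.symm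
  rw [hfin]
  rcases Nat.even_or_odd' a with ⟨k, rfl | rfl⟩
  · rw [show (-1 : ℤˣ) ^ (2 * k) = 1 from (even_two_mul k).neg_one_pow, one_mul, sqSign_eq_one_iff, and_self]
    have hst : ∀ k', 2 * k = 2 * k' ∧ (Cfsg.Geo.IsPlusTypeOn (⇑Q) (negSp X) ↔ IsSquare ((-1 : F) ^ k')) ↔
        k' = k ∧ IsSquare (∏ i, w i) := by
      intro k'
      refine ⟨fun ⟨e, h⟩ => ⟨by omega, ?_⟩, fun ⟨e, h⟩ => ⟨by omega, ?_⟩⟩
      all_goals obtain rfl : k' = k := by omega
      all_goals
        let σ : Fin k' ⊕ Fin k' ≃ Fin (2 * k') := finSumFinEquiv.trans (finCongr (two_mul k').symm)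
      all_goals
        have hp : Cfsg.Geo.IsPlusTypeOn (⇑Q) (negSp X) ↔ IsSquare ((-1 : F) ^ k' * ∏ i, w i) := by
          rw [← hsE, hE.isPlusTypeOn_iff (k := k') (by simp),
            isPlus_congr (κ := Fin k' ⊕ Fin k') (g := ⇑(QuadraticMap.weightedSumSquares F fun i => w (σ i)))
              (f := ⇑Q₁) (⟨(LinearEquiv.funCongrLeft F F σ.symm).trans g, fun u => by
                rw [LinearEquiv.trans_apply, hg, QuadraticMap.weightedSumSquares_apply]
                refine (Fintype.sum_equiv σ _ _ fun i => ?_).symm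
                simp [pow_two]⟩) k',
            wss_plus_iff h2 (fun i => hw _), Equiv.prod_comp σ w]
      · rw [hp] at h
        by_cases hs : IsSquare ((-1 : F) ^ k')
        · have h' := (h.2 hs).mul hs
          rwa [mul_right_comm, ← pow_add, Even.neg_one_pow ⟨k', rfl⟩, one_mul] at h'
        · have h' : IsSquare ((((-1 : F) ^ k') * ∏ i, w i) * (-1) ^ k') :=
            isSquare_mul_nonsquare (mt h.1 hs) hs
          rwa [mul_right_comm, ← pow_add, Even.neg_one_pow ⟨k', rfl⟩, one_mul] at h'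
      · rw [hp]
        exact ⟨fun hh => by
          have h' := hh.mul h
          rw [mul_assoc] at h'
          obtain ⟨s, hs⟩ := h'
          exact ⟨s / ∏ i, w i, by rw [div_mul_div_comm, ← hs, mul_div_assoc, div_self (mul_ne_zero hprod hprod), mul_one]⟩,
          fun hh => hh.mul h⟩
    exact ⟨fun h => ⟨k, (hst k).2 ⟨rfl, h⟩⟩, fun ⟨k', h⟩ => ((hst k').1 h).2⟩
  · refine iff_of_false (fun h => ?_) fun ⟨k', h, _⟩ => by omega
    rw [show (-1 : ℤˣ) ^ (2 * k + 1) = -1 from (odd_two_mul_add_one k).neg_one_pow] at h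
    obtain ⟨h1, h3⟩ := h
    rw [(sqSign_eq_one_iff (∏ i, w i)).2 (by simpa [sqSign_eq_one_iff] using h3), mul_one] at h1
    exact absurd h1 (by decide)

/-- An involution negating a given non-degenerate subspace. -/
theorem exists_invol (h2 : (2 : F) ≠ 0) {S : Submodule F (ι → F)}
    (hS : Cfsg.Geo.IsNondegenerateOn (polar ⇑Q) S) :
    ∃ X : Matrix ι ι F, X * X = 1 ∧ (∀ v, Q (X *ᵥ v) = Q v) ∧ negSp X = S := by
  classical
  obtain ⟨a, b, Q₁, Q₂, E, hE, hsE, -, -⟩ := exists_splits hS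
  let D : Matrix (Fin a ⊕ Fin b) (Fin a ⊕ Fin b) F := fromBlocks (-1) 0 0 1
  let T : (ι → F) →ₗ[F] (ι → F) := E.toLinearMap.comp ((Matrix.toLin' D).comp E.symm.toLinearMap)
  have hT : ∀ v, LinearMap.toMatrix' T *ᵥ E v = E (D *ᵥ v) := fun v => by
    rw [LinearMap.toMatrix'_mulVec]; simp [T]
  have hD : ∀ v : Fin a ⊕ Fin b → F, D *ᵥ v = Sum.elim (-(v ∘ Sum.inl)) (v ∘ Sum.inr) := fun v => by
    rw [fromBlocks_mulVec]; simp [neg_mulVec]
  refine ⟨LinearMap.toMatrix' T, Matrix.ext_of_mulVec_single fun j => ?_, fun w => ?_, ?_⟩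
  · obtain ⟨v, hv⟩ := E.surjective (Pi.single j 1)
    rw [← hv, ← mulVec_mulVec, hT, hT, one_mulVec, mulVec_mulVec,
      show D * D = 1 by simp [D, fromBlocks_multiply, fromBlocks_one], one_mulVec]
  · obtain ⟨v, rfl⟩ := E.surjective w
    rw [hT, hE, hE, hD]
    simp [qSum]
  · ext w
    obtain ⟨v, rfl⟩ := E.surjective w
    rw [mem_negSp, hT, ← hsE, mem_summand, E.symm_apply_apply, ← map_neg E, E.injective.eq_iff, hD]
    constructor
    · intro h
      funext k
      have h' := congrFun h (Sum.inr k)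
      simp at h'
      have h'' : (2 : F) * v (Sum.inr k) = 0 := by linear_combination h'
      exact (mul_eq_zero.1 h'').resolve_left h2
    · intro h
      funext k
      rcases k with k | k
      · simp
      · simp [show v (Sum.inr k) = 0 from congrFun h k]

/-- An invariant singular subspace of an involution splits. -/
theorem invol_ts_split (h2 : (2 : F) ≠ 0) (hX : X * X = 1) {W : Submodule F (ι → F)} (hWX : Inv X W) :
    finrank F W = finrank F (W ⊓ posSp X : Submodule F (ι → F)) + finrank F (W ⊓ negSp X : Submodule F (ι → F)) := by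
  have hsup : (W ⊓ posSp X) ⊔ (W ⊓ negSp X) = W := le_antisymm (sup_le inf_le_left inf_le_left) fun v hv => by
    obtain ⟨h1, h3, h4⟩ := decomp h2 hX v
    have hXv := apply_invariant hWX hv
    rw [← h4]
    exact Submodule.add_mem_sup ⟨W.smul_mem _ (W.add_mem hv hXv), h1⟩ ⟨W.smul_mem _ (W.sub_mem hv hXv), h3⟩
  have hdis : Disjoint (W ⊓ posSp X) (W ⊓ negSp X) := Submodule.disjoint_def.2 fun v h1 h3 => by
    funext a
    have := congrFun ((mem_posSp.1 h1.2).symm.trans (mem_negSp.1 h3.2)) a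
    have h' : (2 : F) * v a = 0 := by simp only [Pi.neg_apply] at this; linear_combination this
    exact (mul_eq_zero.1 h').resolve_left h2
  have := Submodule.finrank_sup_add_finrank_inf_eq (W ⊓ posSp X) (W ⊓ negSp X)
  rw [hsup, hdis.eq_bot, finrank_bot, add_zero] at this
  exact this

/-- Singular subspaces of both eigenspaces add up to an invariant one. -/
theorem invol_ts_join (h2 : (2 : F) ≠ 0) (hXQ : ∀ v, Q (X *ᵥ v) = Q v) {T₁ T₂ : Submodule F (ι → F)}
    (h₁ : T₁ ≤ posSp X) (h₂ : T₂ ≤ negSp X) (q₁ : ∀ t ∈ T₁, Q t = 0) (q₂ : ∀ t ∈ T₂, Q t = 0) :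
    finrank F (T₁ ⊔ T₂ : Submodule F (ι → F)) = finrank F T₁ + finrank F T₂ ∧
      (∀ t ∈ T₁ ⊔ T₂, Q t = 0) ∧ Inv X (T₁ ⊔ T₂) := by
  have hdis : Disjoint T₁ T₂ := Submodule.disjoint_def.2 fun v h1 h3 => by
    funext a
    have := congrFun ((mem_posSp.1 (h₁ h1)).symm.trans (mem_negSp.1 (h₂ h3))) a
    have h' : (2 : F) * v a = 0 := by simp only [Pi.neg_apply] at this; linear_combination this
    exact (mul_eq_zero.1 h').resolve_left h2
  refine ⟨?_, fun t ht => ?_, ?_⟩
  · have := Submodule.finrank_sup_add_finrank_inf_eq T₁ T₂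
    rwa [hdis.eq_bot, finrank_bot, add_zero] at this
  · obtain ⟨u, hu, v, hv, rfl⟩ := Submodule.mem_sup.1 ht
    rw [QuadraticMap.map_add (f := ⇑Q), q₁ u hu, q₂ v hv, eigen_perp h2 hXQ (h₁ hu) (h₂ hv)]
    simp
  · rintro _ ⟨t, ht, rfl⟩
    obtain ⟨u, hu, v, hv, rfl⟩ := Submodule.mem_sup.1 ht
    rw [Matrix.toLin'_apply, mulVec_add, mem_posSp.1 (h₁ hu), mem_negSp.1 (h₂ hv)]
    exact Submodule.add_mem_sup hu (T₂.neg_mem hv)

/-- An invariant subspace of an isometry squaring to `-1` is even-dimensional when `-1` is not a square. -/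
theorem even_of_sqNeg_invariant (hX : X * X = -1) (hsq : ¬ IsSquare (-1 : F)) {W : Submodule F (ι → F)}
    (hWX : Inv X W) : Even (finrank F W) := by
  let T : W →ₗ[F] W := (Matrix.toLin' X).restrict (p := W) (q := W) fun v hv => by
    rw [Matrix.toLin'_apply]; exact apply_invariant hWX hv
  have hT : T * T = (-1 : F) • (1 : Module.End F W) := LinearMap.ext fun w => Subtype.ext (by
    show X *ᵥ (X *ᵥ (w : ι → F)) = (-1 : F) • (w : ι → F)
    rw [mulVec_mulVec, hX, neg_mulVec, one_mulVec, neg_one_smul])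
  have h := congrArg LinearMap.det hT
  rw [map_mul, LinearMap.det_smul, map_one, mul_one] at h
  rcases Nat.even_or_odd (finrank F W) with he | ho
  · exact he
  · rw [ho.neg_one_pow] at h
    exact absurd ⟨_, h.symm⟩ hsq

theorem sum_pairs (e : ℕ) (f : ℕ → F) :
    ∑ i ∈ Finset.range (2 * e), f i = ∑ l ∈ Finset.range e, (f (2 * l) + f (2 * l + 1)) := by
  induction e with
  | zero => simp
  | succ e ih => rw [show 2 * (e + 1) = 2 * e + 1 + 1 by ring, Finset.sum_range_succ, Finset.sum_range_succ,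
      Finset.sum_range_succ, ih]; ring

/-- Invariant singular subspaces of every even dimension up to half. -/
theorem exists_sqNeg_ts (h2 : (2 : F) ≠ 0) (hQ : Q.polarBilin.Nondegenerate) (hX : X * X = -1)
    (hXQ : ∀ v, Q (X *ᵥ v) = Q v) {e : ℕ} (he : 4 * e ≤ Fintype.card ι) :
    ∃ W : Submodule F (ι → F), finrank F W = 2 * e ∧ (∀ w ∈ W, Q w = 0) ∧ Inv X W := by
  classical
  obtain ⟨k, v, hk, hv⟩ := exists_frame h2 hQ hX hXQ
  have hek : 2 * e ≤ k := by omega
  set c : Fin k → F := fun i => Q (v i)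
  choose s t hst using fun l : Fin e => CfsgLib.SpInvClasses.exists_two_sq h2
    (-c ⟨2 * l.val, by omega⟩ / c ⟨2 * l.val + 1, by omega⟩)
  let Θ : (Fin e ⊕ Fin e → F) →ₗ[F] (Fin k ⊕ Fin k → F) :=
    { toFun := fun z => Sum.elim
        (fun i => if h : i.val / 2 < e then
          (if i.val % 2 = 0 then z (.inl ⟨i.val / 2, h⟩)
            else s ⟨i.val / 2, h⟩ * z (.inl ⟨i.val / 2, h⟩) - t ⟨i.val / 2, h⟩ * z (.inr ⟨i.val / 2, h⟩))
          else 0)
        (fun i => if h : i.val / 2 < e then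
          (if i.val % 2 = 0 then z (.inr ⟨i.val / 2, h⟩)
            else t ⟨i.val / 2, h⟩ * z (.inl ⟨i.val / 2, h⟩) + s ⟨i.val / 2, h⟩ * z (.inr ⟨i.val / 2, h⟩))
          else 0)
      map_add' := fun u w => by
        funext i; rcases i with i | i <;> simp only [Sum.elim_inl, Sum.elim_inr, Pi.add_apply] <;>
          split_ifs <;> ring
      map_smul' := fun b u => by
        funext i; rcases i with i | i <;> simp only [Sum.elim_inl, Sum.elim_inr, Pi.smul_apply, smul_eq_mul,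
          RingHom.id_apply] <;> split_ifs <;> ring }
  have hinj : Function.Injective Θ := fun u w h => by
    funext l
    rcases l with l | l
    · have := congrFun h (.inl ⟨2 * l.val, by omega⟩)
      simpa [Θ] using this
    · have := congrFun h (.inr ⟨2 * l.val, by omega⟩)
      simpa [Θ] using this
  have hnull : ∀ z, circ k c (Θ z) = 0 := fun z => by
    rw [circ_apply]
    let f : ℕ → F := fun i => if h : i < k then
      c ⟨i, h⟩ * (Θ z (.inl ⟨i, h⟩) * Θ z (.inl ⟨i, h⟩) + Θ z (.inr ⟨i, h⟩) * Θ z (.inr ⟨i, h⟩)) else 0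
    rw [Finset.sum_congr rfl (fun (i : Fin k) _ => show _ = f i.val by simp [f]), Fin.sum_univ_eq_sum_range f k,
      show k = 2 * e + (k - 2 * e) by omega, Finset.sum_range_add, sum_pairs]
    rw [Finset.sum_eq_zero (fun l hl => ?_), Finset.sum_eq_zero (fun j _ => ?_), add_zero]
    · simp only [f]
      split_ifs with h
      · simp [Θ, show ¬ (2 * e + j) / 2 < e by omega]
      · rfl
    · rw [Finset.mem_range] at hl
      have hc1 : c ⟨2 * l + 1, by omega⟩ ≠ 0 := hv.aniso _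
      have h := hst ⟨l, hl⟩
      rw [eq_div_iff hc1] at h
      simp [f, Θ, show 2 * l < k by omega, show 2 * l + 1 < k by omega, hl,
        show (2 * l + 1) / 2 = l by omega, show (2 * l + 1) % 2 = 1 by omega]
      linear_combination (z (.inl ⟨l, hl⟩) * z (.inl ⟨l, hl⟩) + z (.inr ⟨l, hl⟩) * z (.inr ⟨l, hl⟩)) * h
  have hcomm : ∀ z, rot (Θ z) = Θ (rot z) := fun z => by
    funext i
    rcases i with i | i <;> simp only [rot, Θ, LinearMap.coe_mk, AddHom.coe_mk, Sum.elim_inl, Sum.elim_inr] <;>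
      split_ifs <;> ring
  refine ⟨LinearMap.range ((comb X v).comp Θ), ?_, ?_, ?_⟩
  · rw [LinearMap.finrank_range_of_inj (f := (comb X v).comp Θ)
      (fun u w h => hinj (comb_injective hX hXQ h2 hv h)), Module.finrank_fintype_fun_eq_card]
    simp [two_mul]
  · rintro _ ⟨z, rfl⟩
    rw [LinearMap.comp_apply, Q_comb hX hXQ h2 hv]
    exact hnull z
  · rintro _ ⟨_, ⟨z, rfl⟩, rfl⟩
    exact ⟨rot z, by rw [Matrix.toLin'_apply, LinearMap.comp_apply, LinearMap.comp_apply, X_comb hX, hcomm]⟩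

/-- Invariant singular subspaces of every dimension up to half when `-1` is a square. -/
theorem exists_sqNeg_ts_split (h2 : (2 : F) ≠ 0) (hQ : Q.polarBilin.Nondegenerate) (hX : X * X = -1)
    (hXQ : ∀ v, Q (X *ᵥ v) = Q v) (hsq : IsSquare (-1 : F)) {j : ℕ} (hj : 2 * j ≤ Fintype.card ι) :
    ∃ W : Submodule F (ι → F), finrank F W = j ∧ (∀ w ∈ W, Q w = 0) ∧ Inv X W := by
  obtain ⟨i, hi⟩ := hsq
  let K : F → Submodule F (ι → F) := fun s => LinearMap.ker (X.mulVecLin - s • LinearMap.id)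
  have hmem : ∀ s v, v ∈ K s ↔ X *ᵥ v = s • v := fun s v => by simp [K, sub_eq_zero]
  have hts : ∀ s : F, s * s = -1 → ∀ v ∈ K s, Q v = 0 := fun s hs v hv => by
    have h := hXQ v
    rw [(hmem s v).1 hv, QuadraticMap.map_smul, hs, smul_eq_mul] at h
    have h' : (2 : F) * Q v = 0 := by linear_combination -h
    exact (mul_eq_zero.1 h').resolve_left h2
  have hcov : ∀ v, v ∈ K i ⊔ K (-i) := fun v => by
    have e : v = (2⁻¹ : F) • (v - i • (X *ᵥ v)) + (2⁻¹ : F) • (v + i • (X *ᵥ v)) := by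
      rw [← smul_add, sub_add_add_cancel, ← two_smul F v, smul_smul, inv_mul_cancel₀ h2, one_smul]
    rw [e]
    refine Submodule.add_mem_sup ((K i).smul_mem _ ((hmem _ _).2 ?_)) ((K (-i)).smul_mem _ ((hmem _ _).2 ?_))
    · rw [mulVec_sub, mulVec_smul, X_X hX, smul_sub, smul_smul, ← hi]
      simp only [neg_smul, one_smul, smul_neg, sub_neg_eq_add]
      abel
    · rw [mulVec_add, mulVec_smul, X_X hX, smul_add, smul_smul, neg_mul, ← hi]
      simp only [neg_smul, neg_neg, one_smul, smul_neg]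
      abel
  have h1 := Submodule.finrank_add_le_finrank_add_finrank (K i) (K (-i))
  rw [show K i ⊔ K (-i) = ⊤ from eq_top_iff.2 fun v _ => hcov v, finrank_top, Module.finrank_fintype_fun_eq_card] at h1
  have htop : Cfsg.Geo.IsNondegenerateOn (polar ⇑Q) ⊤ := fun u _ hu => by
    obtain ⟨v, hv⟩ : ∃ v, polar ⇑Q u v ≠ 0 := by
      by_contra hno
      push Not at hno
      exact hu (hQ.1 u hno)
    exact ⟨⟨v, trivial, by rwa [QuadraticMap.polar_comm]⟩, ⟨v, trivial, hv⟩⟩
  have hb : ∀ s : F, s * s = -1 → 2 * finrank F (K s) ≤ Fintype.card ι := fun s hs => by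
    have := ts_le htop le_top (hts s hs)
    rwa [finrank_top, Module.finrank_fintype_fun_eq_card] at this
  have b1 := hb i hi.symm
  have b2 := hb (-i) (by rw [neg_mul_neg, ← hi])
  obtain ⟨W, hW, hWd⟩ := exists_sub_finrank (K i) (j := j) (by omega)
  refine ⟨W, hWd, fun w hw => hts i hi.symm w (hW hw), ?_⟩
  rintro _ ⟨w, hw, rfl⟩
  rw [Matrix.toLin'_apply, (hmem i w).1 (hW hw)]
  exact W.smul_mem _ hw

end CfsgLib.OrthFix57
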