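import Cfsg.Agent.Lib.OrthFix57.TSInvol
import Cfsg.Agent.Lib.OrthFix.SqNegOne

/-!
The prime two in odd characteristic: witnesses and building blocks for fixed totally singular subspaces.
-/

set_option autoImplicit false
set_option linter.unusedSectionVars false

namespace CfsgLib.OrthFix57

open Matrix QuadraticMap CfsgLib.OrthFix CfsgLib.PrimeClasses CfsgLib.QuadType
open Module (finrank)

variable {F : Type*} [Field F] [Fintype F] {ι : Type} [Fintype ι] [DecidableEq ι]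
  {Q : QuadraticForm F (ι → F)} {X : Matrix ι ι F}

/-- The `-1`-eigenspace of an involution in `Ω`. -/
theorem negSp_type (h2 : (2 : F) ≠ 0) (hQ : Q.polarBilin.Nondegenerate) {x : GL ι F}
    (hx : x ∈ Cfsg.Geo.omegaGL ⇑Q) (hX : (x : Matrix ι ι F) * x = 1) :
    ∃ k, finrank F (negSp (x : Matrix ι ι F)) = 2 * k ∧
      (Cfsg.Geo.IsPlusTypeOn (⇑Q) (negSp (x : Matrix ι ι F)) ↔ IsSquare ((-1 : F) ^ k)) := by
  obtain ⟨g, hg, rfl⟩ := hx
  exact (invol_mem_iff h2 hQ hX g fun u => CfsgLib.Orth.app_apply g u).1 hg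

/-- An element of `Ω` from a matrix. -/
theorem exists_omega_invol (h2 : (2 : F) ≠ 0) (hQ : Q.polarBilin.Nondegenerate) (hX : X * X = 1)
    (hXQ : ∀ v, Q (X *ᵥ v) = Q v) {k : ℕ} (hk : finrank F (negSp X) = 2 * k)
    (ht : Cfsg.Geo.IsPlusTypeOn (⇑Q) (negSp X) ↔ IsSquare ((-1 : F) ^ k)) :
    ∃ x : GL ι F, (x : Matrix ι ι F) = X ∧ x ∈ Cfsg.Geo.omegaGL ⇑Q := by
  let x : GL ι F := ⟨X, X, hX, hX⟩
  let g : CfsgLib.Orth.O Q := ⟨x, fun u _ => hXQ u⟩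
  exact ⟨x, rfl, g, (invol_mem_iff h2 hQ hX g fun u => CfsgLib.Orth.app_apply g u).2 ⟨k, hk, ht⟩, rfl⟩

/-- Projective involutions square to `1` or `-1`. -/
theorem sq_cases (hQ : Q.polarBilin.Nondegenerate) (hι : 0 < Fintype.card ι) {x : GL ι F}
    (hx : x ∈ Cfsg.Geo.omegaGL ⇑Q) {z : F} (hz : ((x ^ 2 : GL ι F) : Matrix ι ι F) = z • (1 : Matrix ι ι F)) :
    (x : Matrix ι ι F) * x = 1 ∨ (x : Matrix ι ι F) * x = -1 := by
  have hxQ := isometry_of_mem_omegaGL hx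
  have hz1 : z * z = 1 := scalar_sq_eq_one hQ hι fun u => by
    have := (pow_mem hxQ 2 : x ^ 2 ∈ Cfsg.isometryGroup F (⇑Q)) u u
    simpa [hz, smul_mulVec] using this
  rw [← pow_two, ← Units.val_pow_eq_pow_val, hz]
  rcases mul_self_eq_one_iff.1 hz1 with rfl | rfl
  · exact Or.inl (one_smul _ _)
  · exact Or.inr (by rw [neg_smul, one_smul])

/-- An invariant singular subspace from the two eigenspaces. -/
theorem invol_ts_exists (h2 : (2 : F) ≠ 0) (hQ : Q.polarBilin.Nondegenerate) (hX : X * X = 1)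
    (hXQ : ∀ v, Q (X *ᵥ v) = Q v) {j₁ j₂ : ℕ}
    (h₁ : j₁ = 0 ∨ 2 * j₁ + 2 ≤ finrank F (posSp X) ∨ (Odd (finrank F (posSp X)) ∧ 2 * j₁ + 1 ≤ finrank F (posSp X)) ∨
      (Cfsg.Geo.IsPlusTypeOn (⇑Q) (posSp X) ∧ 2 * j₁ ≤ finrank F (posSp X)))
    (h₂ : j₂ = 0 ∨ 2 * j₂ + 2 ≤ finrank F (negSp X) ∨ (Odd (finrank F (negSp X)) ∧ 2 * j₂ + 1 ≤ finrank F (negSp X)) ∨
      (Cfsg.Geo.IsPlusTypeOn (⇑Q) (negSp X) ∧ 2 * j₂ ≤ finrank F (negSp X))) :
    ∃ W : Submodule F (ι → F), finrank F W = j₁ + j₂ ∧ (∀ w ∈ W, Q w = 0) ∧ Inv X W := by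
  obtain ⟨hP, hN, -, -⟩ := eigen_facts h2 hQ hX hXQ
  obtain ⟨T₁, t₁, q₁, d₁⟩ := exists_ts hQ hP h₁
  obtain ⟨T₂, t₂, q₂, d₂⟩ := exists_ts hQ hN h₂
  obtain ⟨hd, hq, hi⟩ := invol_ts_join h2 hXQ t₁ t₂ q₁ q₂
  exact ⟨T₁ ⊔ T₂, by rw [hd, d₁, d₂], hq, hi⟩

/-- An involution of `Ω` negating an anisotropic plane, for `q ≡ 3 (mod 4)`. -/
theorem exists_minus_witness (h2 : (2 : F) ≠ 0) (hQ : Q.polarBilin.Nondegenerate) (hn : 3 ≤ Fintype.card ι)
    (hsq : ¬ IsSquare (-1 : F)) :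
    ∃ x : GL ι F, x ∈ Cfsg.Geo.omegaGL ⇑Q ∧ (x : Matrix ι ι F) * x = 1 ∧
      (∀ z : F, (x : Matrix ι ι F) ≠ z • (1 : Matrix ι ι F)) ∧
      finrank F (negSp (x : Matrix ι ι F)) = 2 ∧ ¬ Cfsg.Geo.IsPlusTypeOn (⇑Q) (negSp (x : Matrix ι ι F)) := by
  obtain ⟨S, hSd, hS, hSp⟩ := exists_minus_subspace h2 Q hQ (k := 1) le_rfl (by omega)
  obtain ⟨X, hX, hXQ, hneg⟩ := exists_invol (Q := Q) h2 hS
  obtain ⟨x, rfl, hx⟩ := exists_omega_invol h2 hQ hX hXQ (k := 1) (by rw [hneg, hSd])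
    (by rw [hneg, pow_one]; exact iff_of_false hSp hsq)
  refine ⟨x, hx, hX, fun z hz => ?_, by rw [hneg, hSd], by rwa [hneg]⟩
  obtain ⟨hP, hN, -, hdim⟩ := eigen_facts h2 hQ hX hXQ
  rw [hneg, hSd] at hdim
  have hex : ∀ U : Submodule F (ι → F), 0 < finrank F U → ∃ v ∈ U, v ≠ 0 := fun U hU => by
    refine Submodule.exists_mem_ne_zero_of_ne_bot fun e => ?_
    rw [e, finrank_bot] at hU; omega
  obtain ⟨u, hu, hu0⟩ := hex (posSp (x : Matrix ι ι F)) (by omega)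
  obtain ⟨v, hv, hv0⟩ := hex (negSp (x : Matrix ι ι F)) (by rw [hneg, hSd]; omega)
  have h1 := mem_posSp.1 hu
  have h3 := mem_negSp.1 hv
  rw [hz, smul_mulVec, one_mulVec] at h1 h3
  have e1 : z = 1 := smul_left_injective F hu0 (show z • u = (1 : F) • u by rw [h1, one_smul])
  rw [e1, one_smul] at h3
  refine hv0 (funext fun a => ?_)
  have := congrFun h3 a
  have h' : (2 : F) * v a = 0 := by simp only [Pi.neg_apply] at this; linear_combination this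
  exact (mul_eq_zero.1 h').resolve_left h2

/-- An element of `Ω` squaring to `-1`. -/
theorem exists_sqNeg_witness (h2 : (2 : F) ≠ 0) (hQ : Q.polarBilin.Nondegenerate) {k : ℕ}
    (hk : Fintype.card ι = 2 * k) (hk0 : 0 < k) (ht : IsPlus (⇑Q) k ↔ IsSquare ((-1 : F) ^ k))
    (hs : IsSquare ((2 : F) ^ k)) :
    ∃ x : GL ι F, x ∈ Cfsg.Geo.omegaGL ⇑Q ∧ (x : Matrix ι ι F) * x = -1 ∧
      (∀ z : F, (x : Matrix ι ι F) ≠ z • (1 : Matrix ι ι F)) := by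
  obtain ⟨X, hX, hXQ⟩ := exists_sqNeg h2 hQ hk ht
  let x : GL ι F := ⟨X, -X, by rw [mul_neg, hX, neg_neg], by rw [neg_mul, hX, neg_neg]⟩
  let g : CfsgLib.Orth.O Q := ⟨x, fun u _ => hXQ u⟩
  refine ⟨x, ⟨g, (mem_omega_iff h2 hQ g (fun u => CfsgLib.Orth.app_apply g u) hX hk).2 hs, rfl⟩, hX, fun z hz => ?_⟩
  have : Nonempty ι := Fintype.card_pos_iff.1 (by omega)
  have hz' : X = z • 1 := hz
  have hz1 : z * z = 1 := scalar_sq_eq_one hQ (by omega) fun u => by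
    have := hXQ u
    rwa [hz', smul_mulVec, one_mulVec] at this
  rw [hz', smul_mul_smul_comm, one_mul, hz1, one_smul] at hX
  have h11 := congrFun (congrFun hX (Classical.arbitrary ι)) (Classical.arbitrary ι)
  simp at h11
  exact h2 (by linear_combination h11)

end CfsgLib.OrthFix57
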