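import Cfsg.Agent.Lib.OrthFix.Witness
import Cfsg.Agent.Lib.OrthFix.Subspaces
import Cfsg.Agent.Lib.OrthFix57.CharTwo
import Cfsg.Agent.Lib.Sp.InvolutionClasses

/-!
An involution of `Ω⁺(4e)` in characteristic two whose invariant non-degenerate subspaces have dimension divisible by four.
-/

set_option autoImplicit false
set_option linter.unusedSectionVars false

namespace CfsgLib.OrthFix57

open Matrix QuadraticMap CfsgLib.OrthFix CfsgLib.PrimeClasses CfsgLib.QuadType
open Module (finrank)

variable {F : Type*} [Field F]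

/-- A perfect matching. -/
def matchM (d : ℕ) (F : Type*) [Field F] : Matrix (Fin d) (Fin d) F :=
  Matrix.of fun i j => if i.val % 2 = 0 ∧ j.val = i.val + 1 then 1 else 0

theorem altM_match_ker {d : ℕ} (hd : Even d) {t : Fin d → F} (h : altM (matchM d F) *ᵥ t = 0) : t = 0 := by
  rw [Nat.even_iff] at hd
  funext i
  rcases Nat.mod_two_eq_zero_or_one i.val with hi | hi
  · have hlt : i.val + 1 < d := by omega
    have := congrFun h ⟨i.val + 1, hlt⟩
    rw [altM, sub_mulVec] at this
    simp only [Pi.sub_apply, Matrix.mulVec, dotProduct, matchM, of_apply, transpose_apply, ite_mul, one_mul,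
      zero_mul] at this
    rw [Finset.sum_eq_zero (fun b _ => if_neg (by omega)), zero_sub,
      Finset.sum_eq_single i (fun b _ hb => if_neg fun e => hb (Fin.ext (by omega))) (by simp),
      if_pos ⟨hi, rfl⟩] at this
    simpa using this
  · have := congrFun h ⟨i.val - 1, by omega⟩
    rw [altM, sub_mulVec] at this
    simp only [Pi.sub_apply, Matrix.mulVec, dotProduct, matchM, of_apply, transpose_apply, ite_mul, one_mul,
      zero_mul] at this
    rw [Finset.sum_eq_single i (fun b _ hb => if_neg fun e => hb (Fin.ext (by omega))) (by simp),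
      if_pos ⟨by omega, by omega⟩, Finset.sum_eq_zero (fun b _ => if_neg (by omega)), sub_zero] at this
    simpa using this

variable {ι : Type} [Fintype ι] [DecidableEq ι]

/-- An alternate involution moving everything into the singular subspace of its fixed vectors. -/
theorem even_of_invariant [CharP F 2] {Q : QuadraticForm F (ι → F)} {X : Matrix ι ι F}
    {L : Submodule F (ι → F)} (hL : Cfsg.Geo.IsTotallySingularQuad (⇑Q) L) (hmov : ∀ v, X *ᵥ v - v ∈ L)
    (hfix : ∀ v, X *ᵥ v = v → v ∈ L) (halt : ∀ v, polar ⇑Q (X *ᵥ v - v) v = 0) {W : Submodule F (ι → F)}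
    (hW : Inv X W) (hnd : Cfsg.Geo.IsNondegenerateOn (polar ⇑Q) W) {j : ℕ} (hj : finrank F W = 2 * j) :
    Even j := by
  let g : W →ₗ[F] (ι → F) := (Matrix.toLin' X - LinearMap.id).comp W.subtype
  have hg : ∀ w : W, g w = X *ᵥ (w : ι → F) - w := fun w => by simp [g]
  have hgW : ∀ w : W, g w ∈ W := fun w => hg w ▸ W.sub_mem (apply_invariant hW w.2) w.2
  set L' : Submodule F W := L.comap W.subtype
  have hperp : ∀ u ∈ L, ∀ v ∈ L, polar ⇑Q u v = 0 := fun u hu v hv => by
    simp [QuadraticMap.polar, hL u hu, hL v hv, hL _ (L.add_mem hu hv)]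
  -- the totally singular part has at most half the dimension
  have hle : 2 * finrank F L' ≤ finrank F W := by
    let M : L' →ₗ[F] Module.Dual F W :=
      ((Q.polarBilin.compl₁₂ W.subtype W.subtype).comp L'.subtype)
    have hM : Function.Injective M := by
      rw [injective_iff_map_eq_zero]
      intro u hu
      by_contra h0
      obtain ⟨-, v, hv, hne⟩ := hnd (u : ι → F) u.1.2 fun e => h0 (Subtype.ext (Subtype.ext e))
      exact hne (LinearMap.congr_fun hu ⟨v, hv⟩)
    have hann : LinearMap.range M ≤ L'.dualAnnihilator := by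
      rintro _ ⟨u, rfl⟩
      rw [Submodule.mem_dualAnnihilator]
      exact fun v hv => hperp _ u.2 _ hv
    have h1 := Submodule.finrank_mono hann
    rw [LinearMap.finrank_range_of_inj hM] at h1
    have := Subspace.finrank_add_finrank_dualAnnihilator_eq L'
    omega
  have hker : LinearMap.ker g ≤ L' := fun w hw => hfix _ (sub_eq_zero.1 ((hg w).symm.trans hw))
  have hrange : finrank F (LinearMap.range g) ≤ finrank F L' := by
    rw [← Submodule.finrank_map_subtype_eq W L']
    refine Submodule.finrank_mono ?_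
    rintro _ ⟨w, rfl⟩
    exact ⟨⟨g w, hgW w⟩, (show g w ∈ L from hg w ▸ hmov _), rfl⟩
  have hsum := LinearMap.finrank_range_add_finrank_ker g
  have hkd := Submodule.finrank_mono hker
  obtain ⟨C, hC⟩ := Submodule.exists_isCompl (LinearMap.ker g)
  have hCd := Submodule.finrank_add_eq_of_isCompl hC
  let β : LinearMap.BilinForm F C :=
    Q.polarBilin.compl₁₂ (g.comp C.subtype) (W.subtype.comp C.subtype)
  have hβA : β.IsAlt := fun c => by
    show polar ⇑Q (g (c : W)) _ = 0
    rw [hg]
    exact halt _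
  have hβN : LinearMap.SeparatingLeft β := fun c hc => by
    have hgc : g c = 0 := by
      by_contra h0
      obtain ⟨-, v, hv, hne⟩ := hnd (g c) (hgW c) h0
      obtain ⟨k₀, hk₀, c₀, hc₀, hv'⟩ := Submodule.mem_sup.1 (hC.sup_eq_top.ge (Submodule.mem_top (x := (⟨v, hv⟩ : W))))
      refine hne ?_
      have e : v = (k₀ : ι → F) + (c₀ : ι → F) := congrArg Subtype.val hv'.symm
      rw [e, polar_add_right, hperp _ (hg (c : W) ▸ hmov _) (k₀ : ι → F) (hker hk₀), zero_add]
      exact hc ⟨c₀, hc₀⟩
    exact Subtype.ext (Submodule.disjoint_def.1 hC.disjoint (c : W) hgc c.2)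
  obtain ⟨k, hk⟩ := CfsgLib.SpInvClasses.even_finrank (F := F) (V := C) β hβA hβN
  exact ⟨k, by omega⟩

variable [Fintype F]

/-- The witness. -/
theorem exists_invol_four_only [CharP F 2] {d : ℕ} (hd : Even d) (hd3 : 3 ≤ d) :
    ∃ x : GL (Fin d ⊕ Fin d) F, x ∈ Cfsg.Geo.omegaGL (Cfsg.quadFormPlus d F) ∧ x ^ 2 = 1 ∧
      (∀ z : F, (x : Matrix (Fin d ⊕ Fin d) (Fin d ⊕ Fin d) F) ≠ z • 1) ∧
      ∀ W : Submodule F (Fin d ⊕ Fin d → F), Inv (x : Matrix (Fin d ⊕ Fin d) (Fin d ⊕ Fin d) F) W →
        Cfsg.Geo.IsNondegenerateOn (polar (Cfsg.quadFormPlus d F)) W →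
          ∀ j, finrank F W = 2 * j → Even j := by
  refine ⟨upGL (matchM d F), upGL_mem_omega hd3 _, upGL_pow_char (p := 2) _, fun z hz => ?_, fun W hW hnd j hj => ?_⟩
  · have h1 := congrFun (congrFun hz (Sum.inl ⟨0, by omega⟩)) (Sum.inr ⟨1, by omega⟩)
    simp [upGL_coe, altM, matchM] at h1
  · let L : Submodule F (Fin d ⊕ Fin d → F) := LinearMap.ker (LinearMap.funLeft F F Sum.inr)
    have hL : ∀ u, u ∈ L ↔ u ∘ Sum.inr = 0 := fun u => Iff.rfl
    rw [← CfsgLib.Orth.plusQ_coe] at hnd
    have hmove : ∀ v, (upGL (matchM d F) : Matrix (Fin d ⊕ Fin d) (Fin d ⊕ Fin d) F) *ᵥ v - v =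
        Sum.elim (altM (matchM d F) *ᵥ (v ∘ Sum.inr)) 0 := fun v => by
      rw [upGL_mulVec]
      funext i
      rcases i with i | i <;> simp
    refine even_of_invariant (Q := CfsgLib.Orth.plusQ d F) (L := L) (fun u hu => ?_) (fun v => ?_)
      (fun v hv => ?_) (fun v => ?_) hW hnd hj
    · rw [CfsgLib.Orth.plusQ_coe, plus_eq_dotProduct, (hL u).1 hu, dotProduct_zero]
    · rw [hL, hmove]; rfl
    · rw [hL]
      refine altM_match_ker hd ?_
      have := congrArg (· ∘ Sum.inl) ((hmove v).symm.trans (sub_eq_zero.2 hv))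
      simpa using this
    · rw [hmove]
      simp only [QuadraticMap.polar, CfsgLib.Orth.plusQ_coe, plus_eq_dotProduct, Pi.add_comp, Sum.elim_comp_inl,
        Sum.elim_comp_inr, dotProduct_zero, sub_zero, zero_add, add_dotProduct, altM_quad]
      ring

end CfsgLib.OrthFix57
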